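import Mathlib

/-!
An abelian group on which a commutative group acts transitively up to sign is the additive group
of a field on which the group acts by scalars.
-/

set_option autoImplicit false

namespace Cfsg.Agent.ReeSylowThree

universe u v w

variable {A : Type u} [AddCommGroup A] {W : Type v} [CommGroup W]

/-- The endomorphisms commuting with an action. -/
def scalarRing (ρ : W →* AddMonoid.End A) : Subring (AddMonoid.End A) :=
  Subring.centralizer (Set.range ρ)

theorem mem_scalarRing {ρ : W →* AddMonoid.End A} {φ : AddMonoid.End A} :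
    φ ∈ scalarRing ρ ↔ ∀ h a, φ (ρ h a) = ρ h (φ a) := by
  simp only [scalarRing, Subring.mem_centralizer_iff, Set.mem_range, forall_exists_index,
    forall_apply_eq_imp_iff]
  exact ⟨fun h x a => (DFunLike.congr_fun (h x) a).symm,
    fun h x => AddMonoidHom.ext fun a => (h x a).symm⟩

/-- Scalars for an action transitive up to sign. -/
theorem exists_scalars [Finite A] (ρ : W →* AddMonoid.End A) {a₀ : A} (h₀ : a₀ ≠ 0)
    (horb : ∀ a : A, a ≠ 0 → ∃ h, a = ρ h a₀ ∨ a = -ρ h a₀)
    (E : Type w) [Field E] [Fintype E] (hcard : Nat.card E = Nat.card A) :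
    ∃ (e : A ≃+ E) (s : W →* Eˣ), ∀ h a, e (ρ h a) = (s h : E) * e a := by
  classical
  set R := scalarRing ρ with hR
  have hρ : ∀ h, ρ h ∈ R := fun h => mem_scalarRing.2 fun x a => by
    show (ρ h * ρ x) a = (ρ x * ρ h) a
    rw [← map_mul, ← map_mul, mul_comm]
  let ev : R →+ A :=
    { toFun := fun φ => (φ : AddMonoid.End A) a₀
      map_zero' := rfl
      map_add' := fun _ _ => rfl }
  have hinj : Function.Injective ev := (injective_iff_map_eq_zero _).2 fun φ hφ => by
    refine Subtype.ext (AddMonoidHom.ext fun a => ?_)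
    rcases eq_or_ne a 0 with rfl | ha
    · exact map_zero _
    obtain ⟨h, rfl | rfl⟩ := horb a ha
    · show (φ : AddMonoid.End A) (ρ h a₀) = 0
      rw [mem_scalarRing.1 φ.2, show (φ : AddMonoid.End A) a₀ = 0 from hφ, map_zero]
    · show (φ : AddMonoid.End A) (-ρ h a₀) = 0
      rw [map_neg, mem_scalarRing.1 φ.2, show (φ : AddMonoid.End A) a₀ = 0 from hφ, map_zero,
        neg_zero]
  have hsur : Function.Surjective ev := fun a => by
    rcases eq_or_ne a 0 with rfl | ha
    · exact ⟨0, map_zero ev⟩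
    obtain ⟨h, rfl | rfl⟩ := horb a ha
    · exact ⟨⟨ρ h, hρ h⟩, rfl⟩
    · exact ⟨-⟨ρ h, hρ h⟩, rfl⟩
  have hcomm : ∀ φ ψ : R, φ * ψ = ψ * φ := fun φ ψ => by
    apply hinj
    show (φ : AddMonoid.End A) ((ψ : AddMonoid.End A) a₀) =
      (ψ : AddMonoid.End A) ((φ : AddMonoid.End A) a₀)
    rcases eq_or_ne ((ψ : AddMonoid.End A) a₀) 0 with h | h
    · rw [show ψ = 0 from (injective_iff_map_eq_zero _).1 hinj ψ h]
      exact map_zero _
    obtain ⟨x, hx | hx⟩ := horb _ h
    · rw [show ψ = ⟨ρ x, hρ x⟩ from hinj hx]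
      exact mem_scalarRing.1 φ.2 x a₀
    · rw [show ψ = -⟨ρ x, hρ x⟩ from hinj hx]
      show (φ : AddMonoid.End A) (-ρ x a₀) = -ρ x ((φ : AddMonoid.End A) a₀)
      rw [map_neg, mem_scalarRing.1 φ.2]
  haveI : Finite R := Finite.of_injective ev hinj
  haveI : Nontrivial R := ⟨⟨1, 0, fun h => h₀ (congrArg ev h)⟩⟩
  haveI : NoZeroDivisors R := ⟨fun {φ ψ} hmul => by
    rcases eq_or_ne ((ψ : AddMonoid.End A) a₀) 0 with h | h
    · exact Or.inr ((injective_iff_map_eq_zero _).1 hinj ψ h)
    refine Or.inl (Subtype.ext (AddMonoidHom.ext fun a => ?_))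
    obtain ⟨χ, hχ⟩ := hsur a
    obtain ⟨x, hx⟩ := horb _ h
    have h0 : (φ : AddMonoid.End A) ((ψ : AddMonoid.End A) a₀) = 0 := congrArg ev hmul
    have h1 : (φ : AddMonoid.End A) a₀ = 0 := by
      have h2 : ρ x ((φ : AddMonoid.End A) a₀) = 0 := by
        rcases hx with hx | hx
        · rwa [hx, mem_scalarRing.1 φ.2] at h0
        · rwa [hx, map_neg, mem_scalarRing.1 φ.2, neg_eq_zero] at h0
      have h3 := congrArg (ρ x⁻¹) h2
      rw [map_zero] at h3
      have h4 : (ρ x⁻¹ * ρ x) ((φ : AddMonoid.End A) a₀) = 0 := h3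
      rwa [← map_mul, inv_mul_cancel, map_one] at h4
    rw [← hχ]
    show (φ : AddMonoid.End A) ((χ : AddMonoid.End A) a₀) = 0
    have := congrArg ev (hcomm φ χ)
    show ev (φ * χ) = 0
    rw [this]
    show (χ : AddMonoid.End A) ((φ : AddMonoid.End A) a₀) = 0
    rw [h1, map_zero]⟩
  letI : CommRing R := { (inferInstance : Ring R) with mul_comm := hcomm }
  haveI : IsDomain R := NoZeroDivisors.to_isDomain R
  letI : Field R := (Finite.isField_of_domain R).toField
  letI : Fintype R := Fintype.ofFinite R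
  obtain ⟨i⟩ : Nonempty (R ≃+* E) := ⟨FiniteField.ringEquivOfCardEq (by
    rw [← Nat.card_eq_fintype_card, ← Nat.card_eq_fintype_card, hcard]
    exact Nat.card_congr (Equiv.ofBijective ev ⟨hinj, hsur⟩))⟩
  let evE : R ≃+ A := AddEquiv.ofBijective ev ⟨hinj, hsur⟩
  refine ⟨evE.symm.trans i.toAddEquiv,
    (Units.map (i : R →* E)).comp (MonoidHom.toHomUnits
      ({ toFun := fun h => ⟨ρ h, hρ h⟩
         map_one' := Subtype.ext (map_one ρ)
         map_mul' := fun x y => Subtype.ext (map_mul ρ x y) } : W →* R)), fun h a => ?_⟩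
  obtain ⟨φ, rfl⟩ := evE.surjective a
  show i (evE.symm (ρ h (evE φ))) = i ⟨ρ h, hρ h⟩ * i (evE.symm (evE φ))
  rw [AddEquiv.symm_apply_apply, ← map_mul]
  congr 1
  exact evE.symm_apply_eq.2 rfl

end Cfsg.Agent.ReeSylowThree
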