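import Mathlib

/-!
No alternating trilinear form over a field of order `3 ^ f` factors through an equivariant
alternating bilinear map and has an injective weight.
-/

set_option autoImplicit false
set_option linter.style.haveILetI false
set_option linter.unusedSectionVars false

namespace Cfsg.Agent.ReeSylowThree

variable {E : Type*} [Field E] [Fintype E] {f : ℕ} [NeZero f] (hE : Fintype.card E = 3 ^ f)

/-- The power of the Frobenius map attached to `i`. -/
def pw (i : ZMod f) (x : E) : E := x ^ (3 ^ i.val)

theorem pw_mul (i : ZMod f) (x y : E) : pw i (x * y) = pw i x * pw i y := mul_pow ..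

include hE

theorem charP_three : CharP E 3 := by
  obtain ⟨p, hp⟩ := CharP.exists E
  obtain ⟨n, hpp, hn⟩ := FiniteField.card E p
  have hpd : p ∣ 3 ^ f := by
    rw [← hE, hn]
    exact dvd_pow_self p n.ne_zero
  rwa [(Nat.prime_dvd_prime_iff_eq hpp Nat.prime_three).1 (hpp.dvd_of_dvd_pow hpd)] at hp

theorem pw_add_apply (i : ZMod f) (x y : E) : pw i (x + y) = pw i x + pw i y := by
  haveI := charP_three hE
  haveI : Fact (Nat.Prime 3) := ⟨Nat.prime_three⟩
  exact add_pow_char_pow x y 3 i.val

theorem pw_sub_apply (i : ZMod f) (x y : E) : pw i (x - y) = pw i x - pw i y := by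
  haveI := charP_three hE
  haveI : Fact (Nat.Prime 3) := ⟨Nat.prime_three⟩
  exact sub_pow_char_pow x y i.val

theorem pw_pw (i j : ZMod f) (x : E) : pw i (pw j x) = pw (i + j) x := by
  unfold pw
  rw [← pow_mul, ← pow_add, ZMod.val_add, add_comm j.val i.val]
  conv_lhs => rw [← Nat.mod_add_div (i.val + j.val) f, pow_add, pow_mul x]
  rw [pow_mul 3, ← hE, FiniteField.pow_card_pow]

/-- The additive map of the coefficients `C`. -/
def frobSum : (ZMod f → E) →+ (E →+ E) where
  toFun C :=
    { toFun := fun x => ∑ i, C i * pw i x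
      map_zero' := by simp [pw]
      map_add' := fun x y => by simp [pw_add_apply hE, mul_add, Finset.sum_add_distrib] }
  map_zero' := by ext x; simp
  map_add' C C' := by ext x; simp [add_mul, Finset.sum_add_distrib]

theorem pw_indep {C : ZMod f → E} (h : ∀ x, ∑ i, C i * pw i x = 0) : C = 0 := by
  classical
  have hsmall : 3 ^ f - 1 ≤ 2 → ∀ i j : ZMod f, i = j := fun h i j => by
    have h3 : 3 ^ f ≤ 3 ^ 1 := by omega
    have h4 : f ≤ 1 := (Nat.pow_le_pow_iff_right (by norm_num)).1 h3
    have := i.val_lt
    have := j.val_lt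
    exact ZMod.val_injective f (by omega)
  let φ : ZMod f → (E →* E) := fun i => powMonoidHom (3 ^ i.val)
  have hinj : Function.Injective φ := by
    intro i j hij
    obtain ⟨g, hg⟩ := IsCyclic.exists_ofOrder_eq_natCard (α := Eˣ)
    rw [Nat.card_units, Nat.card_eq_fintype_card, hE] at hg
    have h1 : g ^ (3 ^ i.val) = g ^ (3 ^ j.val) := Units.ext (by
      simpa [φ] using DFunLike.congr_fun hij (g : E))
    have hlt : ∀ k : ZMod f, 3 ^ k.val < 3 ^ f - 1 ∨ 3 ^ f - 1 ≤ 2 := fun k => by
      have := Nat.pow_le_pow_right (show 0 < 3 by norm_num) (show k.val + 1 ≤ f from k.val_lt)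
      rw [pow_succ] at this
      omega
    rcases hlt i with hi | hi
    · rcases hlt j with hj | hj
      · have := pow_injOn_Iio_orderOf (x := g) (by simpa [hg] using hi) (by simpa [hg] using hj) h1
        exact ZMod.val_injective f (Nat.pow_right_injective (by norm_num) this)
      · exact hsmall hj i j
    · exact hsmall hi i j
  have hli := (linearIndependent_monoidHom E E).comp φ hinj
  funext i
  refine Fintype.linearIndependent_iff.1 hli C ?_ i
  funext x
  simpa [φ, pw, Finset.sum_apply] using h x

theorem frobSum_bijective : Function.Bijective (frobSum (f := f) hE) := by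
  classical
  haveI := charP_three hE
  haveI : Fact (Nat.Prime 3) := ⟨Nat.prime_three⟩
  letI : Algebra (ZMod 3) E := ZMod.algebra E 3
  let e : (E →ₗ[ZMod 3] E) ≃ (E →+ E) :=
    { toFun := fun g => g.toAddMonoidHom
      invFun := fun g => g.toZModLinearMap 3
      left_inv := fun g => by ext; rfl
      right_inv := fun g => by ext; rfl }
  haveI : Finite (E →+ E) := Finite.of_injective _ DFunLike.coe_injective
  have hinj : Function.Injective (frobSum (f := f) hE) :=
    (injective_iff_map_eq_zero _).2 fun C hC => pw_indep hE fun x => DFunLike.congr_fun hC x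
  have hn : Module.finrank (ZMod 3) E = f := by
    have h := Module.natCard_eq_pow_finrank (K := ZMod 3) (V := E)
    rw [Nat.card_eq_fintype_card, hE, Nat.card_zmod] at h
    exact (Nat.pow_right_injective le_add_self h).symm
  refine (Nat.bijective_iff_injective_and_card _).2 ⟨hinj, ?_⟩
  rw [← Nat.card_congr e, Nat.card_fun, Nat.card_eq_fintype_card, hE, Nat.card_zmod,
    Module.natCard_eq_pow_finrank (K := ZMod 3), Module.finrank_linearMap, hn, Nat.card_zmod,
    ← pow_mul]

/-- The coefficients of an additive map. -/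
noncomputable def coef : (E →+ E) ≃+ (ZMod f → E) :=
  (AddEquiv.ofBijective (frobSum (f := f) hE) (frobSum_bijective hE)).symm

theorem apply_eq_sum (g : E →+ E) (x : E) : g x = ∑ i, coef (f := f) hE g i * pw i x := by
  conv_lhs => rw [← (AddEquiv.ofBijective (frobSum (f := f) hE)
    (frobSum_bijective hE)).apply_symm_apply g]
  rfl

/-- The coefficients of a biadditive map. -/
theorem exists_bilinear (g : E →+ E →+ E) :
    ∃ C : ZMod f → ZMod f → E, ∀ a b, g a b = ∑ i, ∑ j, C i j * (pw i a * pw j b) := by
  let γ : ZMod f → (E →+ E) := fun j =>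
    (Pi.evalAddMonoidHom (fun _ : ZMod f => E) j).comp ((coef (f := f) hE).toAddMonoidHom.comp g)
  refine ⟨fun i j => coef (f := f) hE (γ j) i, fun a b => ?_⟩
  rw [apply_eq_sum (f := f) hE (g a), Finset.sum_comm]
  refine Finset.sum_congr rfl fun j _ => ?_
  show γ j a * pw j b = _
  rw [apply_eq_sum (f := f) hE (γ j), Finset.sum_mul]
  exact Finset.sum_congr rfl fun i _ => by ring

theorem indep₂ {C : ZMod f → ZMod f → E}
    (h : ∀ a b, ∑ i, ∑ j, C i j * (pw i a * pw j b) = 0) : C = 0 := by
  funext i j
  have h1 : ∀ b, (fun i => ∑ j, C i j * pw j b) = 0 := fun b => pw_indep hE fun a => by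
    rw [← h a b]
    exact Finset.sum_congr rfl fun i _ => by
      rw [Finset.sum_mul]
      exact Finset.sum_congr rfl fun j _ => by ring
  exact congrFun (pw_indep hE fun b => congrFun (h1 b) i) j

theorem indep₃ {C : ZMod f → ZMod f → ZMod f → E}
    (h : ∀ a b d, ∑ i, ∑ k, ∑ l, C i k l * (pw i a * (pw k b * pw l d)) = 0) : C = 0 := by
  funext i k l
  have h1 : ∀ b d, (fun i => ∑ k, ∑ l, C i k l * (pw k b * pw l d)) = 0 := fun b d =>
    pw_indep hE fun a => by
      rw [← h a b d]
      exact Finset.sum_congr rfl fun i _ => by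
        rw [Finset.sum_mul]
        refine Finset.sum_congr rfl fun k _ => ?_
        rw [Finset.sum_mul]
        exact Finset.sum_congr rfl fun l _ => by ring
  exact congrFun (congrFun (indep₂ hE fun b d => congrFun (h1 b d) i) k) l

/-- An equivariant alternating biadditive map has at most one pair of exponents. -/
theorem exists_pair (χ : Eˣ → E) (c : E →+ E →+ E)
    (hc : ∀ (l : Eˣ) a b, c (l * a) (l * b) = χ l * c a b) (hca : ∀ a, c a a = 0) :
    ∃ x y : ZMod f, ∃ C : E, (C = 0 ∨ x ≠ y) ∧
      ∀ a b, c a b = C * (pw x a * pw y b - pw y a * pw x b) := by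
  classical
  haveI := charP_three hE
  obtain ⟨C, hC⟩ := exists_bilinear (f := f) hE c
  have hsym : ∀ i j, C j i = -C i j := by
    have h0 : (fun i j => C i j + C j i) = 0 := indep₂ hE fun a b => by
      have hab : c a b + c b a = 0 := by
        have h := hca (a + b)
        simp only [map_add, AddMonoidHom.add_apply, hca, zero_add, add_zero] at h
        rw [add_comm]
        exact h
      rw [← hab, hC a b, hC b a]
      conv_rhs => arg 2; rw [Finset.sum_comm]
      rw [← Finset.sum_add_distrib]
      refine Finset.sum_congr rfl fun i _ => ?_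
      rw [← Finset.sum_add_distrib]
      exact Finset.sum_congr rfl fun j _ => by ring
    intro i j
    exact eq_neg_of_add_eq_zero_right (congrFun (congrFun h0 i) j)
  have hdiag : ∀ i, C i i = 0 := fun i => by
    have h : (2 : E) * C i i = 0 := by linear_combination hsym i i
    have h3 : (3 : E) = 0 := by exact_mod_cast CharP.cast_eq_zero E 3
    linear_combination -h + C i i * h3
  have hw : ∀ (l : Eˣ) i j, C i j ≠ 0 → pw i (l : E) * pw j (l : E) = χ l := by
    intro l i j hij
    have h0 : (fun i j => C i j * (pw i (l : E) * pw j (l : E) - χ l)) = 0 :=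
      indep₂ hE fun a b => by
        have h := hc l a b
        rw [hC, hC, Finset.mul_sum, ← sub_eq_zero, ← Finset.sum_sub_distrib] at h
        rw [← h]
        refine Finset.sum_congr rfl fun i _ => ?_
        rw [Finset.mul_sum, ← Finset.sum_sub_distrib]
        exact Finset.sum_congr rfl fun j _ => by simp only [pw_mul]; ring
    exact sub_eq_zero.1 ((mul_eq_zero.1 (congrFun (congrFun h0 i) j)).resolve_left hij)
  by_cases hex : ∃ x y, C x y ≠ 0
  · obtain ⟨x, y, hxy⟩ := hex
    have hne : x ≠ y := fun e => hxy (e ▸ hdiag x)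
    refine ⟨x, y, C x y, Or.inr hne, fun a b => ?_⟩
    obtain ⟨g, hg⟩ := IsCyclic.exists_ofOrder_eq_natCard (α := Eˣ)
    rw [Nat.card_units, Nat.card_eq_fintype_card, hE] at hg
    have key : ∀ i j, C i j ≠ 0 → (i = x ∧ j = y) ∨ (i = y ∧ j = x) := by
      intro i j hij
      have hne' : i ≠ j := fun e => hij (e ▸ hdiag i)
      have hval : ∀ {i j : ZMod f}, i ≠ j → 3 ^ i.val + 3 ^ j.val < 3 ^ f - 1 := fun {i j} hij => by
        have hv : i.val ≠ j.val := fun e => hij (ZMod.val_injective f e)
        have hi := Nat.pow_le_pow_right (show 0 < 3 by norm_num) (show i.val + 1 ≤ f from i.val_lt)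
        have hj := Nat.pow_le_pow_right (show 0 < 3 by norm_num) (show j.val + 1 ≤ f from j.val_lt)
        rw [pow_succ] at hi hj
        rcases Nat.lt_or_gt_of_ne hv with h | h
        · have := Nat.pow_le_pow_right (show 0 < 3 by norm_num) (show i.val + 1 ≤ j.val from h)
          rw [pow_succ] at this
          have := Nat.one_le_pow i.val 3 (by norm_num)
          omega
        · have := Nat.pow_le_pow_right (show 0 < 3 by norm_num) (show j.val + 1 ≤ i.val from h)
          rw [pow_succ] at this
          have := Nat.one_le_pow j.val 3 (by norm_num)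
          omega
      have h1 : g ^ (3 ^ i.val + 3 ^ j.val) = g ^ (3 ^ x.val + 3 ^ y.val) := Units.ext (by
        have := (hw g i j hij).trans (hw g x y hxy).symm
        simpa [pw, pow_add] using this)
      have h2 := pow_injOn_Iio_orderOf (x := g) (by simpa [hg] using hval hne')
        (by simpa [hg] using hval hne) h1
      have h2' : ∑ k ∈ ({i.val, j.val} : Finset ℕ), 3 ^ k =
          ∑ k ∈ ({x.val, y.val} : Finset ℕ), 3 ^ k := by
        rw [Finset.sum_pair (fun e => hne' (ZMod.val_injective f e)),
          Finset.sum_pair (fun e => hne (ZMod.val_injective f e))]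
        exact h2
      have h3 := Finset.geomSum_injective (n := 3) (by norm_num) h2'
      have hi : i.val ∈ ({x.val, y.val} : Finset ℕ) := h3 ▸ Finset.mem_insert_self _ _
      have hj : j.val ∈ ({x.val, y.val} : Finset ℕ) := h3 ▸ by simp
      simp only [Finset.mem_insert, Finset.mem_singleton,
        (ZMod.val_injective f).eq_iff] at hi hj
      rcases hi with rfl | rfl <;> rcases hj with rfl | rfl
      · exact absurd rfl hne'
      · exact Or.inl ⟨rfl, rfl⟩
      · exact Or.inr ⟨rfl, rfl⟩
      · exact absurd rfl hne'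
    rw [hC, ← Finset.sum_product']
    rw [Finset.sum_eq_add (x, y) (y, x) (by simp [Prod.ext_iff, hne])
      (fun p _ hp => by
        have : C p.1 p.2 = 0 := by
          by_contra h
          rcases key _ _ h with ⟨h1, h2⟩ | ⟨h1, h2⟩
          · exact hp.1 (Prod.ext h1 h2)
          · exact hp.2 (Prod.ext h1 h2)
        simp [this]) (by simp) (by simp)]
    rw [hsym x y]
    ring
  · push Not at hex
    exact ⟨0, 0, 0, Or.inl rfl, fun a b => by simp [hC, hex]⟩

/-- An alternating trilinear map with an injective weight that factors through an equivariant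
alternating biadditive map is zero. -/
theorem trilinear_eq_zero (χ₂ : Eˣ → E) (χ : Eˣ →* Eˣ) (hχ : Function.Injective χ)
    (c D : E →+ E →+ E) (hc : ∀ (l : Eˣ) a b, c (l * a) (l * b) = χ₂ l * c a b)
    (hca : ∀ a, c a a = 0)
    (hT : ∀ (l : Eˣ) a b d, D (l * a) (c (l * b) (l * d)) = (χ l : E) * D a (c b d))
    (halt : ∀ a d, D a (c a d) = 0) : ∀ a b d, D a (c b d) = 0 := by
  classical
  obtain ⟨x, y, C, hxy, hcC⟩ := exists_pair hE χ₂ c hc hca
  rcases hxy with rfl | hxy
  · intro a b d; simp [hcC]
  obtain ⟨K, hK⟩ := exists_bilinear (f := f) hE D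
  set δ := x - y with hδ
  have hδ0 : δ ≠ 0 := sub_ne_zero.2 hxy
  let A : ZMod f → ZMod f → E := fun i l => K i (l - y) * pw (l - y) C
  let F : ZMod f → ZMod f → ZMod f → E := fun i k l =>
    (if k = l + δ then A i l else 0) - (if l = k + δ then A i k else 0)
  have hF : ∀ a b d, D a (c b d) = ∑ i, ∑ k, ∑ l, F i k l * (pw i a * (pw k b * pw l d)) := by
    intro a b d
    rw [hK]
    refine Finset.sum_congr rfl fun i _ => ?_
    have e1 : ∑ k, ∑ l, (if k = l + δ then A i l else 0) * (pw i a * (pw k b * pw l d)) =
        ∑ l, A i l * (pw i a * (pw (l + δ) b * pw l d)) := by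
      rw [Finset.sum_comm]
      exact Finset.sum_congr rfl fun l _ => by simp [ite_mul]
    have e2 : ∑ k, ∑ l, (if l = k + δ then A i k else 0) * (pw i a * (pw k b * pw l d)) =
        ∑ k, A i k * (pw i a * (pw k b * pw (k + δ) d)) :=
      Finset.sum_congr rfl fun k _ => by simp [ite_mul]
    simp only [F, sub_mul, Finset.sum_sub_distrib, e1, e2]
    rw [← Finset.sum_sub_distrib]
    refine Fintype.sum_equiv (Equiv.addRight y) _ _ fun j => ?_
    simp only [Equiv.coe_addRight, A, add_sub_cancel_right, hcC, pw_mul, pw_sub_apply hE, pw_pw hE,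
      show j + y + δ = j + x by rw [hδ]; ring]
    ring
  have hscale : ∀ (l0 : Eˣ) i k l, F i k l ≠ 0 →
      pw i (l0 : E) * (pw k (l0 : E) * pw l (l0 : E)) = (χ l0 : E) := by
    intro l0 i k l hne
    have h0 : (fun i k l => F i k l *
        (pw i (l0 : E) * (pw k (l0 : E) * pw l (l0 : E)) - (χ l0 : E))) = 0 :=
      indep₃ hE fun a b d => by
        have h := hT l0 a b d
        rw [hF, hF, Finset.mul_sum, ← sub_eq_zero, ← Finset.sum_sub_distrib] at h
        rw [← h]
        refine Finset.sum_congr rfl fun i _ => ?_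
        rw [Finset.mul_sum, ← Finset.sum_sub_distrib]
        refine Finset.sum_congr rfl fun k _ => ?_
        rw [Finset.mul_sum, ← Finset.sum_sub_distrib]
        exact Finset.sum_congr rfl fun l _ => by simp only [pw_mul]; ring
    exact sub_eq_zero.1
      ((mul_eq_zero.1 (congrFun (congrFun (congrFun h0 i) k) l)).resolve_left hne)
  have hswap : ∀ i k l, F i k l + F k i l = 0 := by
    have h0 : (fun i k l => F i k l + F k i l) = 0 := indep₃ hE fun a b d => by
      have hab : D a (c b d) + D b (c a d) = 0 := by
        have h := halt (a + b) d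
        simp only [map_add, AddMonoidHom.add_apply, halt, zero_add, add_zero] at h
        rw [add_comm]
        exact h
      rw [← hab, hF a b d, hF b a d]
      conv_rhs => arg 2; rw [Finset.sum_comm]
      rw [← Finset.sum_add_distrib]
      refine Finset.sum_congr rfl fun i _ => ?_
      rw [← Finset.sum_add_distrib]
      refine Finset.sum_congr rfl fun k _ => ?_
      rw [← Finset.sum_add_distrib]
      exact Finset.sum_congr rfl fun l _ => by ring
    exact fun i k l => congrFun (congrFun (congrFun h0 i) k) l
  have hpair : ∀ i k l, F i k l ≠ 0 → k = l + δ ∨ l = k + δ := by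
    intro i k l hne
    by_contra hc'
    push Not at hc'
    simp [F, hc'.1, hc'.2] at hne
  have hsw23 : ∀ i k l, F i l k = -F i k l := fun i k l => by simp [F]
  intro a b d
  rw [hF]
  refine Finset.sum_eq_zero fun i _ => Finset.sum_eq_zero fun k _ => Finset.sum_eq_zero fun l _ => ?_
  by_cases hne : F i k l = 0
  · simp [hne]
  exfalso
  have hne' : F k i l ≠ 0 := fun h => hne (by simpa [h] using hswap i k l)
  have hne'' : F k l i ≠ 0 := by rw [hsw23]; simpa using hne'
  have hne3 : F l k i ≠ 0 := fun h => hne'' (by simpa [h] using hswap l k i)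
  have p1 := hpair i k l hne
  have p2 := hpair k i l hne'
  have p3 := hpair l k i hne3
  obtain ⟨m, hm3, hset⟩ : ∃ m, δ + δ + δ = 0 ∧
      ∀ u : E, pw i u * (pw k u * pw l u) = pw m u * (pw (m + δ) u * pw (m + δ + δ) u) := by
    rcases p1 with e1 | e1 <;> rcases p2 with e2 | e2 <;> rcases p3 with e3 | e3
    · exact absurd (by linear_combination -e3 + e1 - e2) hδ0
    · exact absurd (by linear_combination -e3 - e1 + e2) hδ0
    · exact absurd (by linear_combination e3 - e1 - e2) hδ0
    · exact ⟨l, by linear_combination -e1 - e2 - e3, fun u => by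
        rw [show k = l + δ from e1, show i = l + δ + δ by linear_combination e3 + e1]; ring⟩
    · exact ⟨k, by linear_combination -e1 - e2 - e3, fun u => by
        rw [show l = k + δ from e1, show i = k + δ + δ by linear_combination e2 + e1]; ring⟩
    · exact absurd (by linear_combination e3 - e1 - e2) hδ0
    · exact absurd (by linear_combination -e3 - e1 + e2) hδ0
    · exact absurd (by linear_combination -e3 + e1 - e2) hδ0
  have hfix : ∀ u : Eˣ, pw δ (χ u : E) = (χ u : E) := fun u => by
    rw [← hscale u i k l hne, hset]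
    simp only [pw_mul, pw_pw hE]
    rw [show δ + m = m + δ by ring, show δ + (m + δ) = m + δ + δ by ring,
      show δ + (m + δ + δ) = m by linear_combination hm3]
    ring
  obtain ⟨g, hg⟩ := IsCyclic.exists_ofOrder_eq_natCard (α := Eˣ)
  rw [Nat.card_units, Nat.card_eq_fintype_card, hE] at hg
  have h1 : χ g ^ (3 ^ δ.val) = χ g ^ 1 := by
    rw [pow_one]
    exact Units.ext (by simpa [pw] using hfix g)
  rw [← map_pow, ← map_pow] at h1
  have hδv : 0 < δ.val := Nat.pos_of_ne_zero ((ZMod.val_eq_zero δ).not.2 hδ0)
  have hlt := Nat.pow_le_pow_right (show 0 < 3 by norm_num) (show δ.val + 1 ≤ f from δ.val_lt)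
  rw [pow_succ] at hlt
  have hge := Nat.pow_le_pow_right (show 0 < 3 by norm_num) hδv
  have := pow_injOn_Iio_orderOf (x := g) (by rw [Set.mem_Iio, hg]; omega)
    (by rw [Set.mem_Iio, hg]; omega) (hχ h1)
  omega

end Cfsg.Agent.ReeSylowThree
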