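import Mathlib
import Cfsg.Agent.Lib.ReeSylowThree.Trilinear
import Cfsg.Agent.Lib.ReeSylowThree.Scalars

/-!
A 3-group of class three with the torus action of a group of Ree type does not have exponent three.
-/

set_option autoImplicit false
set_option linter.style.haveILetI false

namespace Cfsg.Agent.ReeSylowThree

open Subgroup
open scoped commutatorElement

universe u

variable {P : Type u} [Group P]

/-- In a group of exponent three an element commutes with its conjugates. -/
theorem commute_conj_of_exponent (hexp : ∀ x : P, x ^ 3 = 1) (x y : P) :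
    Commute x (y * x * y⁻¹) := by
  have hinv : ∀ a : P, a * a = a⁻¹ := fun a => by
    refine eq_inv_of_mul_eq_one_left ?_
    simpa [pow_succ] using hexp a
  have h1 : ∀ a : P, x * (a * x * a⁻¹) * ((a * a) * x * (a * a)⁻¹) = 1 := fun a => by
    have h := hexp (x * a)
    have h2 := hexp a
    calc x * (a * x * a⁻¹) * ((a * a) * x * (a * a)⁻¹) = (x * a) ^ 3 * (a ^ 3)⁻¹ := by
          simp only [pow_succ, pow_zero, one_mul]; group
      _ = 1 := by rw [h, h2, inv_one, mul_one]
  have ha := h1 y
  have hb := h1 y⁻¹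
  rw [hinv, inv_inv] at hb
  rw [hinv] at ha
  simp only [inv_inv] at ha
  set A := y * x * y⁻¹
  set B := y⁻¹ * x * y
  have e1 : A * B = B * A := by
    rw [mul_assoc] at ha hb
    exact mul_left_cancel (ha.trans hb.symm)
  have e2 : A = (A * B)⁻¹ * A * (A * B) := by
    rw [mul_assoc, show A * (A * B) = A * B * A by rw [e1, ← mul_assoc, e1], inv_mul_cancel_left]
  have e3 : x = (A * B)⁻¹ := eq_inv_of_mul_eq_one_left (by rw [← mul_assoc]; exact ha)
  show x * A = A * x
  rw [e3]
  calc (A * B)⁻¹ * A = (A * B)⁻¹ * A * (A * B) * (A * B)⁻¹ := by group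
    _ = A * (A * B)⁻¹ := by rw [← e2]

variable [Finite P] {W : Type u} [CommGroup W] [Finite W]

set_option maxHeartbeats 1600000 in
theorem exponent_three_false (ρ : W →* MulAut P) {t : W} (ht : t ≠ 1) (ht2 : t * t = 1)
    (hinv : ∀ h : W, h * h = 1 → h = 1 ∨ h = t) {f : ℕ} (hf : Odd f) (hf3 : 3 ≤ f)
    (hW : Nat.card W = 3 ^ f - 1) (hexp : ∀ x : P, x ^ 3 = 1)
    (h1 : Nat.card P = 3 ^ f * Nat.card (_root_.commutator P))
    (h2 : Nat.card (_root_.commutator P) = 3 ^ f * Nat.card (⁅_root_.commutator P, (⊤ : Subgroup P)⁆ : Subgroup P))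
    (h3 : Nat.card (⁅_root_.commutator P, (⊤ : Subgroup P)⁆ : Subgroup P) = 3 ^ f)
    (hc : ⁅_root_.commutator P, (⊤ : Subgroup P)⁆ ≤ center P)
    (r1 : ∀ h, h ≠ 1 → ∀ p, ρ h p * p⁻¹ ∈ _root_.commutator P → p ∈ _root_.commutator P)
    (r2 : ∀ h, h ≠ 1 → h ≠ t → ∀ p ∈ _root_.commutator P,
      ρ h p * p⁻¹ ∈ ⁅_root_.commutator P, (⊤ : Subgroup P)⁆ →
        p ∈ ⁅_root_.commutator P, (⊤ : Subgroup P)⁆)
    (r2t : ∀ p ∈ _root_.commutator P, ρ t p * p⁻¹ ∈ ⁅_root_.commutator P, (⊤ : Subgroup P)⁆)
    (r3 : ∀ h, h ≠ 1 → ∀ p ∈ ⁅_root_.commutator P, (⊤ : Subgroup P)⁆, ρ h p = p → p = 1) :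
    False := by
  classical
  haveI : NeZero f := ⟨by omega⟩
  haveI : Fact (Nat.Prime 3) := ⟨Nat.prime_three⟩
  set q := 3 ^ f with hqdef
  have hq : 3 ≤ q := le_self_pow₀ (by norm_num) (by omega)
  set E := GaloisField 3 f
  letI : Fintype E := Fintype.ofFinite E
  have hEn : Nat.card E = q := GaloisField.card 3 f (by omega)
  have hE : Fintype.card E = 3 ^ f := by rw [← Nat.card_eq_fintype_card, hEn]
  set P2 := _root_.commutator P with hP2
  set P3 := ⁅P2, (⊤ : Subgroup P)⁆ with hP3
  have hdef : P2 = ⁅(⊤ : Subgroup P), (⊤ : Subgroup P)⁆ := commutator_def P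
  have h32 : P3 ≤ P2 := by
    rw [hP3]
    calc ⁅P2, (⊤ : Subgroup P)⁆ ≤ ⁅(⊤ : Subgroup P), (⊤ : Subgroup P)⁆ :=
          commutator_mono le_top le_rfl
      _ = P2 := hdef.symm
  haveI hP3n : P3.Normal := by rw [hP3]; infer_instance
  have hmem2 : ∀ a b : P, ⁅a, b⁆ ∈ P2 := fun a b =>
    hdef ▸ commutator_mem_commutator (mem_top a) (mem_top b)
  have hmem3 : ∀ a : P, ∀ b ∈ P2, ⁅b, a⁆ ∈ P3 := fun a b hb =>
    commutator_mem_commutator hb (mem_top a)
  have hmem3' : ∀ a : P, ∀ b ∈ P2, ⁅a, b⁆ ∈ P3 := fun a b hb => by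
    rw [← commutatorElement_inv]; exact P3.inv_mem (hmem3 a b hb)
  have hmap2 : ∀ (h : W) (p : P), p ∈ P2 → ρ h p ∈ P2 := fun h p hp => by
    have : P2.map (ρ h).toMonoidHom = P2 := by
      rw [hdef, map_commutator, Subgroup.map_top_of_surjective (f := (ρ h).toMonoidHom) (ρ h).surjective]
    rw [← this]; exact mem_map_of_mem _ hp
  have hmap3 : ∀ (h : W) (p : P), p ∈ P3 → ρ h p ∈ P3 := fun h p hp => by
    have : P3.map (ρ h).toMonoidHom = P3 := by
      rw [hP3, map_commutator, Subgroup.map_top_of_surjective (f := (ρ h).toMonoidHom) (ρ h).surjective, hdef,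
        map_commutator, Subgroup.map_top_of_surjective (f := (ρ h).toMonoidHom) (ρ h).surjective]
    rw [← this]; exact mem_map_of_mem _ hp
  -- the three layers
  letI : CommGroup ↥P3 := { (inferInstance : Group ↥P3) with
    mul_comm := fun a b => Subtype.ext (mem_center_iff.1 (hc b.2) a) }
  let N3 : Subgroup ↥P2 := P3.subgroupOf P2
  haveI : N3.Normal := inferInstance
  let π : ↥P2 →* ↥P2 ⧸ N3 := QuotientGroup.mk' N3
  have hπ : ∀ x y : ↥P2, π x = π y ↔ (x : P)⁻¹ * y ∈ P3 := fun x y => QuotientGroup.eq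
  letI : CommGroup (↥P2 ⧸ N3) := { (inferInstance : Group (↥P2 ⧸ N3)) with
    mul_comm := fun a b => by
      induction a using QuotientGroup.induction_on with
      | H x =>
        induction b using QuotientGroup.induction_on with
        | H y =>
          show π (x * y) = π (y * x)
          rw [hπ]
          show ((x : P) * y)⁻¹ * ((y : P) * x) ∈ P3
          have h' := hmem3 ((x : P)⁻¹) _ (P2.inv_mem y.2)
          rwa [commutatorElement_def, show (y : P)⁻¹ * (x : P)⁻¹ * (y : P)⁻¹⁻¹ * (x : P)⁻¹⁻¹ =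
            ((x : P) * y)⁻¹ * ((y : P) * x) by group] at h' }
  let V := Abelianization P
  let U := ↥P2 ⧸ N3
  -- the actions
  let actV : W →* AddMonoid.End (Additive V) :=
    { toFun := fun h => MonoidHom.toAdditive (Abelianization.map (ρ h).toMonoidHom)
      map_one' := AddMonoidHom.ext fun a => by
        obtain ⟨p, rfl⟩ : ∃ p, Additive.ofMul (Abelianization.of p) = a :=
          QuotientGroup.mk_surjective a
        show Additive.ofMul (Abelianization.map (ρ 1).toMonoidHom (Abelianization.of p)) =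
          Additive.ofMul (Abelianization.of p)
        simp
      map_mul' := fun x y => AddMonoidHom.ext fun a => by
        obtain ⟨p, rfl⟩ : ∃ p, Additive.ofMul (Abelianization.of p) = a :=
          QuotientGroup.mk_surjective a
        show Additive.ofMul (Abelianization.map (ρ (x * y)).toMonoidHom (Abelianization.of p)) =
          Additive.ofMul (Abelianization.map (ρ x).toMonoidHom
            (Abelianization.map (ρ y).toMonoidHom (Abelianization.of p)))
        simp }
  let resU : W → ↥P2 →* ↥P2 := fun h =>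
    { toFun := fun x => ⟨ρ h x, hmap2 h x x.2⟩
      map_one' := Subtype.ext (map_one _)
      map_mul' := fun a b => Subtype.ext (map_mul _ _ _) }
  have hresN : ∀ h, N3 ≤ N3.comap (resU h) := fun h x hx => hmap3 h x hx
  let actU : W →* AddMonoid.End (Additive U) :=
    { toFun := fun h => MonoidHom.toAdditive (QuotientGroup.map N3 N3 (resU h) (hresN h))
      map_one' := AddMonoidHom.ext fun a => by
        obtain ⟨p, rfl⟩ : ∃ p, Additive.ofMul (π p) = a := QuotientGroup.mk_surjective a
        show Additive.ofMul (π (resU 1 p)) = Additive.ofMul (π p)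
        congr 2
        exact Subtype.ext (by simp [resU])
      map_mul' := fun x y => AddMonoidHom.ext fun a => by
        obtain ⟨p, rfl⟩ : ∃ p, Additive.ofMul (π p) = a := QuotientGroup.mk_surjective a
        show Additive.ofMul (π (resU (x * y) p)) = Additive.ofMul (π (resU x (resU y p)))
        congr 2
        exact Subtype.ext (by simp [resU]) }
  let actZ : W →* AddMonoid.End (Additive ↥P3) :=
    { toFun := fun h => MonoidHom.toAdditive
        { toFun := fun x => ⟨ρ h x, hmap3 h x x.2⟩
          map_one' := Subtype.ext (map_one _)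
          map_mul' := fun a b => Subtype.ext (map_mul _ _ _) }
      map_one' := AddMonoidHom.ext fun a => Subtype.ext (by
        show ρ 1 ((Additive.toMul a : ↥P3) : P) = (Additive.toMul a : ↥P3)
        simp)
      map_mul' := fun x y => AddMonoidHom.ext fun a => Subtype.ext (by
        show ρ (x * y) ((Additive.toMul a : ↥P3) : P) = ρ x (ρ y (Additive.toMul a : ↥P3))
        simp) }
  -- regular orbits
  have hregular : ∀ {A : Type u} [AddCommGroup A] [Finite A] (act : W →* AddMonoid.End A) (a₀ : A),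
      Nat.card A = q → a₀ ≠ 0 → (∀ h, act h a₀ = a₀ → h = 1) →
      ∀ a, a ≠ 0 → ∃ h, a = act h a₀ ∨ a = -act h a₀ := by
    intro A _ _ act a₀ hA h₀ hfix a ha
    letI := Fintype.ofFinite A
    letI := Fintype.ofFinite W
    have hinj : ∀ h h', act h a₀ = act h' a₀ → h = h' := fun h h' hh => by
      have := congrArg (act h'⁻¹) hh
      rw [show act h'⁻¹ (act h a₀) = act (h'⁻¹ * h) a₀ by rw [map_mul]; rfl,
        show act h'⁻¹ (act h' a₀) = act (h'⁻¹ * h') a₀ by rw [map_mul]; rfl,
        inv_mul_cancel, map_one] at this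
      exact (inv_mul_eq_one.1 (hfix _ this)).symm
    have himg : Finset.univ.image (fun h => act h a₀) = Finset.univ.erase (0 : A) := by
      refine Finset.eq_of_subset_of_card_le (fun x hx => ?_) ?_
      · obtain ⟨h, -, rfl⟩ := Finset.mem_image.1 hx
        refine Finset.mem_erase.2 ⟨fun h0 => h₀ ?_, Finset.mem_univ _⟩
        have := congrArg (act h⁻¹) h0
        rwa [show act h⁻¹ (act h a₀) = act (h⁻¹ * h) a₀ by rw [map_mul]; rfl,
          inv_mul_cancel, map_one, map_zero] at this
      · rw [Finset.card_image_of_injective _ fun h h' => hinj h h',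
          Finset.card_erase_of_mem (Finset.mem_univ _), Finset.card_univ, Finset.card_univ,
          ← Nat.card_eq_fintype_card, ← Nat.card_eq_fintype_card, hA, hW]
    obtain ⟨h, -, hh⟩ := Finset.mem_image.1
      (himg.symm ▸ Finset.mem_erase.2 ⟨ha, Finset.mem_univ a⟩ : a ∈ Finset.univ.image fun h => act h a₀)
    exact ⟨h, Or.inl hh.symm⟩
  have hcardV : Nat.card (Additive V) = q := by
    have := P2.card_eq_card_quotient_mul_card_subgroup
    rw [h1] at this
    exact (Nat.eq_of_mul_eq_mul_right Nat.card_pos this).symm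
  have hcardU : Nat.card (Additive U) = q := by
    have := N3.card_eq_card_quotient_mul_card_subgroup
    rw [h2, Nat.card_congr (subgroupOfEquivOfLe h32).toEquiv] at this
    exact (Nat.eq_of_mul_eq_mul_right Nat.card_pos this).symm
  have hcardZ : Nat.card (Additive ↥P3) = q := h3
  have hfixV : ∀ (p : P), p ∉ P2 → ∀ h, actV h (Additive.ofMul (Abelianization.of p)) =
      Additive.ofMul (Abelianization.of p) → h = 1 := by
    intro p hp h hh
    by_contra hne
    apply hp (r1 h hne p ?_)
    have h' : Abelianization.of (ρ h p) = Abelianization.of p := hh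
    have h'' : Abelianization.of (ρ h p * p⁻¹) = 1 := by
      rw [map_mul, h', map_inv, mul_inv_cancel]
    exact (QuotientGroup.eq_one_iff _).1 h''
  have hfixZ : ∀ (z : ↥P3), z ≠ 1 → ∀ h, actZ h (Additive.ofMul z) = Additive.ofMul z → h = 1 := by
    intro z hz h hh
    by_contra hne
    exact hz (Subtype.ext (r3 h hne z z.2 (congrArg Subtype.val hh)))
  obtain ⟨v₀, hv₀⟩ : ∃ p : P, p ∉ P2 := by
    by_contra hall
    push Not at hall
    rw [(eq_top_iff' P2).2 hall, Subgroup.card_top] at h1
    have := Nat.card_pos (α := P)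
    nlinarith
  obtain ⟨u₀, hu₀, hu₀'⟩ : ∃ u : P, u ∈ P2 ∧ u ∉ P3 := by
    by_contra hall
    push Not at hall
    rw [le_antisymm hall h32, h3] at h2
    nlinarith
  obtain ⟨z₀, hz₀, hz₀'⟩ : ∃ z : P, z ∈ P3 ∧ z ≠ 1 := by
    by_contra hall
    push Not at hall
    rw [(eq_bot_iff_forall _).2 hall, Subgroup.card_bot] at h3
    omega
  have hV0 : Additive.ofMul (Abelianization.of v₀) ≠ (0 : Additive V) := fun h =>
    hv₀ ((QuotientGroup.eq_one_iff _).1 h)
  have hU0 : Additive.ofMul (π ⟨u₀, hu₀⟩) ≠ (0 : Additive U) := fun h =>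
    hu₀' ((QuotientGroup.eq_one_iff (⟨u₀, hu₀⟩ : ↥P2)).1 h)
  have hZ0 : Additive.ofMul (⟨z₀, hz₀⟩ : ↥P3) ≠ (0 : Additive ↥P3) := fun h =>
    hz₀' (congrArg Subtype.val h)
  -- the middle layer: two orbits exchanged by inversion
  have horbU : ∀ a : Additive U, a ≠ 0 → ∃ h, a = actU h (Additive.ofMul (π ⟨u₀, hu₀⟩)) ∨
      a = -actU h (Additive.ofMul (π ⟨u₀, hu₀⟩)) := by
    intro a ha
    letI := Fintype.ofFinite W
    letI : Fintype (Additive U) := Fintype.ofFinite _
    set b := Additive.ofMul (π ⟨u₀, hu₀⟩)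
    obtain ⟨m, hm⟩ : ∃ m, q - 1 = 2 * m := by
      obtain ⟨k, hk⟩ := (Odd.pow (show Odd 3 by decide) : Odd q)
      exact ⟨k, by omega⟩
    have hmodd : Odd m := by
      obtain ⟨k, hk⟩ := hf
      have : q % 4 = 3 := by
        rw [hqdef, hk, pow_add, pow_mul, Nat.mul_mod, Nat.pow_mod]
        norm_num
      exact Nat.odd_iff.2 (by omega)
    have htb : actU t b = b := by
      show Additive.ofMul (π (resU t ⟨u₀, hu₀⟩)) = Additive.ofMul (π ⟨u₀, hu₀⟩)
      refine congrArg Additive.ofMul ((hπ _ _).2 ?_)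
      have h' := hP3n.conj_mem _ (P3.inv_mem (r2t u₀ hu₀)) u₀⁻¹
      simpa [resU, mul_assoc] using h'
    have hfix : ∀ h, actU h b = b → h = 1 ∨ h = t := by
      intro h hh
      by_contra hne
      push Not at hne
      apply hu₀' (r2 h hne.1 hne.2 u₀ hu₀ ?_)
      have h' : π (resU h ⟨u₀, hu₀⟩) = π ⟨u₀, hu₀⟩ := hh
      have h'' := (hπ _ _).1 h'
      have h''' := hP3n.conj_mem _ (P3.inv_mem h'') u₀
      simpa [resU, mul_assoc] using h'''
    have hmulact : ∀ x y c, actU x (actU y c) = actU (x * y) c := fun x y c => by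
      rw [map_mul]; rfl
    have hsq : ∀ h : W, h ^ m = 1 ∨ h ^ m = t := fun h => hinv _ (by
      rw [← pow_add, ← two_mul, ← hm, ← hW, pow_card_eq_one'])
    have htm : t ^ m = t := by
      obtain ⟨k, hk⟩ := hmodd
      rw [hk, pow_succ, pow_mul, pow_two, ht2, one_pow, one_mul]
    have hneg : ∀ k, actU k b ≠ -b := by
      intro k hk
      have h2' : actU (k * k) b = b := by rw [← hmulact, hk, map_neg, hk, neg_neg]
      rcases hfix _ h2' with e | e
      · have hb2 : b = -b := by
          rcases hinv k e with e' | e'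
          · rw [e', map_one] at hk; exact hk
          · rw [e', htb] at hk; exact hk
        have h3b : 3 • b = 0 := by
          show Additive.ofMul ((π ⟨u₀, hu₀⟩) ^ 3) = 0
          rw [← map_pow, show (⟨u₀, hu₀⟩ : ↥P2) ^ 3 = 1 from Subtype.ext (hexp u₀), map_one]
          rfl
        have h2b : 2 • b = 0 := by rw [two_nsmul]; exact add_eq_zero_iff_eq_neg.2 hb2
        rw [succ_nsmul, h2b, zero_add] at h3b
        exact hU0 h3b
      · apply ht
        rw [← htm, ← e, mul_pow, ← pow_add, ← two_mul, ← hm, ← hW, pow_card_eq_one']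
    let Φ : W → Additive U := fun h => if h ^ m = 1 then actU h b else -actU h b
    have hΦ0 : ∀ h, Φ h ≠ 0 := fun h h0 => by
      have h' : actU h b = 0 := by
        simp only [Φ] at h0
        split_ifs at h0
        exacts [h0, neg_eq_zero.1 h0]
      have := congrArg (actU h⁻¹) h'
      rw [hmulact, inv_mul_cancel, map_one, map_zero] at this
      exact hU0 this
    have hΦ : Function.Injective Φ := by
      intro x y hxy
      have hsame : actU x b = actU y b → (x ^ m = 1 ↔ y ^ m = 1) → x = y := by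
        intro he hiff
        have h' := congrArg (actU y⁻¹) he
        rw [hmulact, hmulact, inv_mul_cancel, map_one] at h'
        rcases hfix _ h' with e | e
        · exact (inv_mul_eq_one.1 e).symm
        · exfalso
          rw [inv_mul_eq_iff_eq_mul] at e
          have e' : x ^ m = y ^ m * t := by rw [e, mul_pow, htm]
          rcases hsq y with ey | ey
          · exact ht (by rw [hiff.2 ey, ey, one_mul] at e'; exact e'.symm)
          · rw [ey, ht2] at e'
            exact ht (ey.symm.trans (hiff.1 e'))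
      have hdiff : actU x b ≠ -actU y b := fun he => hneg (y⁻¹ * x) (by
        rw [← hmulact, he, map_neg, hmulact, inv_mul_cancel, map_one]; rfl)
      simp only [Φ] at hxy
      split_ifs at hxy with hx hy hy
      · exact hsame hxy (iff_of_true hx hy)
      · exact absurd hxy hdiff
      · exact absurd hxy.symm (fun he => hneg (x⁻¹ * y) (by
          rw [← hmulact, he, map_neg, hmulact, inv_mul_cancel, map_one]; rfl))
      · exact hsame (neg_injective hxy) (iff_of_false hx hy)
    have himg : Finset.univ.image Φ = Finset.univ.erase 0 := by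
      refine Finset.eq_of_subset_of_card_le (fun c hc' => ?_) ?_
      · obtain ⟨h, -, rfl⟩ := Finset.mem_image.1 hc'
        exact Finset.mem_erase.2 ⟨hΦ0 h, Finset.mem_univ _⟩
      · rw [Finset.card_image_of_injective _ hΦ, Finset.card_erase_of_mem (Finset.mem_univ _),
          Finset.card_univ, Finset.card_univ, ← Nat.card_eq_fintype_card,
          ← Nat.card_eq_fintype_card, hcardU, hW]
    obtain ⟨h, -, hh⟩ := Finset.mem_image.1
      (himg.symm ▸ Finset.mem_erase.2 ⟨ha, Finset.mem_univ a⟩ : a ∈ Finset.univ.image Φ)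
    refine ⟨h, ?_⟩
    simp only [Φ] at hh
    split_ifs at hh
    exacts [Or.inl hh.symm, Or.inr hh.symm]
  obtain ⟨eV, sV, hsV⟩ := exists_scalars actV hV0
    (hregular actV _ hcardV hV0 (hfixV v₀ hv₀)) E (hEn.trans hcardV.symm)
  obtain ⟨eU, sU, hsU⟩ := exists_scalars actU hU0 horbU E (hEn.trans hcardU.symm)
  obtain ⟨eZ, sZ, hsZ⟩ := exists_scalars actZ hZ0
    (hregular actZ _ hcardZ hZ0 (hfixZ _ fun h => hz₀' (congrArg Subtype.val h))) E
    (hEn.trans hcardZ.symm)
  have hVbij : Function.Bijective sV := by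
    refine (Nat.bijective_iff_injective_and_card _).2
      ⟨(injective_iff_map_eq_one _).2 fun h hh => hfixV v₀ hv₀ h (eV.injective ?_), ?_⟩
    · rw [hsV, hh, Units.val_one, one_mul]
    · rw [hW, Nat.card_units, hEn]
  let sVe : W ≃* Eˣ := MulEquiv.ofBijective sV hVbij
  let χ : Eˣ →* Eˣ := sZ.comp sVe.symm.toMonoidHom
  have hχ : Function.Injective χ := by
    refine (injective_iff_map_eq_one _).2 fun l hl => ?_
    have := hfixZ (⟨z₀, hz₀⟩ : ↥P3) (fun h => hz₀' (congrArg Subtype.val h)) (sVe.symm l) (eZ.injective (by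
      rw [hsZ, show sZ (sVe.symm l) = 1 from hl, Units.val_one, one_mul]))
    exact sVe.symm.injective (by rw [this, map_one])
  -- the commutator maps
  have hP2n : P2.Normal := by rw [hP2]; infer_instance
  have hU3 : ∀ (a : P) (x : ↥P2), π ⟨a * x * a⁻¹, hP2n.conj_mem _ x.2 a⟩ = π x :=
    fun a x => by
      rw [hπ]
      show (a * x * a⁻¹)⁻¹ * (x : P) ∈ P3
      have := hmem3' a _ (P2.inv_mem x.2)
      rwa [commutatorElement_def, inv_inv,
        show a * (x : P)⁻¹ * a⁻¹ * x = (a * x * a⁻¹)⁻¹ * x by group] at this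
  let cb : P → (Abelianization P →* U) := fun b => Abelianization.lift
    { toFun := fun a => π ⟨⁅a, b⁆, hmem2 a b⟩
      map_one' := by
        rw [← map_one π]
        exact congrArg π (Subtype.ext (commutatorElement_one_left b))
      map_mul' := fun a a' => by
        rw [← hU3 a ⟨⁅a', b⁆, hmem2 a' b⟩, mul_comm (π ⟨⁅a, b⁆, hmem2 a b⟩), ← map_mul]
        exact congrArg π (Subtype.ext (by
          show ⁅a * a', b⁆ = a * ⁅a', b⁆ * a⁻¹ * ⁅a, b⁆
          simp only [commutatorElement_def]; group)) }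
  let c0 : Abelianization P →* (Abelianization P →* U) := Abelianization.lift
    { toFun := cb
      map_one' := Abelianization.hom_ext _ _ (MonoidHom.ext fun a => by
        show π ⟨⁅a, 1⁆, hmem2 a 1⟩ = 1
        rw [← map_one π]
        exact congrArg π (Subtype.ext (commutatorElement_one_right a)))
      map_mul' := fun b b' => Abelianization.hom_ext _ _ (MonoidHom.ext fun a => by
        show π ⟨⁅a, b * b'⁆, hmem2 a (b * b')⟩ = π ⟨⁅a, b⁆, hmem2 a b⟩ * π ⟨⁅a, b'⁆, hmem2 a b'⟩
        rw [← hU3 b ⟨⁅a, b'⁆, hmem2 a b'⟩, ← map_mul]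
        exact congrArg π (Subtype.ext (by
          show ⁅a, b * b'⁆ = ⁅a, b⁆ * (b * ⁅a, b'⁆ * b⁻¹)
          simp only [commutatorElement_def]; group))) }
  have hc0 : ∀ a b, c0 (Abelianization.of b) (Abelianization.of a) = π ⟨⁅a, b⁆, hmem2 a b⟩ :=
    fun a b => by simp [c0, cb]
  have hcentral : ∀ (g : P) (z : P), z ∈ P3 → g * z * g⁻¹ = z := fun g z hz => by
    rw [mem_center_iff.1 (hc hz) g, mul_inv_cancel_right]
  let db : P → (U →* ↥P3) := fun a => QuotientGroup.lift N3
    { toFun := fun x => (⟨⁅(x : P), a⁆, hmem3 a x x.2⟩ : ↥P3)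
      map_one' := Subtype.ext (commutatorElement_one_left a)
      map_mul' := fun x y => by
        rw [mul_comm]
        refine Subtype.ext ?_
        show ⁅(x : P) * y, a⁆ = ⁅(y : P), a⁆ * ⁅(x : P), a⁆
        conv_rhs => rw [← hcentral x _ (hmem3 a y y.2)]
        simp only [commutatorElement_def]; group }
    (fun x hx => Subtype.ext (by
      show ⁅(x : P), a⁆ = 1
      exact commutatorElement_eq_one_iff_mul_comm.2 (mem_center_iff.1 (hc hx) a).symm))
  let d0 : Abelianization P →* (U →* ↥P3) := Abelianization.lift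
    { toFun := db
      map_one' := MonoidHom.ext fun y => by
        induction y using QuotientGroup.induction_on with
        | H x => exact Subtype.ext (commutatorElement_one_right _)
      map_mul' := fun a a' => MonoidHom.ext fun y => by
        induction y using QuotientGroup.induction_on with
        | H x =>
          refine Subtype.ext ?_
          show ⁅(x : P), a * a'⁆ = ⁅(x : P), a⁆ * ⁅(x : P), a'⁆
          conv_rhs => rw [← hcentral a _ (hmem3 a' x x.2)]
          simp only [commutatorElement_def]; group }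
  have hd0 : ∀ (a : P) (x : ↥P2), ((d0 (Abelianization.of a) (π x) : ↥P3) : P) = ⁅(x : P), a⁆ :=
    fun a x => by simp only [d0, Abelianization.lift_apply_of]; rfl
  let ιV : E → V := fun a => Additive.toMul (eV.symm a)
  have ιV_add : ∀ a b, ιV (a + b) = ιV a * ιV b := fun a b => by simp [ιV]
  let c : E →+ E →+ E := AddMonoidHom.mk' (fun b => AddMonoidHom.mk'
    (fun d => eU (Additive.ofMul (c0 (ιV d) (ιV b))))
    fun d d' => by simp [ιV_add, ← map_add, ofMul_mul])
    fun b b' => AddMonoidHom.ext fun d => by simp [ιV_add, ← map_add, ofMul_mul]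
  let D : E →+ E →+ E := AddMonoidHom.mk' (fun a => AddMonoidHom.mk'
    (fun u => eZ (Additive.ofMul (d0 (ιV a) (Additive.toMul (eU.symm u)))))
    fun u u' => by rw [map_add eU.symm, toMul_add, map_mul, ofMul_mul, map_add])
    fun a a' => AddMonoidHom.ext fun u => by simp [ιV_add, ← map_add, ofMul_mul]
  have hof : ∀ a : E, ∃ p : P, Abelianization.of p = ιV a := fun a => QuotientGroup.mk_surjective _
  have hcval : ∀ a b x y, Abelianization.of x = ιV a → Abelianization.of y = ιV b →
      c a b = eU (Additive.ofMul (π ⟨⁅x, y⁆, hmem2 x y⟩)) := fun a b x y hx hy => by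
    show eU (Additive.ofMul (c0 (ιV b) (ιV a))) = _
    rw [← hx, ← hy, hc0]
  have hDval : ∀ a b d x y z, Abelianization.of x = ιV a → Abelianization.of y = ιV b →
      Abelianization.of z = ιV d →
      D a (c b d) = eZ (Additive.ofMul (⟨⁅⁅y, z⁆, x⁆, hmem3 x _ (hmem2 y z)⟩ : ↥P3)) := by
    intro a b d x y z hx hy hz
    show eZ (Additive.ofMul (d0 (ιV a) (Additive.toMul (eU.symm (c b d))))) = _
    rw [hcval b d y z hy hz, AddEquiv.symm_apply_apply, toMul_ofMul, ← hx]
    exact congrArg (fun w => eZ (Additive.ofMul w)) (Subtype.ext (hd0 _ _))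
  have hιscale : ∀ (l : Eˣ) a x, Abelianization.of x = ιV a →
      Abelianization.of (ρ (sVe.symm l) x) = ιV ((l : E) * a) := by
    intro l a x hx
    have h' : eV (actV (sVe.symm l) (Additive.ofMul (Abelianization.of x))) =
        (l : E) * eV (Additive.ofMul (Abelianization.of x)) := by
      rw [hsV, show sV (sVe.symm l) = l from sVe.apply_symm_apply l]
    rw [hx] at h'
    simp only [ιV, ofMul_toMul, AddEquiv.apply_symm_apply] at h'
    apply Additive.ofMul.injective
    apply eV.injective
    simp only [ιV, ofMul_toMul, AddEquiv.apply_symm_apply]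
    rw [← h', show eV.symm a = Additive.ofMul (Abelianization.of x) by rw [hx]; rfl]
    rfl
  have hceq : ∀ (l : Eˣ) a b, c ((l : E) * a) ((l : E) * b) = (sU (sVe.symm l) : E) * c a b := by
    intro l a b
    obtain ⟨x, hx⟩ := hof a
    obtain ⟨y, hy⟩ := hof b
    rw [hcval _ _ _ _ (hιscale l a x hx) (hιscale l b y hy), hcval a b x y hx hy, ← hsU]
    refine congrArg eU (congrArg Additive.ofMul (congrArg π (Subtype.ext ?_)))
    show ⁅ρ (sVe.symm l) x, ρ (sVe.symm l) y⁆ = ρ (sVe.symm l) ⁅x, y⁆
    exact (map_commutatorElement _ _ _).symm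
  have hTeq : ∀ (l : Eˣ) a b d, D ((l : E) * a) (c ((l : E) * b) ((l : E) * d)) =
      (χ l : E) * D a (c b d) := by
    intro l a b d
    obtain ⟨x, hx⟩ := hof a
    obtain ⟨y, hy⟩ := hof b
    obtain ⟨z, hz⟩ := hof d
    rw [hDval _ _ _ _ _ _ (hιscale l a x hx) (hιscale l b y hy) (hιscale l d z hz),
      hDval a b d x y z hx hy hz, show (χ l : E) = (sZ (sVe.symm l) : E) from rfl, ← hsZ]
    refine congrArg eZ (congrArg Additive.ofMul (Subtype.ext ?_))
    show ⁅⁅ρ (sVe.symm l) y, ρ (sVe.symm l) z⁆, ρ (sVe.symm l) x⁆ = ρ (sVe.symm l) ⁅⁅y, z⁆, x⁆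
    simp [map_commutatorElement]
  have hca : ∀ a, c a a = 0 := fun a => by
    obtain ⟨x, hx⟩ := hof a
    rw [hcval a a x x hx hx, show (⟨⁅x, x⁆, hmem2 x x⟩ : ↥P2) = 1 from
      Subtype.ext (commutatorElement_self x), map_one, ofMul_one, map_zero]
  have halt : ∀ a d, D a (c a d) = 0 := fun a d => by
    obtain ⟨x, hx⟩ := hof a
    obtain ⟨z, hz⟩ := hof d
    rw [hDval a a d x x z hx hx hz, show (⟨⁅⁅x, z⁆, x⁆, hmem3 x _ (hmem2 x z)⟩ : ↥P3) = 1 from
      Subtype.ext (commutatorElement_eq_one_iff_mul_comm.2 ?_), ofMul_one, map_zero]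
    have hcm : Commute x (z * x⁻¹ * z⁻¹) := by
      have := (commute_conj_of_exponent hexp x z).inv_right
      rwa [show (z * x * z⁻¹)⁻¹ = z * x⁻¹ * z⁻¹ by group] at this
    rw [commutatorElement_def, show x * z * x⁻¹ * z⁻¹ = x * (z * x⁻¹ * z⁻¹) by group]
    exact ((Commute.refl x).mul_right hcm).symm
  have hzero := trilinear_eq_zero hE (fun l => (sU (sVe.symm l) : E)) χ hχ c D hceq hca hTeq halt
  -- the third layer is trivial
  apply hz₀'
  have hall : ∀ b ∈ P2, ∀ a : P, ⁅b, a⁆ = 1 := by
    intro b hb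
    rw [hdef, Subgroup.commutator_def] at hb
    refine Subgroup.closure_induction (p := fun b _ => ∀ a : P, ⁅b, a⁆ = 1) ?_ ?_ ?_ ?_ hb
    · rintro _ ⟨y, -, z, -, rfl⟩ a
      have h0 := hzero (eV (Additive.ofMul (Abelianization.of a)))
        (eV (Additive.ofMul (Abelianization.of y))) (eV (Additive.ofMul (Abelianization.of z)))
      rw [hDval _ _ _ a y z (by simp [ιV]) (by simp [ιV]) (by simp [ιV]),
        AddEquiv.map_eq_zero_iff] at h0
      exact congrArg Subtype.val h0
    · exact fun a => commutatorElement_one_left a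
    · intro x y _ _ hx hy a
      exact commutatorElement_eq_one_iff_mul_comm.2 (Commute.mul_left
        (commutatorElement_eq_one_iff_mul_comm.1 (hx a))
        (commutatorElement_eq_one_iff_mul_comm.1 (hy a)))
    · intro x _ hx a
      exact commutatorElement_eq_one_iff_mul_comm.2
        (Commute.inv_left (commutatorElement_eq_one_iff_mul_comm.1 (hx a)))
  have : P3 = ⊥ := by
    rw [hP3, commutator_eq_bot_iff_le_centralizer]
    exact fun b hb a _ => (commutatorElement_eq_one_iff_mul_comm.1 (hall b hb a)).symm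
  rw [this] at hz₀
  exact Subgroup.mem_bot.1 hz₀

end Cfsg.Agent.ReeSylowThree
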