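import Mathlib
import Cfsg.Agent.Lib.Characters.CentralIndex
import Cfsg.Agent.Lib.Characters.Kernel

/-!
Irreducible characters on the centre.
-/

set_option autoImplicit false
set_option linter.style.haveILetI false
set_option linter.unusedSectionVars false

namespace Cfsg.Agent.ReeSylowThree

open Subgroup Module Cfsg.Agent.Characters
open scoped ComplexConjugate

universe u

variable {P : Type u} [Group P] [Finite P]

/-- An irreducible character is a multiple of a unit on a central element. -/
theorem central_scalar {χ : P → ℂ} (hχ : Cfsg.IsIrrCharacter P χ) {z : P} (hz : z ∈ center P) :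
    ∃ c : ℂ, ‖c‖ = 1 ∧ ∀ x, χ (z * x) = c * χ x := by
  classical
  obtain ⟨d, ρ, hρ, rfl⟩ := hχ
  obtain ⟨c, hc⟩ := schur_scalar ρ (ρ z) fun g v => by
    rw [← Module.End.mul_apply, ← Module.End.mul_apply, ← map_mul, ← map_mul,
      (mem_center_iff.1 hz g).symm]
  have hmul : ∀ x, ρ.character (z * x) = c * ρ.character x := fun x => by
    simp only [Representation.character, map_mul, hc, Module.End.mul_eq_comp,
      LinearMap.smul_comp, LinearMap.id_comp, map_smul, smul_eq_mul]
  refine ⟨c, ?_, hmul⟩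
  have hne : ρ.character 1 ≠ 0 := irr_one_ne_zero ⟨d, ρ, hρ, rfl⟩
  have hpow : ∀ n : ℕ, ρ.character (z ^ n) = c ^ n * ρ.character 1 := fun n => by
    induction n with
    | zero => simp
    | succ n ih => rw [pow_succ', hmul, ih, pow_succ', mul_assoc]
  have h1 := hpow (orderOf z)
  rw [pow_orderOf_eq_one] at h1
  exact Complex.norm_eq_one_of_pow_eq_one
    (mul_right_cancel₀ hne ((one_mul _).trans h1)).symm (orderOf_pos z).ne'

theorem central_norm {χ : P → ℂ} (hχ : Cfsg.IsIrrCharacter P χ) {z : P} (hz : z ∈ center P)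
    {d : ℕ} (hd : χ 1 = d) : χ z * conj (χ z) = (d * d : ℕ) := by
  obtain ⟨c, hc, hmul⟩ := central_scalar hχ hz
  have h := hmul 1
  rw [mul_one, hd] at h
  rw [h, map_mul, Complex.conj_natCast, show c * (d : ℂ) * (conj c * d) = c * conj c * (d * d) by
    ring, Complex.mul_conj, Complex.normSq_eq_norm_sq, hc]
  push_cast
  ring

variable [Fintype P] (Z : Subgroup P)

/-- `χ(1)² ≤ |P : Z|` for central `Z`, with equality only if `χ` vanishes off `Z`. -/
theorem degree_sq_le (hZ : Z ≤ center P) {χ : P → ℂ} (hχ : Cfsg.IsIrrCharacter P χ) {d : ℕ}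
    (hd : χ 1 = d) :
    Nat.card Z * (d * d) ≤ Nat.card P ∧
      (Nat.card Z * (d * d) = Nat.card P → ∀ p, p ∉ Z → χ p = 0) := by
  classical
  letI := Fintype.ofFinite Z
  have h : (Nat.card P : ℂ) = ∑ p, χ p * conj (χ p) := by
    have h1 := classInner_isIrr_self hχ
    rw [classInner_def, inv_mul_eq_iff_eq_mul₀ (natCard_ne_zero (G := P)), mul_one] at h1
    exact h1.symm
  have hsum : (Nat.card P : ℝ) = (Nat.card Z * (d * d) : ℕ) +
      ∑ p ∈ Finset.univ.filter (fun p => p ∉ Z), Complex.normSq (χ p) := by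
    apply Complex.ofReal_injective
    push_cast
    rw [h, ← Finset.sum_filter_add_sum_filter_not Finset.univ (fun p => p ∈ Z)]
    congr 1
    · rw [Finset.sum_congr rfl (g := fun _ => ((d * d : ℕ) : ℂ)) fun p hp =>
        central_norm hχ (hZ (Finset.mem_filter.1 hp).2) hd, Finset.sum_const, nsmul_eq_mul,
        Nat.card_eq_fintype_card, Fintype.card_subtype]
      push_cast
      rfl
    · exact Finset.sum_congr rfl fun p _ => Complex.mul_conj _
  constructor
  · have h0 : 0 ≤ ∑ p ∈ Finset.univ.filter (fun p => p ∉ Z), Complex.normSq (χ p) :=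
      Finset.sum_nonneg fun p _ => Complex.normSq_nonneg _
    exact_mod_cast (show ((Nat.card Z * (d * d) : ℕ) : ℝ) ≤ Nat.card P by linarith)
  · intro he p hp
    rw [he] at hsum
    have h0 : ∑ p ∈ Finset.univ.filter (fun p => p ∉ Z), Complex.normSq (χ p) = 0 := by linarith
    exact Complex.normSq_eq_zero.1 ((Finset.sum_eq_zero_iff_of_nonneg
      fun p _ => Complex.normSq_nonneg _).1 h0 p (Finset.mem_filter.2 ⟨Finset.mem_univ _, hp⟩))

end Cfsg.Agent.ReeSylowThree
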