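import Mathlib
import Cfsg.Prelude.Def_Characters

/-!
The setting: a split 2-transitive group of degree `q ^ 3 + 1` with the centraliser data of a group of
Ree type.
-/

set_option autoImplicit false
set_option linter.style.haveILetI false

namespace Cfsg.Agent.ReeSylowThree

open Subgroup

universe u

/-- The setting: `P` is the regular normal subgroup of a point stabiliser `B = P W`. -/
structure Setting (G : Type u) [Group G] (q : ℕ) where
  P : Subgroup G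
  W : Subgroup G
  t : G
  q_pow : ∃ f, Odd f ∧ 3 ≤ f ∧ q = 3 ^ f
  cardG : Nat.card G = q ^ 3 * (q ^ 3 + 1) * (q - 1)
  cardP : Nat.card P = q ^ 3
  cardW : Nat.card W = q - 1
  cyclicW : IsCyclic W
  t_two : orderOf t = 2
  t_mem : t ∈ W
  W_norm : W ≤ normalizer (P : Set G)
  cardU : Nat.card (P ⊓ centralizer ({t} : Set G) : Subgroup G) = q
  cardT : Nat.card (centralizer ({t} : Set G)) ≤ q * (q * q - 1)
  fpf : ∀ x ∈ W, x ≠ 1 → x ≠ t → ∀ p ∈ P, Commute x p → p = 1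
  ti : ∀ g : G, g ∉ P ⊔ W → ∀ p ∈ P, g⁻¹ * p * g ∈ P ⊔ W → p = 1
  small : ∀ g : G, g ≠ 1 → (∀ h : G, h⁻¹ * g * h ∉ P ⊔ W) →
    Nat.card (centralizer ({g} : Set G)) < q * (q - 2) ^ 2
  eight : ∀ χ : G → ℂ, Cfsg.IsCharacter G χ → ∃ k : ℤ, χ 1 + 7 * χ t = 8 * (k : ℂ)

namespace Setting

variable {G : Type u} [Group G] {q : ℕ} (H : Setting G q)

/-- The point stabiliser. -/
abbrev B : Subgroup G := H.P ⊔ H.W

include H

theorem q_ge : 27 ≤ q := by
  obtain ⟨f, -, hf, rfl⟩ := H.q_pow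
  calc 27 = 3 ^ 3 := by norm_num
    _ ≤ 3 ^ f := Nat.pow_le_pow_right (by norm_num) hf

theorem q_odd : Odd q := by
  obtain ⟨f, -, -, rfl⟩ := H.q_pow
  exact Odd.pow (by decide)

theorem q_mod : q % 8 = 3 := by
  obtain ⟨f, ⟨k, rfl⟩, -, rfl⟩ := H.q_pow
  rw [pow_add, pow_mul, Nat.mul_mod, Nat.pow_mod]
  norm_num

theorem t_ne : H.t ≠ 1 := fun h => by
  have := H.t_two
  rw [h, orderOf_one] at this
  omega

theorem t_mul : H.t * H.t = 1 := by rw [← pow_two, ← H.t_two, pow_orderOf_eq_one]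

theorem t_inv : H.t⁻¹ = H.t := inv_eq_of_mul_eq_one_right H.t_mul

theorem isPGroup_P : IsPGroup 3 H.P := by
  obtain ⟨f, -, -, rfl⟩ := H.q_pow
  exact IsPGroup.of_card (n := f * 3) (by rw [H.cardP, pow_mul])

theorem coprime_P_W : (Nat.card H.P).Coprime (Nat.card H.W) := by
  obtain ⟨f, -, hf, rfl⟩ := H.q_pow
  rw [H.cardP, H.cardW, ← pow_mul]
  refine Nat.Coprime.pow_left _ (Nat.prime_three.coprime_iff_not_dvd.2 fun hd => ?_)
  have h3 : 3 ∣ 3 ^ f := dvd_pow_self 3 (by omega)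
  have := Nat.dvd_sub h3 hd
  rw [Nat.sub_sub_self (Nat.one_le_pow _ _ (by norm_num))] at this
  omega

theorem P_inf_W : H.P ⊓ H.W = ⊥ :=
  Subgroup.disjoint_of_coprime_natCard H.coprime_P_W |>.eq_bot

theorem conj_mem_P {w p : G} (hw : w ∈ H.W) (hp : p ∈ H.P) : w * p * w⁻¹ ∈ H.P :=
  (mem_normalizer_iff.1 (H.W_norm hw) p).1 hp

theorem B_le_normalizer : H.B ≤ normalizer (H.P : Set G) := sup_le le_normalizer H.W_norm

theorem conj_mem_P_of_B {b p : G} (hb : b ∈ H.B) (hp : p ∈ H.P) : b * p * b⁻¹ ∈ H.P :=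
  (mem_normalizer_iff.1 (H.B_le_normalizer hb) p).1 hp

theorem exists_mul {b : G} (hb : b ∈ H.B) : ∃ p ∈ H.P, ∃ w ∈ H.W, p * w = b := by
  have hmul := Subgroup.coe_mul_of_right_le_normalizer_left H.P H.W H.W_norm
  rw [← SetLike.mem_coe, hmul] at hb
  exact Set.mem_mul.1 hb

theorem mul_inj {p p' w w' : G} (hp : p ∈ H.P) (hp' : p' ∈ H.P) (hw : w ∈ H.W) (hw' : w' ∈ H.W)
    (h : p * w = p' * w') : p = p' ∧ w = w' := by
  have h1 : p'⁻¹ * p = w' * w⁻¹ := by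
    rw [inv_mul_eq_iff_eq_mul, ← mul_assoc, eq_mul_inv_iff_mul_eq]
    exact h
  have h2 : p'⁻¹ * p ∈ H.P ⊓ H.W :=
    mem_inf.2 ⟨mul_mem (inv_mem hp') hp, h1 ▸ mul_mem hw' (inv_mem hw)⟩
  rw [H.P_inf_W, mem_bot] at h2
  refine ⟨(inv_mul_eq_one.1 h2).symm, ?_⟩
  rw [h2] at h1
  exact (mul_inv_eq_one.1 h1.symm).symm

theorem card_B : Nat.card H.B = q ^ 3 * (q - 1) := by
  rw [← H.cardP, ← H.cardW, ← Nat.card_prod]
  refine (Nat.card_congr (Equiv.ofBijective (fun x : H.P × H.W =>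
    (⟨(x.1 : G) * x.2, mul_mem (le_sup_left (a := H.P) x.1.2) (le_sup_right (b := H.W) x.2.2)⟩ :
      H.B)) ⟨fun x y hxy => ?_, fun b => ?_⟩)).symm
  · obtain ⟨h1, h2⟩ := H.mul_inj x.1.2 y.1.2 x.2.2 y.2.2 (congrArg Subtype.val hxy)
    exact Prod.ext (Subtype.ext h1) (Subtype.ext h2)
  · obtain ⟨p, hp, w, hw, h⟩ := H.exists_mul b.2
    exact ⟨(⟨p, hp⟩, ⟨w, hw⟩), Subtype.ext h⟩

variable [Finite G]

theorem index_B : H.B.index = q ^ 3 + 1 := by
  have h := H.B.card_mul_index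
  have := H.q_ge
  rw [H.card_B, H.cardG, show q ^ 3 * (q ^ 3 + 1) * (q - 1) = q ^ 3 * (q - 1) * (q ^ 3 + 1) by
    ring] at h
  exact Nat.eq_of_mul_eq_mul_left (Nat.mul_pos (pow_pos (by omega) 3) (by omega)) h

/-- `P` is transitive on the other points. -/
theorem exists_translate {g k : G} (hg : g ∉ H.B) (hk : k ∉ H.B) :
    ∃ p ∈ H.P, (p * g)⁻¹ * k ∈ H.B := by
  classical
  letI := Fintype.ofFinite (G ⧸ H.B)
  letI := Fintype.ofFinite H.P
  let o : G ⧸ H.B := ((1 : G) : G ⧸ H.B)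
  let φ : H.P → G ⧸ H.B := fun p => (((p : G) * g : G) : G ⧸ H.B)
  have hφ : Function.Injective φ := fun p p' h => by
    have h' : ((p : G) * g)⁻¹ * ((p' : G) * g) ∈ H.B := QuotientGroup.eq.1 h
    rw [show ((p : G) * g)⁻¹ * ((p' : G) * g) = g⁻¹ * ((p : G)⁻¹ * p') * g by group] at h'
    exact Subtype.ext (inv_mul_eq_one.1 (H.ti g hg _ (mul_mem (inv_mem p.2) p'.2) h'))
  have hne : ∀ x : G, x ∉ H.B → ((x : G) : G ⧸ H.B) ≠ o := fun x hx h => by
    have h' : x⁻¹ * 1 ∈ H.B := QuotientGroup.eq.1 h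
    rw [mul_one] at h'
    exact hx (inv_mem_iff.1 h')
  have himg : Finset.univ.image φ = Finset.univ.erase o := by
    refine Finset.eq_of_subset_of_card_le (fun x hx => ?_) ?_
    · obtain ⟨p, -, rfl⟩ := Finset.mem_image.1 hx
      refine Finset.mem_erase.2 ⟨hne _ fun h => hg ?_, Finset.mem_univ _⟩
      simpa using mul_mem (inv_mem (le_sup_left (a := H.P) (b := H.W) p.2)) h
    · rw [Finset.card_image_of_injective _ hφ, Finset.card_erase_of_mem (Finset.mem_univ _),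
        Finset.card_univ, Finset.card_univ, ← Nat.card_eq_fintype_card,
        ← Nat.card_eq_fintype_card, H.cardP,
        show Nat.card (G ⧸ H.B) = q ^ 3 + 1 from H.index_B]
      omega
  obtain ⟨p, -, hp⟩ := Finset.mem_image.1
    (himg.symm ▸ Finset.mem_erase.2 ⟨hne k hk, Finset.mem_univ _⟩ :
      ((k : G) : G ⧸ H.B) ∈ Finset.univ.image φ)
  exact ⟨p, p.2, QuotientGroup.eq.1 hp⟩

end Setting

end Cfsg.Agent.ReeSylowThree
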