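import Mathlib
import Cfsg.Agent.Lib.ReeSylowThree.Setting
import Cfsg.Agent.Lib.Characters.Kernel
import Cfsg.Agent.Lib.Characters.Induction

/-!
Functions induced from the regular normal subgroup of a point stabiliser.
-/

set_option autoImplicit false
set_option linter.style.haveILetI false
set_option linter.unusedSectionVars false

namespace Cfsg.Agent.ReeSylowThree

open Subgroup Cfsg.Agent.Characters
open scoped ComplexConjugate

universe u

namespace Setting

variable {G : Type u} [Group G] {q : ℕ} (H : Setting G q)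

/-- Conjugation by an element of `W` on `P`. -/
def wc (w : H.W) : H.P ≃* H.P where
  toFun p := ⟨(w : G) * p * (w : G)⁻¹, H.conj_mem_P w.2 p.2⟩
  invFun p := ⟨(w : G)⁻¹ * p * (w : G), by
    simpa using H.conj_mem_P (inv_mem w.2) p.2⟩
  left_inv p := Subtype.ext (by group)
  right_inv p := Subtype.ext (by group)
  map_mul' a b := Subtype.ext (by
    show (w : G) * ((a : G) * b) * (w : G)⁻¹ = (w : G) * a * (w : G)⁻¹ * ((w : G) * b * (w : G)⁻¹)
    group)

@[simp] theorem wc_coe (w : H.W) (p : H.P) : (H.wc w p : G) = (w : G) * p * (w : G)⁻¹ := rfl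

theorem wc_one : H.wc 1 = MulEquiv.refl _ := by
  ext p
  simp

theorem wc_mul (v w : H.W) (p : H.P) : H.wc v (H.wc w p) = H.wc (v * w) p :=
  Subtype.ext (by simp [mul_assoc])

/-- The conjugate of a function on `P`. -/
def wconj (w : H.W) (θ : H.P → ℂ) : H.P → ℂ := fun p => θ (H.wc w p)

theorem wconj_one (θ : H.P → ℂ) : H.wconj 1 θ = θ := by
  funext p
  simp [wconj, wc_one]

theorem wconj_wconj (v w : H.W) (θ : H.P → ℂ) : H.wconj v (H.wconj w θ) = H.wconj (w * v) θ := by
  funext p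
  simp [wconj, wc_mul]

theorem wconj_injective (w : H.W) : Function.Injective (H.wconj w) := fun θ φ h => by
  funext p
  simpa [wconj] using congrFun h ((H.wc w).symm p)

theorem isCharacter_wconj (w : H.W) {θ : H.P → ℂ} (h : Cfsg.IsCharacter H.P θ) :
    Cfsg.IsCharacter H.P (H.wconj w θ) :=
  Characters.isCharacter_comp (H.wc w).toMonoidHom h

theorem isIrr_wconj [Finite G] (w : H.W) {θ : H.P → ℂ} (h : Cfsg.IsIrrCharacter H.P θ) :
    Cfsg.IsIrrCharacter H.P (H.wconj w θ) :=
  isIrrCharacter_comp_surjective (H.wc w).toMonoidHom (H.wc w).surjective h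

theorem isClassFunction_wconj (w : H.W) {θ : H.P → ℂ} (h : Cfsg.IsClassFunction H.P θ) :
    Cfsg.IsClassFunction H.P (H.wconj w θ) :=
  Characters.classFun_comp (H.wc w).toMonoidHom h

variable [Fintype G]

noncomputable instance : Fintype H.P := Fintype.ofFinite _
noncomputable instance : Fintype H.W := Fintype.ofFinite _

theorem classInner_wconj (w : H.W) (θ φ : H.P → ℂ) :
    Cfsg.classInner (H.wconj w θ) (H.wconj w φ) = Cfsg.classInner θ φ := by
  rw [classInner_def, classInner_def]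
  exact congrArg _ (Fintype.sum_equiv (H.wc w).toEquiv _ _ fun p => rfl)

/-- The sum of the conjugates. -/
noncomputable def orb (θ : H.P → ℂ) : H.P → ℂ := fun p => ∑ w : H.W, θ (H.wc w p)

/-- Induction from `P`. -/
noncomputable def R (θ : H.P → ℂ) : G → ℂ := Cfsg.indFun H.P θ

theorem R_isClassFunction (θ : H.P → ℂ) : Cfsg.IsClassFunction G (H.R θ) :=
  indFun_isClassFunction H.P θ

theorem R_sub (θ φ : H.P → ℂ) : H.R (θ - φ) = H.R θ - H.R φ := indFun_sub H.P θ φ

theorem R_smul (c : ℂ) (θ : H.P → ℂ) : H.R (c • θ) = c • H.R θ := indFun_smul H.P c θ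

theorem card_P_ne : (Nat.card H.P : ℂ) ≠ 0 := Nat.cast_ne_zero.2 Nat.card_pos.ne'

/-- An element of `P#` is moved into `B` only by elements of `B`. -/
theorem mem_B_of_conj {x g : G} (hx : x ∈ H.P) (hx1 : x ≠ 1) (h : g⁻¹ * x * g ∈ H.B) :
    g ∈ H.B := by
  by_contra hg
  exact hx1 (H.ti g hg x hx h)

theorem R_apply {θ : H.P → ℂ} (hθ : Cfsg.IsClassFunction H.P θ) (p : H.P) (hp : p ≠ 1) :
    H.R θ p = H.orb θ p := by
  classical
  apply mul_left_cancel₀ H.card_P_ne
  rw [R, CharTheory.IndBasic.card_mul_indFun]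
  let φ : H.P × H.W → G := fun x => (x.1 : G) * x.2
  have hφ : Function.Injective φ := fun x y h => by
    obtain ⟨h1, h2⟩ := H.mul_inj x.1.2 y.1.2 x.2.2 y.2.2 h
    exact Prod.ext (Subtype.ext h1) (Subtype.ext h2)
  rw [← Fintype.sum_of_injective φ hφ (fun x : H.P × H.W => θ (H.wc x.2⁻¹ p)) _ ?_ ?_]
  · rw [Fintype.sum_prod_type]
    simp only [orb, Finset.sum_const, Finset.card_univ, ← Nat.card_eq_fintype_card, nsmul_eq_mul]
    exact congrArg _ (Fintype.sum_equiv (Equiv.inv _) _ _ fun w => rfl)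
  · intro x hx
    refine CharTheory.IndBasic.extendByZero_of_notMem _ _ fun hm => ?_
    have hxB : x ∈ H.B := H.mem_B_of_conj p.2 (fun h => hp (Subtype.ext h))
      (le_sup_left (b := H.W) hm)
    obtain ⟨a, ha, w, hw, rfl⟩ := H.exists_mul hxB
    exact hx ⟨(⟨a, ha⟩, ⟨w, hw⟩), rfl⟩
  · intro x
    have hm : (φ x)⁻¹ * (p : G) * φ x = (H.wc x.2⁻¹ (x.1⁻¹ * p * x.1) : G) := by
      simp [φ, mul_assoc]
    rw [hm, CharTheory.IndBasic.extendByZero_coe, show x.1⁻¹ * p * x.1 = x.1⁻¹ * p * x.1⁻¹⁻¹ by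
      rw [inv_inv]]
    exact (H.isClassFunction_wconj x.2⁻¹ hθ p x.1⁻¹).symm

theorem R_zero {θ : H.P → ℂ} {g : G} (h : ∀ x : G, x⁻¹ * g * x ∉ H.P) : H.R θ g = 0 := by
  rw [R, Cfsg.indFun, Finset.sum_eq_zero fun x _ =>
    CharTheory.IndBasic.extendByZero_of_notMem _ _ (h x), mul_zero]

theorem R_zero_of_fpf {θ : H.P → ℂ} {g : G} (h : ∀ x : G, x⁻¹ * g * x ∉ H.B) : H.R θ g = 0 :=
  H.R_zero fun x hx => h x (le_sup_left (b := H.W) hx)

theorem R_one (θ : H.P → ℂ) : H.R θ 1 = ((q : ℂ) ^ 3 + 1) * ((q : ℂ) - 1) * θ 1 := by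
  have hq := H.q_ge
  rw [R, indFun_one]
  have h := H.P.card_mul_index
  rw [H.cardP, H.cardG, mul_assoc] at h
  rw [Nat.eq_of_mul_eq_mul_left (pow_pos (by omega) 3) h]
  push_cast [Nat.cast_sub (show 1 ≤ q by omega)]
  ring

/-- The inner product of induced functions. -/
theorem inner_R {θ φ : H.P → ℂ} (hφ : Cfsg.IsClassFunction H.P φ) :
    Cfsg.classInner (H.R θ) (H.R φ) = ∑ w : H.W, Cfsg.classInner θ (H.wconj w φ) +
      ((q : ℂ) - 1) * θ 1 * conj (φ 1) := by
  classical
  have hq := H.q_ge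
  rw [R, frobenius_reciprocity H.P θ (H.R_isClassFunction φ)]
  have key : (fun p : H.P => H.R φ p) = (∑ w : H.W, H.wconj w φ) +
      fun p => if p = 1 then (q : ℂ) ^ 3 * ((q : ℂ) - 1) * φ 1 else 0 := by
    funext p
    by_cases hp : p = 1
    · subst hp
      simp only [Pi.add_apply, Finset.sum_apply, wconj, map_one, OneMemClass.coe_one, if_true,
        H.R_one, Finset.sum_const, Finset.card_univ, ← Nat.card_eq_fintype_card, H.cardW,
        nsmul_eq_mul]
      push_cast [Nat.cast_sub (show 1 ≤ q by omega)]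
      ring
    · simp [H.R_apply hφ p hp, orb, wconj, hp]
  rw [show (fun h : H.P => H.R φ h) = _ from key, classInner_add_right, classInner_sum_right]
  congr 1
  rw [classInner_def, Finset.sum_eq_single (1 : H.P) (fun p _ hp => by simp [hp]) (by simp),
    if_pos rfl, H.cardP]
  simp only [map_mul, map_sub, map_pow, map_one, Complex.conj_natCast, Nat.cast_pow]
  field_simp [show (q : ℂ) ≠ 0 from Nat.cast_ne_zero.2 (by omega)]

theorem inner_R_left {θ : H.P → ℂ} {χ : G → ℂ} (hχ : Cfsg.IsClassFunction G χ) :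
    Cfsg.classInner χ (H.R θ) = Cfsg.classInner (fun p : H.P => χ p) θ :=
  frobenius_reciprocity' H.P θ hχ

/-- The sum of a class function over the conjugates of `P#`. -/
theorem sum_conj_P {f : G → ℂ} (hf : Cfsg.IsClassFunction G f)
    [DecidablePred fun g : G => g ≠ 1 ∧ ∃ x : G, x⁻¹ * g * x ∈ H.P] :
    ∑ g ∈ Finset.univ.filter (fun g : G => g ≠ 1 ∧ ∃ x : G, x⁻¹ * g * x ∈ H.P), f g =
      ((q : ℂ) ^ 3 + 1) * (∑ p : H.P, f p - f 1) := by
  classical
  have hq := H.q_ge
  let θ : H.P → ℂ := fun p => if p = 1 then 0 else 1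
  have hθ : Cfsg.IsClassFunction H.P θ := fun g h => by simp [θ]
  have hR : ∀ g : G, H.R θ g =
      if g ≠ 1 ∧ ∃ x : G, x⁻¹ * g * x ∈ H.P then ((q : ℂ) - 1) else 0 := by
    intro g
    split_ifs with h
    · obtain ⟨hg, x, hx⟩ := h
      have hne : (⟨x⁻¹ * g * x, hx⟩ : H.P) ≠ 1 := fun e => hg (by
        have := congrArg (fun y : H.P => x * (y : G) * x⁻¹) e
        simpa [mul_assoc] using this)
      have h2 := H.R_isClassFunction θ g x⁻¹
      rw [inv_inv] at h2
      rw [← h2, H.R_apply hθ ⟨_, hx⟩ hne]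
      simp [orb, θ, hne, H.cardW, ← Nat.card_eq_fintype_card,
        Nat.cast_sub (show 1 ≤ q by omega)]
    · by_cases hg : g = 1
      · subst hg; simp [R_one, θ]
      · exact H.R_zero fun x hx => h ⟨hg, x, hx⟩
  have h := H.inner_R_left (θ := θ) hf
  rw [classInner_def, classInner_def] at h
  simp only [hR, θ, apply_ite conj, map_sub, Complex.conj_natCast, map_one, map_zero, mul_ite,
    mul_zero, mul_one, ← Finset.sum_filter, ite_not] at h
  rw [← Finset.sum_mul, H.cardG, H.cardP,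
    show ∑ x : H.P, (if x = 1 then 0 else f x) = ∑ p : H.P, f p - f 1 by
      rw [← Finset.add_sum_erase _ _ (Finset.mem_univ (1 : H.P)),
        ← Finset.add_sum_erase _ (fun x : H.P => f x) (Finset.mem_univ (1 : H.P))]
      simp only [if_true, zero_add, OneMemClass.coe_one, add_sub_cancel_left]
      exact Finset.sum_congr rfl fun x hx => if_neg (Finset.ne_of_mem_erase hx)] at h
  have h1 : (q : ℂ) ≠ 0 := Nat.cast_ne_zero.2 (by omega)
  have h2 : (q : ℂ) ^ 3 + 1 ≠ 0 := by
    exact_mod_cast Nat.succ_ne_zero (q ^ 3)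
  have h3 : (q : ℂ) - 1 ≠ 0 := by
    rw [sub_ne_zero]
    exact_mod_cast (show q ≠ 1 by omega)
  push_cast [Nat.cast_sub (show 1 ≤ q by omega)] at h
  field_simp at h
  exact h

end Setting

end Cfsg.Agent.ReeSylowThree
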