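import Mathlib
import Cfsg.Agent.Lib.ReeSylowThree.Induced

/-!
The linear characters of `P` under the torus.
-/

set_option autoImplicit false
set_option linter.style.haveILetI false
set_option linter.unusedSectionVars false

namespace Cfsg.Agent.ReeSylowThree

open Subgroup Cfsg.Agent.Characters
open scoped ComplexConjugate

universe u

namespace Setting

variable {G : Type u} [Group G] {q : ℕ} (H : Setting G q)

/-- The element `t` in `W`. -/
def tW : H.W := ⟨H.t, H.t_mem⟩

theorem tW_ne : H.tW ≠ 1 := fun h => H.t_ne (congrArg Subtype.val h)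

theorem tW_mul : H.tW * H.tW = 1 := Subtype.ext H.t_mul

theorem commW (v w : H.W) : v * w = w * v := by
  haveI := H.cyclicW
  exact mul_comm' v w

/-- The function of a linear character. -/
def lin (l : H.P →* ℂˣ) : H.P → ℂ := fun p => (l p : ℂ)

theorem lin_injective : Function.Injective H.lin := fun a b h =>
  MonoidHom.ext fun p => Units.ext (congrFun h p)

theorem lin_irr (l : H.P →* ℂˣ) : Cfsg.IsIrrCharacter H.P (H.lin l) := isIrrCharacter_linear l

theorem lin_char (l : H.P →* ℂˣ) : Cfsg.IsCharacter H.P (H.lin l) := isCharacter_linear l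

theorem lin_one (l : H.P →* ℂˣ) : H.lin l 1 = 1 := by simp [lin]

/-- The conjugate of a linear character. -/
def lconj (w : H.W) (l : H.P →* ℂˣ) : H.P →* ℂˣ := l.comp (H.wc w).toMonoidHom

theorem lin_lconj (w : H.W) (l : H.P →* ℂˣ) : H.lin (H.lconj w l) = H.wconj w (H.lin l) := rfl

theorem lconj_one (l : H.P →* ℂˣ) : H.lconj 1 l = l :=
  H.lin_injective (by rw [lin_lconj, wconj_one])

theorem lconj_lconj (v w : H.W) (l : H.P →* ℂˣ) :
    H.lconj v (H.lconj w l) = H.lconj (w * v) l :=
  H.lin_injective (by simp only [lin_lconj, wconj_wconj])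

variable [Finite G]

/-- A nontrivial linear character is only fixed by `1` and `t`. -/
theorem eq_one_of_fixed {w : H.W} (h1 : w ≠ 1) (ht : w ≠ H.tW) {l : H.P →* ℂˣ}
    (hl : H.lconj w l = l) : l = 1 := by
  let φ : H.P → H.P := fun p => p⁻¹ * H.wc w p
  have hφ : Function.Injective φ := by
    intro a b h
    have h' : H.wc w (b * a⁻¹) = b * a⁻¹ := by
      have h1' : H.wc w a = a * b⁻¹ * H.wc w b := by
        rw [mul_assoc, ← show φ a = b⁻¹ * H.wc w b from h]
        exact (mul_inv_cancel_left a _).symm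
      rw [map_mul, map_inv, h1']
      group
    have hc : Commute (w : G) ((b * a⁻¹ : H.P) : G) := by
      have := congrArg (fun x : H.P => (x : G)) h'
      simp only [wc_coe] at this
      exact mul_inv_eq_iff_eq_mul.1 this
    have := H.fpf w w.2 (fun e => h1 (Subtype.ext e)) (fun e => ht (Subtype.ext e)) _ (b * a⁻¹).2 hc
    exact (mul_inv_eq_one.1 (Subtype.ext this)).symm
  refine MonoidHom.ext fun y => ?_
  obtain ⟨p, rfl⟩ := (Finite.injective_iff_surjective.1 hφ) y
  show l (p⁻¹ * H.wc w p) = 1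
  rw [map_mul, show l (H.wc w p) = l p from DFunLike.congr_fun hl p, map_inv, inv_mul_cancel]

/-- A linear character fixed by `t` is given by its restriction to `C_P(t)`. -/
theorem fixed_ext {l l' : H.P →* ℂˣ} (hl : H.lconj H.tW l = l) (hl' : H.lconj H.tW l' = l')
    (h : ∀ u : H.P, (u : G) ∈ centralizer ({H.t} : Set G) → l u = l' u) : l = l' := by
  refine MonoidHom.ext fun p => ?_
  set y : H.P := p⁻¹ * H.wc H.tW p with hy
  obtain ⟨f, -, -, hqf⟩ := H.q_pow
  have hodd : Odd (Nat.card H.P) := by rw [H.cardP]; exact H.q_odd.pow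
  obtain ⟨k, hk⟩ := hodd
  have hpow : ∀ z : H.P, z ^ (2 * k + 1) = 1 := fun z => by rw [← hk, pow_card_eq_one']
  set z : H.P := y ^ (k + 1) with hz
  have hz2 : z * z = y := by
    rw [hz, ← pow_add, show k + 1 + (k + 1) = (2 * k + 1) + 1 by ring, pow_succ, hpow, one_mul]
  have hwt : ∀ a : H.P, H.wc H.tW (H.wc H.tW a) = a := fun a => by
    rw [wc_mul, H.tW_mul, wc_one]; rfl
  have hyt : H.wc H.tW y = y⁻¹ := by
    rw [hy, map_mul, map_inv, hwt, mul_inv_rev, inv_inv]
  have hzt : H.wc H.tW z = z⁻¹ := by rw [hz, map_pow, hyt, inv_pow]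
  have hu : ((p * z : H.P) : G) ∈ centralizer ({H.t} : Set G) := by
    have h' : H.wc H.tW (p * z) = p * z := by
      rw [map_mul, hzt, show H.wc H.tW p = p * y by rw [hy, mul_inv_cancel_left], ← hz2]
      group
    rw [mem_centralizer_singleton_iff]
    exact (mul_inv_eq_iff_eq_mul.1 (congrArg (fun x : H.P => (x : G)) h')).symm
  have hkill : ∀ m : H.P →* ℂˣ, H.lconj H.tW m = m → m z = 1 := by
    intro m hm
    have h2 : m y = 1 := by
      rw [hy, map_mul, show m (H.wc H.tW p) = m p from DFunLike.congr_fun hm p, map_inv,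
        inv_mul_cancel]
    rw [hz, map_pow, h2, one_pow]
  have := h _ hu
  rwa [map_mul, map_mul, hkill l hl, hkill l' hl', mul_one, mul_one] at this

/-- Representatives of the orbits of the moved linear characters. -/
theorem exists_orbits : ∃ (N : ℕ) (ℓ : Fin N → (H.P →* ℂˣ)),
    (_root_.commutator H.P).index ≤ q + N * (q - 1) ∧ (∀ i, H.lconj H.tW (ℓ i) ≠ ℓ i) ∧
    (∀ i j w, H.lconj w (ℓ i) = ℓ j → i = j ∧ w = 1) ∧
    ∀ l, H.lconj H.tW l ≠ l → ∃ i w, H.lconj w (ℓ i) = l := by
  classical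
  haveI hfin : Finite (H.P →* ℂˣ) := Nat.finite_of_card_ne_zero (by
    rw [card_linear_hom]; exact Subgroup.index_ne_zero_of_finite)
  let M := {l : H.P →* ℂˣ // H.lconj H.tW l ≠ l}
  have hmove : ∀ (l : H.P →* ℂˣ) w, H.lconj H.tW l ≠ l →
      H.lconj H.tW (H.lconj w l) ≠ H.lconj w l := fun l w hl h => hl (by
    rw [lconj_lconj, H.commW, ← lconj_lconj] at h
    have := congrArg (H.lconj w⁻¹) h
    simpa only [lconj_lconj, mul_inv_cancel, mul_inv_cancel_right, lconj_one] using this)
  let st : Setoid M :=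
    { r := fun a b => ∃ w, H.lconj w a.1 = b.1
      iseqv :=
        { refl := fun a => ⟨1, H.lconj_one _⟩
          symm := fun {a b} ⟨w, h⟩ => ⟨w⁻¹, by
            rw [← h, lconj_lconj, mul_inv_cancel, lconj_one]⟩
          trans := fun {a b c} ⟨v, h⟩ ⟨w, h'⟩ => ⟨v * w, by rw [← h', ← h, lconj_lconj]⟩ } }
  haveI : Finite (Quotient st) := Finite.of_surjective (Quotient.mk st) Quotient.mk_surjective
  letI := Fintype.ofFinite (Quotient st)
  let e := Fintype.equivFin (Quotient st)
  let ℓ : Fin (Fintype.card (Quotient st)) → (H.P →* ℂˣ) := fun i => (e.symm i).out.1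
  have hfree : ∀ i j w, H.lconj w (ℓ i) = ℓ j → i = j ∧ w = 1 := by
    intro i j w h
    have hij : i = j := by
      apply e.symm.injective
      rw [← Quotient.out_eq (e.symm i), ← Quotient.out_eq (e.symm j)]
      exact Quotient.sound ⟨w, h⟩
    subst hij
    refine ⟨rfl, ?_⟩
    by_contra hw
    have hne : ℓ i ≠ 1 := fun h1 => (e.symm i).out.2 (by
      rw [show (e.symm i).out.1 = 1 from h1]; rfl)
    by_cases hwt : w = H.tW
    · exact (e.symm i).out.2 (hwt ▸ h)
    · exact hne (H.eq_one_of_fixed hw hwt h)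
  have hcov : ∀ l, H.lconj H.tW l ≠ l → ∃ i w, H.lconj w (ℓ i) = l := fun l hl => by
    obtain ⟨w, hw⟩ := Quotient.exact (Quotient.out_eq (Quotient.mk st ⟨l, hl⟩))
    exact ⟨e (Quotient.mk st ⟨l, hl⟩), w, by
      simp only [ℓ, Equiv.symm_apply_apply]
      exact hw⟩
  refine ⟨_, ℓ, ?_, fun i => (e.symm i).out.2, hfree, hcov⟩
  have hM : Nat.card M = Fintype.card (Quotient st) * (q - 1) := by
    rw [show Fintype.card (Quotient st) * (q - 1) =
      Nat.card (Fin (Fintype.card (Quotient st)) × H.W) by rw [Nat.card_prod, Nat.card_fin, H.cardW]]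
    refine (Nat.card_congr (Equiv.ofBijective (fun x : Fin _ × H.W =>
      (⟨H.lconj x.2 (ℓ x.1), hmove _ _ (e.symm x.1).out.2⟩ : M)) ⟨fun x y h => ?_, fun l => ?_⟩)).symm
    · have h' : H.lconj x.2 (ℓ x.1) = H.lconj y.2 (ℓ y.1) := congrArg Subtype.val h
      have h2 := congrArg (H.lconj y.2⁻¹) h'
      rw [lconj_lconj, lconj_lconj, mul_inv_cancel, lconj_one] at h2
      obtain ⟨h3, h4⟩ := hfree _ _ _ h2
      exact Prod.ext h3 (mul_inv_eq_one.1 h4)
    · obtain ⟨i, w, h⟩ := hcov l.1 l.2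
      exact ⟨(i, w), Subtype.ext h⟩
  have hF : Nat.card {l : H.P →* ℂˣ // H.lconj H.tW l = l} ≤ q := by
    set U := (H.P ⊓ centralizer ({H.t} : Set G) : Subgroup G) with hUdef
    have hU : Nat.card (U →* ℂˣ) ≤ q := by
      rw [card_linear_hom]
      exact (Nat.le_of_dvd Nat.card_pos (Subgroup.index_dvd_card _)).trans_eq H.cardU
    haveI : Finite (U →* ℂˣ) := Nat.finite_of_card_ne_zero (by
      rw [card_linear_hom]; exact Subgroup.index_ne_zero_of_finite)
    refine le_trans (Nat.card_le_card_of_injective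
      (fun l => l.1.comp (Subgroup.inclusion inf_le_left)) fun a b h => ?_) hU
    exact Subtype.ext (H.fixed_ext a.2 b.2 fun u hu =>
      DFunLike.congr_fun h ⟨u, mem_inf.2 ⟨u.2, hu⟩⟩)
  rw [← card_linear_hom, ← Nat.card_congr (Equiv.sumCompl fun l => H.lconj H.tW l = l),
    Nat.card_sum]
  exact Nat.add_le_add hF hM.le

end Setting

end Cfsg.Agent.ReeSylowThree
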