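import Mathlib
import Cfsg.Agent.Lib.ReeSylowThree.Linear

/-!
Subgroups of `P` invariant under the torus.
-/

set_option autoImplicit false
set_option linter.style.haveILetI false
set_option linter.unusedSectionVars false

namespace Cfsg.Agent.ReeSylowThree

open Subgroup

universe u

/-- `3` has order `f` modulo `(3 ^ f - 1) / 2`. -/
theorem dvd_of_semiregular {f a m : ℕ} (hf : 3 ≤ f) (hm : 3 ^ f - 1 = 2 * m)
    (h : m ∣ 3 ^ a - 1) : f ∣ a := by
  have h1 : 3 ^ a ≡ 1 [MOD m] := (Nat.modEq_iff_dvd' (Nat.one_le_pow _ _ (by norm_num))).2 h |>.symm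
  have h2 : 3 ^ f ≡ 1 [MOD m] := (Nat.modEq_iff_dvd' (Nat.one_le_pow _ _ (by norm_num))).2
    ⟨2, by rw [hm, mul_comm]⟩ |>.symm
  have h3 : 3 ^ (a % f) ≡ 1 [MOD m] := by
    have e : 3 ^ a = (3 ^ f) ^ (a / f) * 3 ^ (a % f) := by rw [← pow_mul, ← pow_add, Nat.div_add_mod]
    rw [e] at h1
    have h4 := ((h2.pow (a / f)).mul_right (3 ^ (a % f))).symm
    rw [one_pow, one_mul] at h4
    exact h4.trans h1
  have hlt : a % f < f := Nat.mod_lt _ (by omega)
  have hle := Nat.pow_le_pow_right (show 0 < 3 by norm_num) (show a % f + 1 ≤ f from hlt)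
  rw [pow_succ] at hle
  have hpos := Nat.one_le_pow (a % f) 3 (by norm_num)
  have h27 : 27 ≤ 3 ^ f :=
    le_trans (by norm_num) (Nat.pow_le_pow_right (show 0 < 3 by norm_num) hf)
  have h5 := h3.eq_of_lt_of_lt (by omega) (by omega)
  exact Nat.dvd_of_mod_eq_zero ((Nat.pow_eq_one.1 h5).resolve_left (by norm_num))

namespace Setting

variable {G : Type u} [Group G] {q : ℕ} (H : Setting G q)

/-- A subgroup of `P` is invariant under `W`. -/
def Inv (Q : Subgroup H.P) : Prop := ∀ w p, p ∈ Q → H.wc w p ∈ Q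

theorem inv_top : H.Inv ⊤ := fun _ _ _ => mem_top _

theorem inv_commutator {Q R : Subgroup H.P} (hQ : H.Inv Q) (hR : H.Inv R) : H.Inv ⁅Q, R⁆ := by
  intro w p hp
  have h : (⁅Q, R⁆).map (H.wc w).toMonoidHom ≤ ⁅Q, R⁆ := by
    rw [map_commutator]
    exact commutator_mono (map_le_iff_le_comap.2 fun x hx => hQ w x hx)
      (map_le_iff_le_comap.2 fun x hx => hR w x hx)
  exact h (mem_map_of_mem _ hp)

theorem inv_derived : H.Inv (_root_.commutator H.P) := by
  rw [commutator_def]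
  exact H.inv_commutator H.inv_top H.inv_top

/-- The elements of `Q` fixed by `t`. -/
def fixedT (Q : Subgroup H.P) : Subgroup H.P where
  carrier := {p | p ∈ Q ∧ H.wc H.tW p = p}
  one_mem' := ⟨one_mem _, map_one _⟩
  mul_mem' := fun {a b} ha hb => ⟨mul_mem ha.1 hb.1, by rw [map_mul, ha.2, hb.2]⟩
  inv_mem' := fun {a} ha => ⟨inv_mem ha.1, by rw [map_inv, ha.2]⟩

theorem mem_fixedT {Q : Subgroup H.P} {p : H.P} :
    p ∈ H.fixedT Q ↔ p ∈ Q ∧ H.wc H.tW p = p := Iff.rfl

theorem wc_tW_eq_iff (p : H.P) :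
    H.wc H.tW p = p ↔ (p : G) ∈ centralizer ({H.t} : Set G) := by
  rw [mem_centralizer_singleton_iff]
  constructor
  · intro h
    exact (mul_inv_eq_iff_eq_mul.1 (congrArg (fun x : H.P => (x : G)) h)).symm
  · intro h
    exact Subtype.ext (mul_inv_eq_iff_eq_mul.2 h.symm)

theorem inv_fixedT {Q : Subgroup H.P} (hQ : H.Inv Q) : H.Inv (H.fixedT Q) := fun w p hp =>
  ⟨hQ w p hp.1, by rw [wc_mul, H.commW, ← wc_mul, hp.2]⟩

variable [Finite G]

theorem card_fixedT_top : Nat.card (H.fixedT ⊤) = q := by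
  refine (Nat.card_congr ?_).trans H.cardU
  exact
    { toFun := fun p => ⟨(p : H.P), mem_inf.2 ⟨p.1.2, (H.wc_tW_eq_iff _).1 p.2.2⟩⟩
      invFun := fun g => ⟨⟨g, (mem_inf.1 g.2).1⟩,
        ⟨mem_top _, (H.wc_tW_eq_iff _).2 (mem_inf.1 g.2).2⟩⟩
      left_inv := fun _ => rfl
      right_inv := fun _ => rfl }

theorem wc_fixed_eq_one {w : H.W} (h1 : w ≠ 1) (ht : w ≠ H.tW) {p : H.P} (h : H.wc w p = p) :
    p = 1 :=
  Subtype.ext (H.fpf w w.2 (fun e => h1 (Subtype.ext e)) (fun e => ht (Subtype.ext e)) p p.2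
    (mul_inv_eq_iff_eq_mul.1 (congrArg (fun y : H.P => (y : G)) h)))

/-- The odd part of the torus acts semiregularly on the non-identity elements. -/
theorem semireg_dvd {Q : Subgroup H.P} (hQ : H.Inv Q) : (q - 1) / 2 ∣ Nat.card Q - 1 := by
  classical
  haveI := H.cyclicW
  obtain ⟨g, hg⟩ := IsCyclic.exists_ofOrder_eq_natCard (α := H.W)
  rw [H.cardW] at hg
  have hq := H.q_ge
  have hq8 := H.q_mod
  set m := (q - 1) / 2 with hm
  have hm2 : q - 1 = 2 * m := by omega
  set T := zpowers (g ^ 2) with hT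
  have hcardT : Nat.card T = m := by
    rw [hT, Nat.card_zpowers, orderOf_pow, hg, hm2, Nat.gcd_eq_right (dvd_mul_right 2 m),
      Nat.mul_div_cancel_left _ two_pos]
  let D := {p : H.P // p ∈ Q ∧ p ≠ 1}
  letI : MulAction T D :=
    { smul := fun w p => ⟨H.wc (w : H.W) p.1, hQ _ _ p.2.1, fun h => p.2.2 (by
        simpa using (H.wc (w : H.W)).injective (h.trans (map_one _).symm))⟩
      one_smul := fun p => Subtype.ext (by
        show H.wc ((1 : T) : H.W) p.1 = p.1
        rw [OneMemClass.coe_one, wc_one]; rfl)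
      mul_smul := fun v w p => Subtype.ext (by
        show H.wc ((v * w : T) : H.W) p.1 = H.wc (v : H.W) (H.wc (w : H.W) p.1)
        rw [Subgroup.coe_mul, wc_mul]) }
  have hfree : ∀ (w : T) (p : D), w • p = p → w = 1 := by
    intro w p h
    by_contra hw
    refine p.2.2 (H.wc_fixed_eq_one (fun e => hw (Subtype.ext e)) (fun e => ?_)
      (congrArg Subtype.val h))
    have hd : orderOf H.tW ∣ m := by
      rw [← e, ← hcardT, Subgroup.orderOf_coe]
      exact orderOf_dvd_natCard w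
    rw [orderOf_eq_prime (by rw [pow_two, H.tW_mul]) H.tW_ne] at hd
    omega
  have hD : Nat.card D = Nat.card Q - 1 := by
    letI := Fintype.ofFinite Q
    rw [Nat.card_congr (β := {x : Q // x ≠ 1})
      { toFun := fun p => ⟨⟨p.1, p.2.1⟩, fun h => p.2.2 (congrArg Subtype.val h)⟩
        invFun := fun x => ⟨x.1.1, x.1.2, fun h => x.2 (Subtype.ext h)⟩
        left_inv := fun _ => rfl
        right_inv := fun _ => rfl }]
    rw [Nat.card_eq_fintype_card, Fintype.card_subtype_compl, Fintype.card_subtype_eq,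
      ← Nat.card_eq_fintype_card]
  haveI : Finite (MulAction.orbitRel.Quotient T D) := Finite.of_surjective _ Quotient.mk''_surjective
  letI := Fintype.ofFinite (MulAction.orbitRel.Quotient T D)
  rw [← hD, ← hcardT, Nat.card_congr (MulAction.selfEquivSigmaOrbits T D), Nat.card_sigma]
  refine Finset.dvd_sum fun x _ => dvd_of_eq ?_
  exact Nat.card_congr (Equiv.ofBijective
    (fun w : T => (⟨w • Quotient.out x, MulAction.mem_orbit _ w⟩ :
      MulAction.orbit T (Quotient.out x)))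
    ⟨fun v w h => by
      have h' : v • Quotient.out x = w • Quotient.out x := congrArg Subtype.val h
      have h2 := hfree (w⁻¹ * v) _ (by rw [mul_smul, h', inv_smul_smul])
      exact (inv_mul_eq_one.1 h2).symm,
    fun y => by
      obtain ⟨w, hw⟩ := y.2
      exact ⟨w, Subtype.ext hw⟩⟩)

/-- An invariant subgroup has order a power of `q`. -/
theorem card_inv {Q : Subgroup H.P} (hQ : H.Inv Q) : ∃ k, k ≤ 3 ∧ Nat.card Q = q ^ k := by
  obtain ⟨f, -, hf3, hqf⟩ := H.q_pow
  haveI : Fact (Nat.Prime 3) := ⟨Nat.prime_three⟩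
  obtain ⟨a, ha⟩ := IsPGroup.iff_card.1 (H.isPGroup_P.to_subgroup Q)
  have hle : a ≤ 3 * f := by
    have := Subgroup.card_subgroup_dvd_card Q
    rw [ha, H.cardP, hqf, ← pow_mul, mul_comm f] at this
    exact (Nat.pow_dvd_pow_iff_le_right (by norm_num)).1 this
  have hd := H.semireg_dvd hQ
  rw [ha] at hd
  have hq8 := H.q_mod
  obtain ⟨k, rfl⟩ := dvd_of_semiregular hf3 (show 3 ^ f - 1 = 2 * ((q - 1) / 2) by
    rw [← hqf]; omega) hd
  refine ⟨k, ?_, by rw [ha, hqf, ← pow_mul]⟩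
  exact Nat.le_of_mul_le_mul_left (hle.trans_eq (mul_comm _ _)) (by omega)

theorem card_fixedT {Q : Subgroup H.P} (hQ : H.Inv Q) :
    H.fixedT Q = ⊥ ∨ H.fixedT ⊤ ≤ Q := by
  obtain ⟨k, -, hk⟩ := H.card_inv (H.inv_fixedT hQ)
  have hle : H.fixedT Q ≤ H.fixedT ⊤ := fun p hp => ⟨mem_top _, hp.2⟩
  rcases Nat.eq_zero_or_pos k with rfl | hk0
  · exact Or.inl (Subgroup.eq_bot_of_card_eq _ (by rw [hk, pow_zero]))
  · have h1 : q ≤ Nat.card (H.fixedT Q) := by
      rw [hk]; exact Nat.le_self_pow hk0.ne' q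
    have h2 := Subgroup.eq_of_le_of_card_ge hle (by rw [H.card_fixedT_top]; exact h1)
    exact Or.inr (h2 ▸ fun p hp => hp.1)

/-- An invariant subgroup without elements fixed by `t` is inverted by `t`. -/
theorem inverted {Q : Subgroup H.P} (hQ : H.Inv Q) (h : H.fixedT Q = ⊥) {p : H.P} (hp : p ∈ Q) :
    H.wc H.tW p = p⁻¹ := by
  let φ : Q →* Q :=
    { toFun := fun x => ⟨H.wc H.tW x, hQ _ _ x.2⟩
      map_one' := Subtype.ext (map_one _)
      map_mul' := fun a b => Subtype.ext (map_mul _ _ _) }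
  have h1 : MonoidHom.FixedPointFree φ := fun x hx => by
    have : (x : H.P) ∈ H.fixedT Q := ⟨x.2, congrArg Subtype.val hx⟩
    rw [h, mem_bot] at this
    exact Subtype.ext this
  have h2 : Function.Involutive φ := fun x => Subtype.ext (by
    show H.wc H.tW (H.wc H.tW (x : H.P)) = x
    rw [wc_mul, H.tW_mul, wc_one]
    rfl)
  exact congrArg Subtype.val (congrFun (h1.coe_eq_inv_of_involutive h2) ⟨p, hp⟩)

/-- `[Q, P] < Q` for an invariant subgroup `Q ≠ ⊥`. -/
theorem card_commutator_lt {Q : Subgroup H.P} [Q.Normal] (hne : Q ≠ ⊥) :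
    Nat.card (⁅Q, (⊤ : Subgroup H.P)⁆ : Subgroup H.P) < Nat.card Q := by
  haveI : Fact (Nat.Prime 3) := ⟨Nat.prime_three⟩
  haveI := H.isPGroup_P.isNilpotent
  refine lt_of_le_of_ne (card_le_of_le (commutator_le_left Q ⊤)) fun he => hne ?_
  have heq : ⁅Q, (⊤ : Subgroup H.P)⁆ = Q :=
    eq_of_le_of_card_ge (commutator_le_left Q ⊤) he.ge
  obtain ⟨n, hn⟩ := Subgroup.nilpotent_iff_lowerCentralSeries.1
    (inferInstance : Group.IsNilpotent H.P)
  have hle : ∀ k, Q ≤ (⊤ : Subgroup H.P).lowerCentralSeries k := by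
    intro k
    induction k with
    | zero => exact le_top
    | succ k ih => exact heq.ge.trans (commutator_mono ih le_rfl)
  exact le_bot_iff.1 (hn ▸ hle n)

end Setting

end Cfsg.Agent.ReeSylowThree
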