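import Mathlib
import Cfsg.Agent.Lib.ReeSylowThree.Linear

/-!
The permutation character, its constituent of degree `q ^ 3`, and the projection `B → W`.
-/

set_option autoImplicit false
set_option linter.style.haveILetI false
set_option linter.unusedSectionVars false

namespace Cfsg.Agent.ReeSylowThree

open Subgroup Cfsg.Agent.Characters
open scoped ComplexConjugate

universe u

section Bessel

variable {G : Type u} [Group G] [Fintype G]

/-- The integral form of Bessel's inequality. -/
theorem gen_bessel {θ : G → ℂ} (hθ : Cfsg.IsGeneralizedCharacter G θ) {k : ℕ}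
    (hk : Cfsg.classInner θ θ = k) (s : Finset (Cfsg.IrrCharacter G))
    (n : Cfsg.IrrCharacter G → ℤ) (hn : ∀ χ ∈ s, Cfsg.classInner θ χ = n χ) :
    ∑ χ ∈ s, n χ * n χ ≤ k ∧
      (∑ χ ∈ s, n χ * n χ = k → θ = ∑ χ ∈ s, (n χ : ℂ) • (χ : G → ℂ)) := by
  classical
  haveI := Fintype.ofFinite (Cfsg.IrrCharacter G)
  have hm : ∀ χ : Cfsg.IrrCharacter G, ∃ z : ℤ, Cfsg.classInner θ χ = z :=
    fun χ => classInner_gen_int hθ (isGen_of_isCharacter (irr_isCharacter χ))
  choose m hm using hm
  have hsum : ∑ χ, m χ * m χ = k := by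
    have := classInner_eq_sum θ (isGen_isClassFunction hθ)
    simp only [fun χ : Cfsg.IrrCharacter G => classInner_conj_symm θ (χ : G → ℂ), hm, map_intCast,
      hk] at this
    exact_mod_cast this.symm
  have hmn : ∀ χ ∈ s, m χ = n χ := fun χ hχ => by
    have := (hm χ).symm.trans (hn χ hχ)
    exact_mod_cast this
  have hs : ∑ χ ∈ s, n χ * n χ = ∑ χ ∈ s, m χ * m χ :=
    Finset.sum_congr rfl fun χ hχ => by rw [hmn χ hχ]
  have hle : ∑ χ ∈ s, n χ * n χ ≤ k := by
    rw [hs, ← hsum]
    exact Finset.sum_le_sum_of_subset_of_nonneg (Finset.subset_univ _)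
      fun χ _ _ => mul_self_nonneg _
  refine ⟨hle, fun he => ?_⟩
  have hexp := classFun_eq_sum (isGen_isClassFunction hθ)
  simp only [hm] at hexp
  rw [hexp]
  refine (Finset.sum_subset_zero_on_sdiff (Finset.subset_univ s) (fun χ hχ => ?_)
    fun χ hχ => by rw [hmn χ hχ]).symm
  have hzero : ∑ χ ∈ Finset.univ \ s, m χ * m χ = 0 := by
    have := Finset.sum_sdiff (f := fun χ => m χ * m χ) (Finset.subset_univ s)
    rw [hsum] at this
    rw [hs] at he
    omega
  have h0 := (Finset.sum_eq_zero_iff_of_nonneg fun χ _ => mul_self_nonneg (m χ)).1 hzero χ hχ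
  rw [mul_self_eq_zero.1 h0]
  simp

end Bessel

namespace Setting

variable {G : Type u} [Group G] {q : ℕ} (H : Setting G q)

/-- The projection of `B` on `W`. -/
noncomputable def proj : H.B →* H.W where
  toFun b := ⟨(H.exists_mul b.2).choose_spec.2.choose,
    (H.exists_mul b.2).choose_spec.2.choose_spec.1⟩
  map_one' := by
    obtain ⟨hp, hs⟩ := (H.exists_mul (one_mem H.B)).choose_spec
    obtain ⟨hw, h⟩ := hs.choose_spec
    exact Subtype.ext (H.mul_inj hp (one_mem _) hw (one_mem _) (h.trans (one_mul 1).symm)).2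
  map_mul' a b := by
    obtain ⟨hp, hs⟩ := (H.exists_mul a.2).choose_spec
    obtain ⟨hw, h⟩ := hs.choose_spec
    obtain ⟨hp', hs'⟩ := (H.exists_mul b.2).choose_spec
    obtain ⟨hw', h'⟩ := hs'.choose_spec
    obtain ⟨hp'', hs''⟩ := (H.exists_mul (a * b).2).choose_spec
    obtain ⟨hw'', h''⟩ := hs''.choose_spec
    refine Subtype.ext ((H.mul_inj hp'' (mul_mem hp (H.conj_mem_P hw hp')) hw''
      (mul_mem hw hw') ?_).2)
    rw [h'']
    conv_lhs => rw [Subgroup.coe_mul, ← h, ← h']
    group

theorem proj_P (b : H.B) (hb : (b : G) ∈ H.P) : H.proj b = 1 := by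
  obtain ⟨hp, hs⟩ := (H.exists_mul b.2).choose_spec
  obtain ⟨hw, h⟩ := hs.choose_spec
  exact Subtype.ext (H.mul_inj hp hb hw (one_mem _) (h.trans (mul_one _).symm)).2

theorem proj_W (w : H.W) (hw : (w : G) ∈ H.B) : H.proj ⟨w, hw⟩ = w := by
  obtain ⟨hp, hs⟩ := (H.exists_mul hw).choose_spec
  obtain ⟨hw', h⟩ := hs.choose_spec
  exact Subtype.ext (H.mul_inj hp (one_mem _) hw' w.2 (h.trans (one_mul _).symm)).2

variable [Fintype G]

noncomputable instance : Fintype H.B := Fintype.ofFinite _

/-- The permutation character. -/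
noncomputable def perm : G → ℂ := Cfsg.indFun H.B (fun _ => 1)

theorem perm_isCharacter : Cfsg.IsCharacter G H.perm :=
  isCharacter_indFun H.B isCharacter_one

theorem indFun_P {Λ : H.B → ℂ} (hΛ : ∀ b : H.B, (b : G) ∈ H.P → Λ b = 1) (p : H.P)
    (hp : p ≠ 1) : Cfsg.indFun H.B Λ p = 1 := by
  classical
  apply mul_left_cancel₀ (Nat.cast_ne_zero.2 Nat.card_pos.ne' : (Nat.card H.B : ℂ) ≠ 0)
  rw [CharTheory.IndBasic.card_mul_indFun, mul_one,
    ← Fintype.sum_of_injective (Subtype.val : H.B → G) Subtype.val_injective (fun _ : H.B => (1 : ℂ))]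
  · rw [Finset.sum_const, Finset.card_univ, nsmul_one, Nat.card_eq_fintype_card]
  · intro x hx
    refine CharTheory.IndBasic.extendByZero_of_notMem _ _ fun hm => hx ⟨⟨x, ?_⟩, rfl⟩
    exact H.mem_B_of_conj p.2 (fun h => hp (Subtype.ext h)) hm
  · intro b
    have hm : (b : G)⁻¹ * p * b ∈ H.P := by
      simpa using H.conj_mem_P_of_B (inv_mem b.2) p.2
    rw [CharTheory.IndBasic.extendByZero_of_mem _ _ (le_sup_left (b := H.W) hm)]
    exact (hΛ _ hm).symm

theorem perm_P (p : H.P) (hp : p ≠ 1) : H.perm p = 1 := H.indFun_P (fun _ _ => rfl) p hp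

theorem perm_one : H.perm 1 = (q : ℂ) ^ 3 + 1 := by
  rw [perm, indFun_one, H.index_B]
  push_cast
  ring

theorem perm_norm : Cfsg.classInner H.perm H.perm = 2 := by
  classical
  haveI := Fintype.ofFinite (G ⧸ H.B)
  let o : G ⧸ H.B := ((1 : G) : G ⧸ H.B)
  have hfix : ∀ b : H.B, b • o = o := fun b => by
    show ((((b : G) * 1 : G)) : G ⧸ H.B) = o
    rw [QuotientGroup.eq]
    simp
  have hmem : ∀ g : G, ((g : G ⧸ H.B) = o ↔ g ∈ H.B) := fun g => by
    rw [QuotientGroup.eq, mul_one, inv_mem_iff]
  obtain ⟨g, hg⟩ : ∃ g : G, g ∉ H.B := by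
    by_contra hall
    push Not at hall
    have := H.index_B
    rw [(eq_top_iff' _).2 hall, index_top] at this
    have := H.q_ge
    have : 0 < q ^ 3 := pow_pos (by omega) 3
    omega
  let e : Quotient (MulAction.orbitRel H.B (G ⧸ H.B)) ≃ Bool :=
    { toFun := Quotient.lift (fun x => decide (x = o)) fun x y hxy => by
        obtain ⟨b, rfl⟩ := hxy
        simp only [decide_eq_decide]
        exact ⟨fun h => by rw [← inv_smul_smul b y, h, hfix], fun h => by subst h; exact hfix b⟩
      invFun := fun b => if b then Quotient.mk _ o else Quotient.mk _ (g : G ⧸ H.B)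
      left_inv := fun x => by
        induction x using Quotient.inductionOn with
        | h x =>
          induction x using QuotientGroup.induction_on with
          | H k =>
            show (if decide ((k : G ⧸ H.B) = o) then Quotient.mk _ o
              else Quotient.mk _ (g : G ⧸ H.B)) = _
            by_cases hk : (k : G ⧸ H.B) = o
            · rw [hk]; simp
            · simp only [decide_eq_true_eq, if_neg hk]
              obtain ⟨p, hp, h⟩ := H.exists_translate (fun hh => hk ((hmem k).2 hh)) hg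
              refine Quotient.sound ⟨⟨p, le_sup_left (b := H.W) hp⟩, ?_⟩
              show ((p * k : G) : G ⧸ H.B) = g
              exact QuotientGroup.eq.2 h
      right_inv := fun b => by
        cases b
        · simpa using fun h => hg ((hmem g).1 h)
        · simp }
  have hburn := MulAction.sum_card_fixedBy_eq_card_orbits_mul_card_group H.B (G ⧸ H.B)
  rw [Fintype.card_congr e, Fintype.card_bool] at hburn
  rw [perm, frobenius_reciprocity' H.B (fun _ => 1) (indFun_isClassFunction _ _), classInner_def]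
  simp only [map_one, mul_one]
  have hval : ∀ b : H.B, Cfsg.indFun H.B (fun _ => 1) (b : G) =
      (Fintype.card (MulAction.fixedBy (G ⧸ H.B) b) : ℂ) := fun b => by
    rw [CharTheory.IndBasic.indFun_one_eq_card_fixed, ← Nat.card_eq_fintype_card]
    rfl
  simp only [hval]
  rw [← Nat.cast_sum, hburn, ← Nat.card_eq_fintype_card, Nat.cast_mul, ← mul_assoc,
    mul_comm ((Nat.card H.B : ℂ)⁻¹), mul_assoc,
    inv_mul_cancel₀ (Nat.cast_ne_zero.2 Nat.card_pos.ne'), mul_one]
  norm_num

/-- The constituent of degree `q ^ 3` of the permutation character. -/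
noncomputable def steinberg : G → ℂ := H.perm - fun _ => 1

theorem steinberg_one : H.steinberg 1 = (q : ℂ) ^ 3 := by
  simp [steinberg, H.perm_one]

theorem steinberg_P (p : H.P) (hp : p ≠ 1) : H.steinberg p = 0 := by
  simp [steinberg, H.perm_P p hp]

theorem steinberg_irr : Cfsg.IsIrrCharacter G H.steinberg := by
  classical
  have h1 : Cfsg.classInner H.perm (fun _ => (1 : ℂ)) = 1 := by
    rw [perm, frobenius_reciprocity H.B (fun _ => 1) (fun _ _ => rfl)]
    exact classInner_isIrr_self isIrrCharacter_one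
  refine isIrr_of_gen_norm_one
    (isGen_sub (isGen_of_isCharacter H.perm_isCharacter) (isGen_of_isCharacter isCharacter_one))
    ?_ (by
      rw [H.steinberg_one, ← Nat.cast_pow, Complex.natCast_re]
      exact Nat.cast_pos.2 (pow_pos (by have := H.q_ge; omega) 3))
  have h1' : Cfsg.classInner (fun _ => (1 : ℂ)) H.perm = 1 := by
    rw [classInner_conj_symm, h1, map_one]
  rw [steinberg, classInner_sub_left, classInner_sub_right, classInner_sub_right, H.perm_norm, h1,
    h1', classInner_isIrr_self isIrrCharacter_one]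
  norm_num

end Setting

end Cfsg.Agent.ReeSylowThree
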