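import Mathlib
import Cfsg.Agent.Lib.ReeSylowThree.Steinberg
import Cfsg.Agent.Lib.Characters.Coherence

/-!
The exceptional characters attached to the moved linear characters of `P`.
-/

set_option autoImplicit false
set_option linter.style.haveILetI false
set_option linter.unusedSectionVars false

namespace Cfsg.Agent.ReeSylowThree

open Subgroup Cfsg.Agent.Characters
open scoped ComplexConjugate

universe u

namespace Setting

variable {G : Type u} [Group G] {q : ℕ} (H : Setting G q)

/-- The multiplicity is constant on the orbit. -/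
theorem inner_restrict_wconj [Fintype G] {χ : G → ℂ} (hχ : Cfsg.IsClassFunction G χ) (w : H.W)
    (θ : H.P → ℂ) :
    Cfsg.classInner (fun p : H.P => χ p) (H.wconj w θ) =
      Cfsg.classInner (fun p : H.P => χ p) θ := by
  rw [← H.classInner_wconj w (fun p : H.P => χ p) θ]
  congr 1
  funext p
  exact (hχ p w).symm

/-- The exceptional characters. -/
structure Exc [Fintype G] where
  N : ℕ
  q_le : q ≤ N
  ℓ : Fin N → (H.P →* ℂˣ)
  moved : ∀ i, H.lconj H.tW (ℓ i) ≠ ℓ i
  free : ∀ i j w, H.lconj w (ℓ i) = ℓ j → i = j ∧ w = 1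
  cover : ∀ l, H.lconj H.tW l ≠ l → ∃ i w, H.lconj w (ℓ i) = l
  μ : Fin N → Cfsg.IrrCharacter G
  μ_inj : Function.Injective μ
  diff : ∀ i j, H.R (H.lin (ℓ i)) - H.R (H.lin (ℓ j)) = (μ i : G → ℂ) - (μ j : G → ℂ)
  mult : ∀ i j, Cfsg.classInner (fun p : H.P => (μ i : G → ℂ) p) (H.lin (ℓ j)) =
    if i = j then 1 else 0
  triv : ∀ i, Cfsg.classInner (fun p : H.P => (μ i : G → ℂ) p) (fun _ => 1) = 0

variable [Fintype G]

theorem inner_lin_lconj (w : H.W) (a b : H.P →* ℂˣ) :
    Cfsg.classInner (H.lin a) (H.wconj w (H.lin b)) = if a = H.lconj w b then 1 else 0 := by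
  rw [← lin_lconj]
  split_ifs with h
  · rw [h]; exact classInner_isIrr_self (H.lin_irr _)
  · exact classInner_isIrr_ne (H.lin_irr _) (H.lin_irr _) fun e => h (H.lin_injective e)

theorem inner_R_lin {N : ℕ} {ℓ : Fin N → (H.P →* ℂˣ)}
    (free : ∀ i j w, H.lconj w (ℓ i) = ℓ j → i = j ∧ w = 1) (i j : Fin N) :
    Cfsg.classInner (H.R (H.lin (ℓ i))) (H.R (H.lin (ℓ j))) =
      (if i = j then 1 else 0) + ((q : ℂ) - 1) := by
  classical
  rw [H.inner_R (char_isClassFunction (H.lin_char _)), lin_one, lin_one, map_one, mul_one, mul_one]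
  congr 1
  simp only [H.inner_lin_lconj]
  rw [Finset.sum_eq_single 1 (fun w _ hw => if_neg fun h => hw (free j i w h.symm).2) (by simp)]
  rw [H.lconj_one]
  exact if_congr ⟨fun h => ((free j i 1 (by rw [H.lconj_one, h])).1).symm, fun h => by rw [h]⟩
    rfl rfl

/-- The exceptional characters exist when `|P : P'| ≥ q ^ 2`. -/
theorem exists_exc (hidx : q ^ 2 ≤ (_root_.commutator H.P).index) : Nonempty H.Exc := by
  classical
  have hq := H.q_ge
  obtain ⟨N, ℓ, hN, moved, free, cover⟩ := H.exists_orbits
  have hqN : q ≤ N := by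
    by_contra h
    have : N * (q - 1) + (q - 1) ≤ q * (q - 1) := by
      rw [← Nat.succ_mul]; exact Nat.mul_le_mul_right _ (by omega)
    have h2 : q * (q - 1) + q = q ^ 2 := by
      rw [Nat.mul_sub, pow_two, mul_one, Nat.sub_add_cancel (Nat.le_mul_self q)]
    omega
  obtain ⟨n, rfl⟩ : ∃ n, N = n + 1 := ⟨N - 1, by omega⟩
  let τ : Fin (n + 1) → (G → ℂ) := fun i => H.R (H.lin (ℓ i)) - H.R (H.lin (ℓ 0))
  have hgen : ∀ i, Cfsg.IsGeneralizedCharacter G (τ i) := fun i =>
    isGen_sub (isGen_indFun _ (isGen_of_isCharacter (H.lin_char _)))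
      (isGen_indFun _ (isGen_of_isCharacter (H.lin_char _)))
  have hRR := H.inner_R_lin free
  have hgram : ∀ i j, i ≠ 0 → j ≠ 0 → Cfsg.classInner (τ i) (τ j) = if i = j then 2 else 1 := by
    intro i j hi hj
    simp only [τ, classInner_sub_left, classInner_sub_right, hRR, if_neg hi, if_neg (Ne.symm hj),
      if_true]
    split_ifs <;> ring
  obtain ⟨ε, hε, μ, hμirr, hμinj, hτ⟩ := exists_coherent_family (0 : Fin (n + 1)) τ
    (by simp [τ]) hgen (fun i => by simp [τ, R_one, lin_one]) hgram
  have hε2 : ε * ε = 1 := by rcases hε with rfl | rfl <;> norm_num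
  let M : Fin (n + 1) → Cfsg.IrrCharacter G := fun i => ⟨μ i, hμirr i⟩
  have hMinj : Function.Injective M := fun i j h => hμinj (congrArg Subtype.val h)
  -- the multiplicities
  have hnat : ∀ i j, ∃ k : ℕ,
      Cfsg.classInner (fun p : H.P => μ i p) (H.lin (ℓ j)) = (k : ℂ) := fun i j =>
    classInner_char_nat (isCharacter_restrict H.P (isCharacter_of_isIrr (hμirr i))) (H.lin_char _)
  choose m hm using hnat
  have hmR : ∀ i j, Cfsg.classInner (H.R (H.lin (ℓ j))) (μ i) = (m i j : ℂ) := fun i j => by
    rw [classInner_conj_symm, H.inner_R_left (char_isClassFunction (isCharacter_of_isIrr (hμirr i))),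
      hm, Complex.conj_natCast]
  have hεz : ∃ e : ℤ, ε = e ∧ (e = 1 ∨ e = -1) := by
    rcases hε with rfl | rfl
    exacts [⟨1, by simp, Or.inl rfl⟩, ⟨-1, by simp, Or.inr rfl⟩]
  obtain ⟨e, rfl, he⟩ := hεz
  have hshift : ∀ i j, (m i j : ℤ) = m i 0 + e * ((if i = j then 1 else 0) - if i = 0 then 1 else 0)
      := by
    intro i j
    have h := congrArg (fun f => Cfsg.classInner f (μ i)) (hτ j)
    simp only [τ, classInner_sub_left, hmR, classInner_smul_left] at h
    rw [show Cfsg.classInner (μ j) (μ i) = (if i = j then 1 else 0) by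
        have := classInner_irr (M j) (M i)
        rw [this]
        exact if_congr ⟨fun hh => (hMinj hh).symm, fun hh => by rw [hh]⟩ rfl rfl,
      show Cfsg.classInner (μ 0) (μ i) = (if i = 0 then 1 else 0) by
        have := classInner_irr (M 0) (M i)
        rw [this]
        exact if_congr ⟨fun hh => (hMinj hh).symm, fun hh => by rw [hh]⟩ rfl rfl] at h
    have h' : ((m i j : ℤ) : ℂ) =
        ((m i 0 + e * ((if i = j then 1 else 0) - if i = 0 then 1 else 0) : ℤ) : ℂ) := by
      push_cast [apply_ite (Int.cast (R := ℂ))]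
      linear_combination h
    exact_mod_cast h'
  -- the Steinberg character
  let S : Cfsg.IrrCharacter G := ⟨H.steinberg, H.steinberg_irr⟩
  have hSR : ∀ j, Cfsg.classInner (H.R (H.lin (ℓ j))) (S : G → ℂ) = 1 := fun j => by
    rw [classInner_conj_symm, H.inner_R_left (char_isClassFunction (isCharacter_of_isIrr S.2)),
      classInner_def, Finset.sum_eq_single (1 : H.P)
        (fun p _ hp => by simp [S, H.steinberg_P p hp]) (by simp)]
    simp [S, H.steinberg_one, lin_one, H.cardP, ← Nat.card_eq_fintype_card,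
      show (q : ℂ) ≠ 0 from Nat.cast_ne_zero.2 (by omega)]
  have hSM : ∀ i, S ≠ M i := fun i hi => by
    have h1 : ∀ j, m i j = 1 := fun j => by
      have := hSR j
      rw [show (S : G → ℂ) = μ i from congrArg Subtype.val hi, hmR] at this
      exact_mod_cast this
    obtain ⟨j, hji, hj0⟩ : ∃ j : Fin (n + 1), j ≠ i ∧ (j ≠ 0 ∨ i ≠ 0) := by
      by_cases hi0 : i = 0
      · subst hi0
        exact ⟨Fin.last n, fun h => by simp [Fin.ext_iff] at h; omega,
          Or.inl fun h => by simp [Fin.ext_iff] at h; omega⟩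
      · exact ⟨0, Ne.symm hi0, Or.inr hi0⟩
    have h2 := hshift i j
    have h3 := hshift i i
    rw [h1, h1, if_neg (Ne.symm hji)] at h2
    rw [h1, h1, if_pos rfl] at h3
    by_cases hi0 : i = 0
    · subst hi0; simp at h2; omega
    · simp [hi0] at h3; omega
  -- the common multiplicity is zero
  set a : ℤ := (m 0 0 : ℤ) - e with ha
  have hall : ∀ i j, (m i j : ℤ) = m i 0 + e * ((if i = j then 1 else 0) - if i = 0 then 1 else 0) :=
    hshift
  let t0 : Finset (Cfsg.IrrCharacter G) := insert S (Finset.univ.image M)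
  have hSnot : S ∉ Finset.univ.image M := fun h => by
    obtain ⟨i, -, hi⟩ := Finset.mem_image.1 h
    exact hSM i hi.symm
  have hnorm : ∀ j, Cfsg.classInner (H.R (H.lin (ℓ j))) (H.R (H.lin (ℓ j))) = (q : ℕ) := fun j => by
    rw [hRR, if_pos rfl]; ring
  have hbess : ∀ j, (1 : ℤ) + ∑ i, (m i j : ℤ) * m i j ≤ q ∧
      ((1 : ℤ) + ∑ i, (m i j : ℤ) * m i j = q →
        H.R (H.lin (ℓ j)) = H.steinberg + ∑ i, ((m i j : ℤ) : ℂ) • μ i) := fun j => by
    let nn : Cfsg.IrrCharacter G → ℤ := fun χ =>
      if χ = S then 1 else ∑ i, if χ = M i then (m i j : ℤ) else 0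
    have hnnS : nn S = 1 := if_pos rfl
    have hnnM : ∀ i, nn (M i) = m i j := fun i => by
      simp only [nn, if_neg (Ne.symm (hSM i))]
      rw [Finset.sum_eq_single i (fun k _ hk => if_neg fun h => hk (hMinj h).symm) (by simp),
        if_pos rfl]
    have h := gen_bessel (isGen_indFun _ (isGen_of_isCharacter (H.lin_char (ℓ j)))) (hnorm j) t0 nn
      (fun χ hχ => by
        rcases Finset.mem_insert.1 hχ with rfl | hχ
        · rw [hnnS, Int.cast_one]; exact hSR j
        · obtain ⟨i, -, rfl⟩ := Finset.mem_image.1 hχ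
          rw [hnnM, Int.cast_natCast]; exact hmR i j)
    simp only [t0, Finset.sum_insert hSnot, Finset.sum_image (fun x _ y _ hxy => hMinj hxy), hnnS,
      hnnM, mul_one, Int.cast_one, one_smul] at h
    exact h
  have hrow : ∀ i, (m i 0 : ℤ) = a + if i = 0 then e else 0 := by
    intro i
    by_cases hi : i = 0
    · subst hi; rw [if_pos rfl, ha]; ring
    · rw [if_neg hi, add_zero, ha]
      have h := congrArg (fun f => Cfsg.classInner f (μ i)) (hτ i)
      have h0 := congrArg (fun f => Cfsg.classInner f (μ 0)) (hτ i)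
      simp only [τ, classInner_sub_left, hmR, classInner_smul_left] at h h0
      have hs := hshift 0 i
      rw [if_neg (Ne.symm hi), if_pos rfl] at hs
      -- compare the two columns through the symmetric Gram matrix
      have hsum : Cfsg.classInner (τ i) (H.R (H.lin (ℓ 0))) = -1 := by
        simp only [τ, classInner_sub_left, hRR, if_neg hi, if_true]
        ring
      rw [hτ i, classInner_smul_left, classInner_sub_left, classInner_conj_symm _ (μ i), hmR,
        classInner_conj_symm _ (μ 0), hmR, Complex.conj_natCast, Complex.conj_natCast] at hsum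
      have h' : (((m i 0 : ℤ) : ℂ)) = (((m 0 0 : ℤ) - e : ℤ) : ℂ) := by
        push_cast
        linear_combination (e : ℂ) * hsum - ((m i 0 : ℂ) - (m 0 0 : ℂ)) * hε2
      exact_mod_cast h'
  have hzero : a = 0 ∧ e = 1 := by
    have hge : ∀ i : Fin (n + 1), 0 ≤ a + if i = 0 then e else 0 := fun i => by
      rw [← hrow i]; exact Int.natCast_nonneg _
    have hl : (0 : Fin (n + 1)) ≠ Fin.last n := fun h => by
      simp [Fin.ext_iff] at h; omega
    have ha0 : 0 ≤ a := by simpa [Ne.symm hl] using hge (Fin.last n)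
    have hae : 0 ≤ a + e := by simpa using hge 0
    have h1 := (hbess 0).1
    have hsq : ∑ i, (m i 0 : ℤ) * m i 0 = n * (a * a) + (a + e) * (a + e) := by
      simp only [hrow]
      rw [Fin.sum_univ_succ]
      simp [Fin.succ_ne_zero]
      ring
    rw [hsq] at h1
    have hnq : (q : ℤ) ≤ n + 1 := by exact_mod_cast hqN
    rcases lt_or_ge a 1 with h | h
    · have : a = 0 := by omega
      exact ⟨this, by omega⟩
    exfalso
    have haa : a ≤ a * a := le_mul_of_one_le_left (by omega) h
    by_cases h2 : a = 1 ∧ e = -1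
    · obtain ⟨ha1, he1⟩ := h2
      rw [ha1, he1] at h1
      have heq := (hbess 0).2 (by rw [hsq, ha1, he1]; omega)
      have hv := congrFun heq 1
      simp only [Pi.add_apply, Finset.sum_apply, Pi.smul_apply, smul_eq_mul, H.R_one, lin_one,
        steinberg_one, hrow, ha1, he1] at hv
      obtain ⟨d, -, hd⟩ := irr_one_pos (hμirr 0)
      have hdeg : ∀ i, μ i 1 = (d : ℂ) := fun i => by
        have := congrFun (hτ i) 1
        simp only [τ, Pi.sub_apply, Pi.smul_apply, smul_eq_mul, H.R_one, lin_one, sub_self] at this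
        have h0 : (e : ℂ) ≠ 0 := by rw [he1]; norm_num
        rw [← hd]
        exact sub_eq_zero.1 ((mul_eq_zero.1 this.symm).resolve_left h0)
      simp only [hdeg] at hv
      rw [Fin.sum_univ_succ] at hv
      simp [Fin.succ_ne_zero] at hv
      have hv' : ((q : ℤ) ^ 3 + 1) * ((q : ℤ) - 1) = (q : ℤ) ^ 3 + n * d := by
        exact_mod_cast hv
      have hn : (n : ℤ) = q - 1 := by
        rcases Nat.lt_or_ge (n + 1) (q + 1) with h3 | h3
        · omega
        · exfalso; omega
      rw [hn] at hv'
      have hd' : ((q : ℤ) - 1) * ((q : ℤ) ^ 3 + 1 - d - ((q : ℤ) ^ 2 + q + 1)) = 1 := by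
        linear_combination hv'
      rcases Int.eq_one_or_neg_one_of_mul_eq_one hd' with h4 | h4 <;> omega
    · have hmul : (n : ℤ) * 1 ≤ n * (a * a) := mul_le_mul_of_nonneg_left (by omega) (by omega)
      have hsq0 : 0 ≤ (a + e) * (a + e) := mul_self_nonneg _
      rcases he with rfl | rfl
      · have : 4 ≤ (a + 1) * (a + 1) := by nlinarith
        omega
      · have ha2 : 2 ≤ a := by
          by_contra hh
          exact h2 ⟨by omega, rfl⟩
        have : 4 ≤ a * a := by nlinarith
        have : (n : ℤ) * 4 ≤ n * (a * a) := mul_le_mul_of_nonneg_left this (by omega)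
        omega
  obtain ⟨ha0, he1⟩ := hzero
  have hmfin : ∀ i j, (m i j : ℤ) = if i = j then 1 else 0 := fun i j => by
    rw [hshift i j, hrow i, ha0, he1]
    split_ifs <;> omega
  -- the trivial multiplicity is zero
  have htriv : ∀ i, Cfsg.classInner (fun p : H.P => μ i p) (fun _ => 1) = 0 := by
    intro i0
    obtain ⟨c, hc⟩ := classInner_char_nat
      (isCharacter_restrict H.P (isCharacter_of_isIrr (hμirr i0))) (isCharacter_one (G := H.P))
    rw [hc, Nat.cast_eq_zero]
    by_contra hc0
    have hcl : Cfsg.IsClassFunction G (μ i0) := char_isClassFunction (isCharacter_of_isIrr (hμirr i0))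
    -- some linear character of `B` trivial on `P` occurs
    haveI := Fintype.ofFinite (Cfsg.IrrCharacter H.W)
    let L : Cfsg.IrrCharacter H.W → H.B → ℂ := fun ω b => (ω : H.W → ℂ) (H.proj b)
    have hω1 : ∀ ω : Cfsg.IrrCharacter H.W, (ω : H.W → ℂ) 1 = 1 := fun ω =>
      irr_degree_one_of_comm H.commW ω.2
    have hLP : ∀ ω (b : H.B), (b : G) ∈ H.P → L ω b = 1 := fun ω b hb => by
      simp only [L, H.proj_P b hb, hω1]
    obtain ⟨ω, hω⟩ : ∃ ω, Cfsg.classInner (fun b : H.B => μ i0 b) (L ω) ≠ 0 := by
      by_contra hall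
      push Not at hall
      have hsum : ∀ b : H.B, ∑ ω : Cfsg.IrrCharacter H.W, conj (L ω b) =
          if (b : G) ∈ H.P then (Nat.card H.W : ℂ) else 0 := fun b => by
        have h := second_orthogonality (1 : H.W) (H.proj b)
        simp only [hω1, one_mul] at h
        rw [show ∑ ω : Cfsg.IrrCharacter H.W, conj (L ω b) = _ from h]
        by_cases hb : (b : G) ∈ H.P
        · rw [if_pos hb, H.proj_P b hb, if_pos (IsConj.refl _)]
          rw [show centralizer ({(1 : H.W)} : Set H.W) = ⊤ from
            (eq_top_iff' _).2 fun x => mem_centralizer_singleton_iff.2 (by simp), Subgroup.card_top]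
        · rw [if_neg hb, if_neg fun h' => hb ?_]
          obtain ⟨p, hp, w, hw, hbw⟩ := H.exists_mul b.2
          have hproj : H.proj b = ⟨w, hw⟩ := by
            have hbe : b = (⟨p, le_sup_left (b := H.W) hp⟩ : H.B) *
                ⟨w, le_sup_right (a := H.P) hw⟩ := Subtype.ext hbw.symm
            rw [hbe, map_mul, H.proj_P _ hp, one_mul]
            exact H.proj_W ⟨w, hw⟩ _
          obtain ⟨c', hc'⟩ := isConj_iff.1 h'
          rw [mul_one, mul_inv_cancel, hproj] at hc'
          have hw1 : w = 1 := (congrArg Subtype.val hc').symm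
          rw [hw1, mul_one] at hbw
          rwa [← hbw]
      have h0 : ∑ ω, Cfsg.classInner (fun b : H.B => μ i0 b) (L ω) = 0 :=
        Finset.sum_eq_zero fun ω _ => hall ω
      simp only [classInner_def, ← Finset.mul_sum] at h0
      rw [Finset.sum_comm] at h0
      simp only [← Finset.mul_sum, hsum, mul_ite, mul_zero] at h0
      rw [← Finset.sum_filter, ← Finset.sum_mul] at h0
      have hPsum : ∑ b ∈ Finset.univ.filter (fun b : H.B => (b : G) ∈ H.P), μ i0 b =
          ∑ p : H.P, μ i0 p :=
        Finset.sum_bij' (fun b hb => (⟨b, (Finset.mem_filter.1 hb).2⟩ : H.P))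
          (fun p _ => ⟨p, le_sup_left (b := H.W) p.2⟩) (fun _ _ => Finset.mem_univ _)
          (fun p _ => Finset.mem_filter.2 ⟨Finset.mem_univ _, p.2⟩) (fun _ _ => rfl) (fun _ _ => rfl)
          fun _ _ => rfl
      rw [hPsum, mul_eq_zero, mul_eq_zero] at h0
      rw [classInner_def] at hc
      simp only [map_one, mul_one] at hc
      rcases h0 with h0 | h0 | h0
      · exact absurd h0 (inv_ne_zero (Nat.cast_ne_zero.2 Nat.card_pos.ne'))
      · rw [h0, mul_zero] at hc
        exact hc0 (by exact_mod_cast hc.symm)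
      · exact absurd h0 (Nat.cast_ne_zero.2 Nat.card_pos.ne')
    -- it occurs in all of them
    have hLc : Cfsg.IsCharacter H.B (L ω) :=
      Characters.isCharacter_comp H.proj (irr_isCharacter ω)
    set I := Cfsg.indFun H.B (L ω) with hI
    have hIc : Cfsg.IsCharacter G I := isCharacter_indFun _ hLc
    have hIP : ∀ p : H.P, p ≠ 1 → I p = 1 := H.indFun_P (hLP ω)
    have hI1 : I 1 = (q : ℂ) ^ 3 + 1 := by
      rw [hI, indFun_one, H.index_B,
        show L ω 1 = 1 by simp only [L, map_one, hω1]]
      push_cast; ring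
    have hsame : ∀ j, Cfsg.classInner I (μ j) = Cfsg.classInner I (μ i0) := by
      intro j
      have h := congrArg (fun f => Cfsg.classInner I f) (hτ j)
      have h' := congrArg (fun f => Cfsg.classInner I f) (hτ i0)
      simp only [classInner_smul_right, classInner_sub_right, τ] at h h'
      have hIR : ∀ k, Cfsg.classInner I (H.R (H.lin (ℓ k))) = 
          Cfsg.classInner (fun p : H.P => if p = 1 then ((q : ℂ) ^ 3) else 0) (H.lin (ℓ k)) +
          Cfsg.classInner (fun _ : H.P => (1 : ℂ)) (H.lin (ℓ k)) := fun k => by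
        rw [H.inner_R_left (char_isClassFunction hIc), ← classInner_add_left]
        congr 1
        funext p
        by_cases hp : p = 1
        · subst hp; simp [hI1]
        · simp [hIP p hp, hp]
      have hk : ∀ k, Cfsg.classInner I (H.R (H.lin (ℓ k))) = 1 := fun k => by
        rw [hIR,
          show Cfsg.classInner (fun _ : H.P => (1 : ℂ)) (H.lin (ℓ k)) = 0 from
            classInner_isIrr_ne isIrrCharacter_one (H.lin_irr _) fun h1 => moved k (by
              rw [show ℓ k = 1 from MonoidHom.ext fun p =>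
                Units.ext (congrFun h1 p).symm]
              rfl),
          add_zero, classInner_def, Finset.sum_eq_single (1 : H.P) (fun p _ hp => by simp [hp])
            (by simp)]
        simp [lin_one, H.cardP, ← Nat.card_eq_fintype_card,
      show (q : ℂ) ≠ 0 from Nat.cast_ne_zero.2 (by omega)]
      rw [hk, hk, sub_self, he1, Int.cast_one, map_one, one_mul] at h h'
      rw [sub_eq_zero.1 h.symm, sub_eq_zero.1 h'.symm]
    have hI0 : Cfsg.classInner I (μ i0) ≠ 0 := by
      rw [hI, frobenius_reciprocity _ _ hcl, classInner_conj_symm]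
      simpa using hω
    obtain ⟨k, hk⟩ := classInner_char_nat hIc hIc
    obtain ⟨z, hz⟩ := classInner_char_nat hIc (isCharacter_of_isIrr (hμirr i0))
    have hz1 : 1 ≤ z := Nat.one_le_iff_ne_zero.2 fun h0 => hI0 (by rw [hz, h0, Nat.cast_zero])
    have hb := (gen_bessel (isGen_of_isCharacter hIc) hk (Finset.univ.image M) (fun _ => (z : ℤ))
      fun χ hχ => by
        obtain ⟨j, -, rfl⟩ := Finset.mem_image.1 hχ
        rw [Int.cast_natCast, ← hz]; exact hsame j).1
    rw [Finset.sum_const, Finset.card_image_of_injective _ hMinj, Finset.card_univ,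
      Fintype.card_fin, nsmul_eq_mul] at hb
    -- but the norm is at most two
    have hk2 : (k : ℝ) ≤ 2 := by
      have hle : ∀ g, Complex.normSq (I g) ≤ Complex.normSq (H.perm g) := by
        intro g
        rw [Complex.normSq_eq_norm_sq, Complex.normSq_eq_norm_sq]
        refine pow_le_pow_left₀ (norm_nonneg _) ?_ 2
        rw [hI, perm, Cfsg.indFun, Cfsg.indFun, norm_mul, norm_mul]
        refine mul_le_mul_of_nonneg_left ((norm_sum_le _ _).trans ?_) (norm_nonneg _)
        have hext : ∀ x : G, ‖Cfsg.extendByZero H.B (L ω) x‖ =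
            (Cfsg.extendByZero H.B (fun _ => (1 : ℂ)) x).re := fun x => by
          by_cases hx : x ∈ H.B
          · rw [CharTheory.IndBasic.extendByZero_of_mem _ _ hx,
              CharTheory.IndBasic.extendByZero_of_mem _ _ hx, Complex.one_re]
            have := linear_norm_eq_one (linearOfDegreeOne (irr_isCharacter ω) (hω1 ω))
              (H.proj ⟨x, hx⟩)
            simpa [linearOfDegreeOne, L] using this
          · rw [CharTheory.IndBasic.extendByZero_of_notMem _ _ hx,
              CharTheory.IndBasic.extendByZero_of_notMem _ _ hx]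
            simp
        rw [Finset.sum_congr rfl fun x _ => hext _, ← Complex.re_sum]
        exact Complex.re_le_norm _
      have hkk : (k : ℝ) = (Nat.card G : ℝ)⁻¹ * ∑ g, Complex.normSq (I g) := by
        have h := hk
        rw [classInner_def] at h
        simp only [Complex.mul_conj] at h
        apply Complex.ofReal_injective
        push_cast at h ⊢
        exact h.symm
      have h2 : (2 : ℝ) = (Nat.card G : ℝ)⁻¹ * ∑ g, Complex.normSq (H.perm g) := by
        have h := H.perm_norm
        rw [classInner_def] at h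
        simp only [Complex.mul_conj] at h
        apply Complex.ofReal_injective
        push_cast at h ⊢
        exact h.symm
      rw [hkk, h2]
      exact mul_le_mul_of_nonneg_left (Finset.sum_le_sum fun g _ => hle g)
        (inv_nonneg.2 (Nat.cast_nonneg _))
    have hk2' : (k : ℤ) ≤ 2 := by exact_mod_cast hk2
    have hzz : (1 : ℤ) ≤ (z : ℤ) * z := by exact_mod_cast Nat.mul_le_mul hz1 hz1
    have : (((n + 1 : ℕ) : ℤ)) * 1 ≤ ((n + 1 : ℕ) : ℤ) * ((z : ℤ) * z) :=
      mul_le_mul_of_nonneg_left hzz (Int.natCast_nonneg _)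
    omega
  exact ⟨{
    N := n + 1
    q_le := hqN
    ℓ := ℓ
    moved := moved
    free := free
    cover := cover
    μ := M
    μ_inj := hMinj
    diff := fun i j => by
      have hi := hτ i
      have hj := hτ j
      rw [he1, Int.cast_one, one_smul] at hi hj
      simp only [τ] at hi hj
      show H.R (H.lin (ℓ i)) - H.R (H.lin (ℓ j)) = μ i - μ j
      rw [show H.R (H.lin (ℓ i)) - H.R (H.lin (ℓ j)) = (H.R (H.lin (ℓ i)) - H.R (H.lin (ℓ 0))) -
        (H.R (H.lin (ℓ j)) - H.R (H.lin (ℓ 0))) by abel, hi, hj]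
      abel
    mult := fun i j => by
      show Cfsg.classInner (fun p : H.P => μ i p) (H.lin (ℓ j)) = _
      rw [hm, ← Int.cast_natCast, hmfin]
      push_cast
      rfl
    triv := htriv }⟩

end Setting

end Cfsg.Agent.ReeSylowThree
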