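import Mathlib
import Cfsg.Agent.Lib.ReeSylowThree.Exceptional
import Cfsg.Agent.Lib.Characters.Integrality

/-!
The characters of `P` occurring in the exceptional characters: stabilisers and a Bessel bound.
-/

set_option autoImplicit false
set_option linter.style.haveILetI false
set_option linter.unusedSectionVars false

namespace Cfsg.Agent.ReeSylowThree

open Subgroup Cfsg.Agent.Characters
open scoped ComplexConjugate

universe u

namespace Setting

variable {G : Type u} [Group G] {q : ℕ} (H : Setting G q)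

theorem wc_pow (v : H.W) (k : ℕ) (p : H.P) :
    (⇑(H.wc v))^[k] p = H.wc (v ^ k) p := by
  induction k with
  | zero => simp [wc_one]
  | succ k ih => rw [Function.iterate_succ_apply', ih, wc_mul, pow_succ']

variable [Fintype G]

/-- A nontrivial irreducible character is only fixed by `1` and `t`. -/
theorem irr_stab {θ : H.P → ℂ} (hθ : Cfsg.IsIrrCharacter H.P θ) (hne : θ ≠ fun _ => 1) {w : H.W}
    (hw : H.wconj w θ = θ) : w = 1 ∨ w = H.tW := by
  classical
  by_contra hne'
  push Not at hne'
  have hq := H.q_ge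
  haveI := H.cyclicW
  -- a power of odd prime order
  obtain ⟨r, hr, hrd, hr2⟩ : ∃ r, r.Prime ∧ r ∣ orderOf w ∧ r ≠ 2 := by
    by_contra hall
    push Not at hall
    have h2 : 2 ^ 2 ∣ orderOf w ∨ orderOf w = 1 ∨ orderOf w = 2 := by
      have hpos := orderOf_pos w
      rcases eq_or_ne (orderOf w) 1 with h | h
      · exact Or.inr (Or.inl h)
      obtain ⟨k, hk⟩ := hall _ (Nat.minFac_prime h) (Nat.minFac_dvd _) ▸ Nat.minFac_dvd (orderOf w)
      rcases eq_or_ne k 1 with rfl | hk1
      · exact Or.inr (Or.inr hk)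
      left
      obtain ⟨r, hr, hrk⟩ := Nat.exists_prime_and_dvd hk1
      have := hall r hr (hrk.trans (Dvd.intro_left _ hk.symm))
      subst this
      rw [hk, pow_two]
      exact Nat.mul_dvd_mul_left 2 hrk
    rcases h2 with h | h | h
    · have h4 : 4 ∣ q - 1 := by
        rw [← H.cardW]
        exact dvd_trans h (orderOf_dvd_natCard w)
      have := H.q_mod
      omega
    · exact hne'.1 (orderOf_eq_one_iff.1 h)
    · -- the only involution
      refine hne'.2 ?_
      by_contra hwt
      letI := Fintype.ofFinite H.W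
      have h1 := IsCyclic.card_pow_eq_one_le (α := H.W) (n := 2) two_pos
      have h3 : ({1, H.tW, w} : Finset H.W) ⊆ Finset.univ.filter fun y : H.W => y ^ 2 = 1 := by
        intro y hy
        simp only [Finset.mem_insert, Finset.mem_singleton] at hy
        rw [Finset.mem_filter]
        refine ⟨Finset.mem_univ _, ?_⟩
        rcases hy with rfl | rfl | rfl
        · exact one_pow 2
        · rw [pow_two, H.tW_mul]
        · rw [← h, pow_orderOf_eq_one]
      have h4 := (Finset.card_le_card h3).trans h1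
      rw [Finset.card_insert_of_notMem (by simp [H.tW_ne.symm, hne'.1.symm]),
        Finset.card_pair (Ne.symm hwt)] at h4
      omega
  obtain ⟨v, hv, hvr, hvfix⟩ : ∃ v : H.W, v ≠ 1 ∧ orderOf v = r ∧ H.wconj v θ = θ := by
    refine ⟨w ^ (orderOf w / r), fun h => ?_, orderOf_pow_orderOf_div (orderOf_pos w).ne' hrd, ?_⟩
    · have := orderOf_pow_orderOf_div (orderOf_pos w).ne' hrd
      rw [h, orderOf_one] at this
      exact hr.ne_one this.symm
    · generalize orderOf w / r = k
      induction k with
      | zero => rw [pow_zero, wconj_one]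
      | succ k ih => rw [pow_succ', ← wconj_wconj, hw, ih]
  haveI : Fact r.Prime := ⟨hr⟩
  -- only the class of `1` is fixed
  have hclass : ∀ p : H.P, IsConj (H.wc v p) p → p = 1 := by
    intro p hp
    let S := {x : H.P // IsConj p x}
    have hS : ∀ x, IsConj p x → IsConj p (H.wc v x) := fun x hx =>
      (hp.symm).trans ((H.wc v).toMonoidHom.map_isConj hx)
    let f : S → S := fun x => ⟨H.wc v x.1, hS x.1 x.2⟩
    have hf : Function.Injective f := fun x y h =>
      Subtype.ext ((H.wc v).injective (congrArg Subtype.val h))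
    let σ : Equiv.Perm S := Equiv.ofBijective f (Finite.injective_iff_bijective.1 hf)
    have hσk : ∀ (k : ℕ) (x : S), ((σ ^ k) x).1 = H.wc (v ^ k) x.1 := by
      intro k x
      induction k with
      | zero => simp [wc_one]
      | succ k ih =>
        rw [pow_succ', Equiv.Perm.mul_apply]
        show H.wc v ((σ ^ k) x).1 = _
        rw [ih, wc_mul, ← pow_succ']
    have hσ : σ ^ r ^ 1 = 1 := Equiv.ext fun x => Subtype.ext (by
      rw [pow_one, hσk, ← hvr, pow_orderOf_eq_one, wc_one]
      rfl)
    have hcard : ¬ r ∣ Fintype.card S := by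
      intro hd
      rw [← Nat.card_eq_fintype_card] at hd
      have hc : Nat.card S = (ConjClasses.mk p).carrier.ncard := by
        rw [← Nat.card_coe_set_eq]
        exact Nat.card_congr (Equiv.subtypeEquivRight fun x => by
          rw [ConjClasses.mem_carrier_iff_mk_eq, ConjClasses.mk_eq_mk_iff_isConj]
          exact ⟨IsConj.symm, IsConj.symm⟩)
      have hdP : Nat.card S ∣ Nat.card H.P := by
        rw [hc, ← Nat.card_coe_set_eq, classCard_eq_index]
        exact Subgroup.index_dvd_card _
      rw [H.cardP] at hdP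
      obtain ⟨f', -, -, hqf⟩ := H.q_pow
      have h3 := hr.dvd_of_dvd_pow (hd.trans hdP)
      rw [hqf] at h3
      have := (Nat.prime_dvd_prime_iff_eq hr Nat.prime_three).1 (hr.dvd_of_dvd_pow h3)
      subst this
      have : 3 ∣ q - 1 := by
        rw [← H.cardW, ← hvr]
        exact orderOf_dvd_natCard v
      rw [hqf] at this
      have h3f : 3 ∣ 3 ^ f' := dvd_pow_self 3 (by rintro rfl; simp at hqf; omega)
      omega
    obtain ⟨⟨x, hx⟩, hxf⟩ := Equiv.Perm.exists_fixed_point_of_prime hcard hσ
    have hx1 : x = 1 := by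
      have hfixx : H.wc v x = x := congrArg Subtype.val hxf
      refine Subtype.ext (H.fpf v v.2 (fun e => hv (Subtype.ext e)) (fun e => ?_) x x.2
        (mul_inv_eq_iff_eq_mul.1 (congrArg (fun y : H.P => (y : G)) hfixx)))
      have : orderOf v = 2 := by
        rw [show v = H.tW from Subtype.ext e]
        exact orderOf_eq_prime (by rw [pow_two, H.tW_mul]) H.tW_ne
      exact hr2 (by rw [← hvr, this])
    subst hx1
    obtain ⟨c, hc⟩ := isConj_iff.1 hx.symm
    rw [← hc]
    group
  -- count the fixed characters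
  haveI := Fintype.ofFinite (Cfsg.IrrCharacter H.P)
  have htot : ∑ χ : Cfsg.IrrCharacter H.P,
      Cfsg.classInner (H.wconj v (χ : H.P → ℂ)) (χ : H.P → ℂ) = 1 := by
    simp only [classInner_def, wconj]
    rw [← Finset.mul_sum, Finset.sum_comm]
    simp only [second_orthogonality]
    rw [Finset.sum_eq_single (1 : H.P) ?_ ?_]
    · rw [if_pos (by rw [map_one]),
        show centralizer ({(1 : H.P)} : Set H.P) = ⊤ from
          (eq_top_iff' _).2 fun x => mem_centralizer_singleton_iff.2 (by simp),
        Subgroup.card_top, inv_mul_cancel₀ H.card_P_ne]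
    · exact fun p _ hp => if_neg fun h => hp (hclass p h)
    · simp
  have hval : ∀ χ : Cfsg.IrrCharacter H.P,
      Cfsg.classInner (H.wconj v (χ : H.P → ℂ)) (χ : H.P → ℂ) =
        if H.wconj v (χ : H.P → ℂ) = χ then 1 else 0 := fun χ => by
    split_ifs with h
    · rw [h]; exact classInner_isIrr_self χ.2
    · exact classInner_isIrr_ne (H.isIrr_wconj v χ.2) χ.2 h
  simp only [hval] at htot
  rw [Finset.sum_boole] at htot
  have hone : (Finset.univ.filter fun χ : Cfsg.IrrCharacter H.P =>
      H.wconj v (χ : H.P → ℂ) = χ).card = 1 := by exact_mod_cast htot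
  obtain ⟨a, ha⟩ := Finset.card_eq_one.1 hone
  have h1 : (⟨θ, hθ⟩ : Cfsg.IrrCharacter H.P) ∈ ({a} : Finset (Cfsg.IrrCharacter H.P)) :=
    ha ▸ Finset.mem_filter.2 ⟨Finset.mem_univ _, hvfix⟩
  have h2 : (⟨fun _ => 1, isIrrCharacter_one⟩ : Cfsg.IrrCharacter H.P) ∈
      ({a} : Finset (Cfsg.IrrCharacter H.P)) :=
    ha ▸ Finset.mem_filter.2 ⟨Finset.mem_univ _, rfl⟩
  rw [Finset.mem_singleton] at h1 h2
  exact hne (congrArg Subtype.val (h1.trans h2.symm))

theorem card_stab_le {θ : H.P → ℂ} (hθ : Cfsg.IsIrrCharacter H.P θ) (hne : θ ≠ fun _ => 1)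
    [DecidablePred fun w : H.W => H.wconj w θ = θ] :
    (Finset.univ.filter fun w : H.W => H.wconj w θ = θ).card ≤ 2 := by
  classical
  refine le_trans (Finset.card_le_card (t := {1, H.tW}) fun w hw => ?_) Finset.card_le_two
  rcases H.irr_stab hθ hne (Finset.mem_filter.1 hw).2 with rfl | rfl <;> simp

/-- The multiplicity of a character which is not a moved linear character is the same in all the
exceptional characters and bounded by Bessel's inequality. -/
theorem Exc.mult_bound (E : H.Exc) {θ : H.P → ℂ} (hθ : Cfsg.IsIrrCharacter H.P θ)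
    (hℓ : ∀ i w, H.wconj w (H.lin (E.ℓ i)) ≠ θ) {d : ℕ} (hd : θ 1 = d)
    [DecidablePred fun w : H.W => H.wconj w θ = θ] :
    ∃ n : ℕ, (∀ i, Cfsg.classInner (fun p : H.P => (E.μ i : G → ℂ) p) θ = n) ∧
      E.N * (n * n) ≤ 2 * d * n + (Finset.univ.filter fun w : H.W => H.wconj w θ = θ).card := by
  classical
  have hN : 0 < E.N := lt_of_lt_of_le (by have := H.q_ge; omega) E.q_le
  let i0 : Fin E.N := ⟨0, hN⟩
  have hθc := isCharacter_of_isIrr hθ
  have hcl := char_isClassFunction hθc
  have hlθ : ∀ i w, Cfsg.classInner (H.lin (E.ℓ i)) (H.wconj w θ) = 0 := fun i w =>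
    classInner_isIrr_ne (H.lin_irr _) (H.isIrr_wconj w hθ) fun h => hℓ i w⁻¹ (by
      rw [h, wconj_wconj, mul_inv_cancel, wconj_one])
  have hRθ : ∀ i, Cfsg.classInner (H.R (H.lin (E.ℓ i))) (H.R θ) = ((q : ℂ) - 1) * d := fun i => by
    rw [H.inner_R hcl, Finset.sum_eq_zero fun w _ => hlθ i w, zero_add, lin_one, mul_one, hd,
      Complex.conj_natCast]
  obtain ⟨n, hn⟩ := classInner_char_nat
    (isCharacter_restrict H.P (irr_isCharacter (E.μ i0))) hθc
  have hall : ∀ i, Cfsg.classInner (fun p : H.P => (E.μ i : G → ℂ) p) θ = n := by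
    intro i
    have hi := H.inner_R_left (θ := θ) (irr_isClassFunction (E.μ i))
    have h0 := H.inner_R_left (θ := θ) (irr_isClassFunction (E.μ i0))
    rw [← hi, ← sub_eq_zero, ← hn, ← h0, ← classInner_sub_left, ← E.diff, classInner_sub_left,
      hRθ, hRθ, sub_self]
  refine ⟨n, hall, ?_⟩
  set F : G → ℂ := (d : ℂ) • H.R (H.lin (E.ℓ i0)) - H.R θ
  have hgen : Cfsg.IsGeneralizedCharacter G F := by
    refine isGen_sub ?_ (isGen_indFun _ (isGen_of_isCharacter hθc))
    convert isGen_intSmul (isGen_indFun H.P (isGen_of_isCharacter (H.lin_char (E.ℓ i0)))) (d : ℤ) using 1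
    funext g
    simp [R]
  set e := (Finset.univ.filter fun w : H.W => H.wconj w θ = θ).card
  have hθθ : Cfsg.classInner (H.R θ) (H.R θ) = (e : ℂ) + ((q : ℂ) - 1) * d * d := by
    rw [H.inner_R hcl, hd, Complex.conj_natCast]
    congr 1
    have hv : ∀ w : H.W, Cfsg.classInner θ (H.wconj w θ) = if H.wconj w θ = θ then 1 else 0 :=
      fun w => by
        split_ifs with h
        · rw [h]; exact classInner_isIrr_self hθ
        · exact classInner_isIrr_ne hθ (H.isIrr_wconj w hθ) (Ne.symm h)
    simp only [hv]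
    rw [Finset.sum_boole]
  have hnorm : Cfsg.classInner F F = ((d * d + e : ℕ) : ℂ) := by
    have h1 : Cfsg.classInner (H.R θ) (H.R (H.lin (E.ℓ i0))) = ((q : ℂ) - 1) * d := by
      rw [classInner_conj_symm, hRθ, map_mul, map_sub, map_one, Complex.conj_natCast,
        Complex.conj_natCast]
    simp only [F, classInner_sub_left, classInner_sub_right, classInner_smul_left,
      classInner_smul_right, Complex.conj_natCast, hRθ, h1, hθθ, H.inner_R_lin E.free, if_true]
    push_cast
    ring
  have hF : ∀ i, Cfsg.classInner F (E.μ i : G → ℂ) =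
      (((d : ℤ) * (if i = i0 then 1 else 0) - n : ℤ) : ℂ) := fun i => by
    have h1 : Cfsg.classInner (H.R (H.lin (E.ℓ i0))) (E.μ i : G → ℂ) = if i = i0 then 1 else 0 := by
      rw [classInner_conj_symm, H.inner_R_left (irr_isClassFunction _), E.mult]
      split_ifs <;> simp
    have h2 : Cfsg.classInner (H.R θ) (E.μ i : G → ℂ) = n := by
      rw [classInner_conj_symm, H.inner_R_left (irr_isClassFunction _), hall,
        Complex.conj_natCast]
    simp only [F, classInner_sub_left, classInner_smul_left, h1, h2]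
    push_cast [apply_ite (Int.cast (R := ℂ))]
    rfl
  let nn : Cfsg.IrrCharacter G → ℤ := fun χ =>
    if χ = E.μ i0 then (d : ℤ) - n else -(n : ℤ)
  have hb := (gen_bessel hgen hnorm (Finset.univ.image E.μ) nn fun χ hχ => by
    obtain ⟨i, -, rfl⟩ := Finset.mem_image.1 hχ
    rw [hF i]
    simp only [nn, E.μ_inj.eq_iff]
    split_ifs <;> simp).1
  rw [Finset.sum_image fun x _ y _ h => E.μ_inj h] at hb
  simp only [nn, E.μ_inj.eq_iff] at hb
  rw [← Finset.add_sum_erase _ _ (Finset.mem_univ i0), if_pos rfl,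
    Finset.sum_congr rfl (g := fun _ => (n : ℤ) * n) (fun i hi => by
      rw [if_neg (Finset.ne_of_mem_erase hi)]; ring),
    Finset.sum_const, Finset.card_erase_of_mem (Finset.mem_univ _), Finset.card_univ,
    Fintype.card_fin, nsmul_eq_mul] at hb
  have h' : (E.N : ℤ) * ((n : ℤ) * n) ≤ 2 * (d : ℤ) * n + e := by
    push_cast [Nat.cast_sub (show 1 ≤ E.N by omega)] at hb
    linarith
  exact_mod_cast h'

end Setting

end Cfsg.Agent.ReeSylowThree
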