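import Mathlib
import Cfsg.Agent.Lib.ReeSylowThree.Multiplicity
import Cfsg.Agent.Lib.ReeSylowThree.Layers
import Cfsg.Agent.Lib.ReeSylowThree.Central
import Cfsg.Agent.Lib.Characters.Counting

/-!
If `|P : P'| ≥ q ^ 2`, the non-linear constituents of the exceptional characters have degree `q`.
-/

set_option autoImplicit false
set_option linter.style.haveILetI false
set_option linter.unusedSectionVars false

namespace Cfsg.Agent.ReeSylowThree

open Subgroup Cfsg.Agent.Characters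
open scoped ComplexConjugate commutatorElement

universe u

namespace Setting

variable {G : Type u} [Group G] {q : ℕ} (H : Setting G q)

/-- The derived subgroup of `P`. -/
abbrev D1 : Subgroup H.P := _root_.commutator H.P

/-- A character of degree `q` vanishing outside `P'`. -/
def Full (θ : H.P → ℂ) : Prop :=
  Cfsg.IsIrrCharacter H.P θ ∧ θ 1 = (q : ℂ) ∧ ∀ p, p ∉ H.D1 → θ p = 0

theorem full_ne_one {θ : H.P → ℂ} (h : H.Full θ) : θ ≠ fun _ => 1 := by
  intro e
  have h1 := h.2.1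
  rw [e] at h1
  have h1' : (1 : ℂ) = q := h1
  have h2 : q = 1 := by exact_mod_cast h1'.symm
  have := H.q_ge
  omega

theorem full_wconj [Finite G] {θ : H.P → ℂ} (h : H.Full θ) (w : H.W) : H.Full (H.wconj w θ) := by
  refine ⟨H.isIrr_wconj w h.1, by simpa [wconj] using h.2.1, fun p hp => h.2.2 _ fun hm => hp ?_⟩
  have h2 := H.inv_derived w⁻¹ _ hm
  rwa [wc_mul, inv_mul_cancel, wc_one] at h2

theorem full_conj [Finite G] {θ : H.P → ℂ} (h : H.Full θ) : H.Full (fun p => conj (θ p)) :=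
  ⟨isIrrCharacter_conj h.1, by simp [h.2.1], fun p hp => by simp [h.2.2 p hp]⟩

variable [Fintype G]

theorem card_D1 (hidx : q ^ 2 ≤ H.D1.index) : Nat.card H.D1 = 1 ∨ Nat.card H.D1 = q := by
  have hq := H.q_ge
  obtain ⟨k, -, hk⟩ := H.card_inv H.inv_derived
  have h := H.D1.card_mul_index
  rw [H.cardP] at h
  have hle : q ^ k * q ^ 2 ≤ q ^ 3 := by
    rw [← hk, ← h]
    exact Nat.mul_le_mul_left _ hidx
  rw [← pow_add] at hle
  have hk1 : k ≤ 1 := by
    have := (Nat.pow_le_pow_iff_right (by omega : 1 < q)).1 hle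
    omega
  rcases Nat.le_one_iff_eq_zero_or_eq_one.1 hk1 with rfl | rfl
  · exact Or.inl (by rw [hk, pow_zero])
  · exact Or.inr (by rw [hk, pow_one])

theorem D1_le_center (hidx : q ^ 2 ≤ H.D1.index) : H.D1 ≤ center H.P := by
  have hq := H.q_ge
  by_cases hb : H.D1 = ⊥
  · rw [hb]; exact bot_le
  obtain ⟨k, -, hk⟩ := H.card_inv (H.inv_commutator H.inv_derived H.inv_top)
  have hlt := H.card_commutator_lt (Q := H.D1) hb
  have hle : Nat.card H.D1 ≤ q := by rcases H.card_D1 hidx with h | h <;> omega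
  have hk0 : k = 0 := by
    by_contra hk0
    have := Nat.le_self_pow hk0 q
    have hlt' : q ^ k < Nat.card H.D1 := hk.symm.trans_lt hlt
    omega
  have hbot : ⁅H.D1, (⊤ : Subgroup H.P)⁆ = ⊥ :=
    eq_bot_of_card_eq _ (by rw [hk, hk0, pow_zero])
  rw [← Subgroup.centralizer_univ, ← Subgroup.coe_top]
  exact commutator_eq_bot_iff_le_centralizer.1 hbot

theorem index_D1 (hK : Nat.card H.D1 = q) : H.D1.index = q ^ 2 := by
  have h := H.D1.card_mul_index
  rw [hK, H.cardP, pow_succ' q 2] at h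
  exact Nat.eq_of_mul_eq_mul_left (by have := H.q_ge; omega) h

/-- A linear character separating an element outside `P'`. -/
theorem exists_lin_ne {p : H.P} (hp : p ∉ H.D1) : ∃ l : H.P →* ℂˣ, l p ≠ 1 := by
  haveI : NeZero (Monoid.exponent (Abelianization H.P)) := ⟨Monoid.exponent_ne_zero_of_finite⟩
  haveI : NeZero (Monoid.exponent (Abelianization H.P) : ℂ) :=
    ⟨Nat.cast_ne_zero.2 Monoid.exponent_ne_zero_of_finite⟩
  have hne : Abelianization.of p ≠ 1 := fun e => hp (by
    show p ∈ _root_.commutator H.P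
    rw [← Abelianization.ker_of (G := H.P)]
    exact e)
  obtain ⟨φ, hφ⟩ := CommGroup.exists_apply_ne_one_of_hasEnoughRootsOfUnity (Abelianization H.P) ℂ hne
  exact ⟨φ.comp Abelianization.of, hφ⟩

theorem lin_D1 (l : H.P →* ℂˣ) {p : H.P} (hp : p ∈ H.D1) : l p = 1 :=
  MonoidHom.mem_ker.1 (Abelianization.commutator_subset_ker l hp)

open scoped Classical in
/-- The sum of the linear characters. -/
theorem sum_linear [Fintype (Cfsg.IrrCharacter H.P)] (p : H.P) :
    ∑ θ ∈ Finset.univ.filter (fun θ : Cfsg.IrrCharacter H.P => (θ : H.P → ℂ) 1 = 1),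
      (θ : H.P → ℂ) p = if p ∈ H.D1 then (H.D1.index : ℂ) else 0 := by
  classical
  rw [Finset.sum_subtype _ (p := fun θ : Cfsg.IrrCharacter H.P => (θ : H.P → ℂ) 1 = 1)
    (fun θ => by simp)]
  letI : Fintype (H.P →* ℂˣ) := Fintype.ofEquiv _ linearEquiv
  refine (Fintype.sum_equiv linearEquiv _ (fun l : H.P →* ℂˣ => (l p : ℂ)) fun θ => rfl).trans ?_
  split_ifs with hp
  · rw [Finset.sum_congr rfl (g := fun _ => (1 : ℂ)) fun l _ => by rw [H.lin_D1 l hp]; rfl,
      Finset.sum_const, nsmul_one, Finset.card_univ, ← Nat.card_eq_fintype_card, card_linear_hom]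
  · obtain ⟨m, hm⟩ := H.exists_lin_ne hp
    have h : (m p : ℂ) * ∑ l : H.P →* ℂˣ, (l p : ℂ) = ∑ l : H.P →* ℂˣ, (l p : ℂ) := by
      rw [Finset.mul_sum]
      exact Fintype.sum_equiv (Equiv.mulLeft m) _ _ fun l => by simp
    by_contra hne
    exact hm (Units.ext (mul_right_cancel₀ hne (h.trans (one_mul _).symm)))

open scoped Classical in
/-- A degree `q` set of full size carries the formula for its sum. -/
theorem full_card (hK : Nat.card H.D1 = q) [Fintype (Cfsg.IrrCharacter H.P)]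
    (s : Finset (Cfsg.IrrCharacter H.P)) (hs : ∀ θ ∈ s, H.Full (θ : H.P → ℂ)) :
    s.card ≤ q - 1 ∧ (q - 1 ≤ s.card →
      (∀ θ : Cfsg.IrrCharacter H.P, H.Full (θ : H.P → ℂ) → θ ∈ s) ∧
      ∀ p : H.P, ∑ θ ∈ s, (θ : H.P → ℂ) p =
        (if p = 1 then (q : ℂ) ^ 2 else 0) - if p ∈ H.D1 then (q : ℂ) else 0) := by
  classical
  have hq := H.q_ge
  have hq0 : (q : ℂ) ≠ 0 := Nat.cast_ne_zero.2 (by omega)
  set L := Finset.univ.filter (fun θ : Cfsg.IrrCharacter H.P => (θ : H.P → ℂ) 1 = 1) with hL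
  have hLc : L.card = q ^ 2 := by
    rw [← H.index_D1 hK, ← card_degree_one, hL, Nat.card_eq_fintype_card, Fintype.card_subtype]
  have hdis : Disjoint L s := Finset.disjoint_left.2 fun θ hθ hθs => by
    have h1 := (Finset.mem_filter.1 hθ).2
    rw [(hs θ hθs).2.1] at h1
    have : q = 1 := by exact_mod_cast h1
    omega
  have hdeg : ∀ θ : Cfsg.IrrCharacter H.P, ∃ d : ℕ, 0 < d ∧ (θ : H.P → ℂ) 1 = d :=
    fun θ => irr_one_pos θ.2
  choose d hd0 hd using hdeg
  have hall : ∑ θ, d θ * d θ = q ^ 3 := by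
    have h := regular_eq_sum (G := H.P)
    have h1 := congrFun h 1
    simp only [if_true, Finset.sum_apply, Pi.smul_apply, smul_eq_mul, hd, H.cardP] at h1
    exact_mod_cast h1.symm
  have hpart : q ^ 2 + s.card * (q * q) = ∑ θ ∈ L ∪ s, d θ * d θ := by
    rw [Finset.sum_union hdis]
    congr 1
    · rw [Finset.sum_congr rfl (g := fun _ => 1) fun θ hθ => ?_, ← Finset.card_eq_sum_ones, hLc]
      have h1 := (Finset.mem_filter.1 hθ).2
      rw [hd] at h1
      rw [show d θ = 1 by exact_mod_cast h1]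
    · rw [Finset.sum_congr rfl (g := fun _ => q * q) fun θ hθ => ?_, Finset.sum_const, smul_eq_mul]
      have h1 := (hs θ hθ).2.1
      rw [hd] at h1
      rw [show d θ = q by exact_mod_cast h1]
  have hle : q ^ 2 + s.card * (q * q) ≤ q ^ 3 := by
    rw [hpart, ← hall]
    exact Finset.sum_le_sum_of_subset (Finset.subset_univ _)
  have e3 : q ^ 3 = q * (q * q) := by ring
  have e2 : q ^ 2 = 1 * (q * q) := by ring
  rw [e2, e3, ← Nat.add_mul] at hle
  have hle' := Nat.le_of_mul_le_mul_right hle (Nat.mul_pos (by omega) (by omega))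
  refine ⟨by omega, fun hge => ?_⟩
  have hse : s.card = q - 1 := by omega
  have hu : L ∪ s = Finset.univ := by
    by_contra hne
    obtain ⟨θ, -, hθ⟩ := Finset.exists_of_ssubset ((Finset.subset_univ _).ssubset_of_ne hne)
    have h1 : ∑ x ∈ L ∪ s, d x * d x < ∑ x, d x * d x :=
      Finset.sum_lt_sum_of_subset (Finset.subset_univ _) (Finset.mem_univ θ) hθ
        (Nat.mul_pos (hd0 θ) (hd0 θ)) (fun _ _ _ => Nat.zero_le _)
    rw [← hpart, hall, e2, e3, ← Nat.add_mul, hse, show 1 + (q - 1) = q by omega] at h1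
    omega
  refine ⟨fun θ hθ => ?_, fun p => ?_⟩
  · rcases Finset.mem_union.1 (hu ▸ Finset.mem_univ θ : θ ∈ L ∪ s) with h | h
    · have h1 := (Finset.mem_filter.1 h).2
      rw [hθ.2.1] at h1
      have : q = 1 := by exact_mod_cast h1
      omega
    · exact h
  · have h := congrFun (regular_eq_sum (G := H.P)) p
    simp only [Finset.sum_apply, Pi.smul_apply, smul_eq_mul, H.cardP] at h
    rw [← hu, Finset.sum_union hdis,
      show ∑ θ ∈ L, (θ : H.P → ℂ) 1 * (θ : H.P → ℂ) p = ∑ θ ∈ L, (θ : H.P → ℂ) p from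
        Finset.sum_congr rfl fun θ hθ => by rw [(Finset.mem_filter.1 hθ).2, one_mul],
      show ∑ θ ∈ s, (θ : H.P → ℂ) 1 * (θ : H.P → ℂ) p = ∑ θ ∈ s, (q : ℂ) * (θ : H.P → ℂ) p from
        Finset.sum_congr rfl fun θ hθ => by rw [(hs θ hθ).2.1],
      hL, H.sum_linear p, ← Finset.mul_sum, H.index_D1 hK] at h
    refine mul_left_cancel₀ hq0 ?_
    split_ifs at h ⊢ <;> push_cast at h ⊢ <;> linear_combination -h

/-- A constituent of an exceptional character which is not a moved linear character is full. -/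
theorem Exc.constituent (E : H.Exc) (hidx : q ^ 2 ≤ H.D1.index) {θ : H.P → ℂ}
    (hθ : Cfsg.IsIrrCharacter H.P θ) (hℓ : ∀ i w, H.wconj w (H.lin (E.ℓ i)) ≠ θ) {i : Fin E.N}
    (hocc : Cfsg.classInner (fun p : H.P => (E.μ i : G → ℂ) p) θ ≠ 0) :
    Nat.card H.D1 = q ∧ H.Full θ := by
  classical
  have hq := H.q_ge
  have hne : θ ≠ fun _ => 1 := fun e => hocc (e ▸ E.triv i)
  obtain ⟨d, hd0, hd⟩ := irr_one_pos hθ
  obtain ⟨n, hn, hb⟩ := E.mult_bound H hθ hℓ hd
  have hn1 : 1 ≤ n := Nat.one_le_iff_ne_zero.2 fun h0 => hocc (by rw [hn, h0, Nat.cast_zero])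
  have hst := H.card_stab_le hθ hne
  have h1 : E.N * n ≤ (2 * d + 2) * 1 := by
    have h2 : E.N * n * n ≤ (2 * d + 2) * n := by nlinarith
    have := Nat.le_of_mul_le_mul_right h2 hn1
    omega
  have hN : q ≤ 2 * d + 2 := by
    have := E.q_le
    have : E.N * 1 ≤ E.N * n := Nat.mul_le_mul_left _ hn1
    omega
  obtain ⟨f, -, hf3, hqf⟩ := H.q_pow
  have hdvd : d ∣ 3 ^ (f * 3) := by
    obtain ⟨d', hd', -, hdd⟩ := irr_degree_dvd_card hθ
    rw [hd] at hd'
    rw [show d = d' by exact_mod_cast hd']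
    rwa [H.cardP, hqf, ← pow_mul] at hdd
  obtain ⟨a, -, rfl⟩ := (Nat.dvd_prime_pow Nat.prime_three).1 hdvd
  have haf : f ≤ a := by
    by_contra hlt
    push Not at hlt
    have h3 : 3 ^ (a + 1) ≤ 3 ^ f := Nat.pow_le_pow_right (by norm_num) hlt
    rw [pow_succ, ← hqf] at h3
    omega
  have hqd : q ≤ 3 ^ a := hqf ▸ Nat.pow_le_pow_right (by norm_num) haf
  rcases H.card_D1 hidx with hK | hK
  · exfalso
    have hc : (⊤ : Subgroup H.P) ≤ center H.P := fun x _ => mem_center_iff.2 fun y => by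
      have hm : ⁅y, x⁆ ∈ H.D1 := by
        show ⁅y, x⁆ ∈ _root_.commutator H.P
        rw [_root_.commutator_def]
        exact commutator_mem_commutator (mem_top _) (mem_top _)
      rw [Subgroup.card_eq_one.1 hK, mem_bot, commutatorElement_eq_one_iff_mul_comm] at hm
      exact hm
    have h := (degree_sq_le ⊤ hc hθ hd).1
    rw [Subgroup.card_top] at h
    have h2 : q * q ≤ 3 ^ a * 3 ^ a := Nat.mul_le_mul hqd hqd
    have h3 : 3 ^ a * 3 ^ a ≤ 1 := by
      by_contra h4
      push Not at h4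
      have := Nat.mul_le_mul_left (Nat.card H.P) h4
      have : 0 < Nat.card H.P := Nat.card_pos
      omega
    have : 27 * 27 ≤ q * q := Nat.mul_le_mul hq hq
    omega
  · have h := degree_sq_le H.D1 (H.D1_le_center hidx) hθ hd
    have he : 3 ^ a = q := by
      refine le_antisymm ?_ hqd
      have h1 := h.1
      rw [hK, H.cardP, pow_succ' q 2, pow_two q] at h1
      exact Nat.mul_self_le_mul_self_iff.1 (Nat.le_of_mul_le_mul_left h1 (by omega))
    exact ⟨hK, hθ, by rw [hd, he], h.2 (by rw [hK, H.cardP, he]; ring)⟩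

end Setting

end Cfsg.Agent.ReeSylowThree
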