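import Mathlib
import Cfsg.Agent.Lib.ReeSylowThree.Steinberg

/-!
A character of `B` all of whose constituents on `P` move under the whole torus vanishes outside `P`.
-/

set_option autoImplicit false
set_option linter.style.haveILetI false
set_option linter.unusedSectionVars false

namespace Cfsg.Agent.ReeSylowThree

open Subgroup Cfsg.Agent.Characters
open scoped ComplexConjugate

universe u

namespace Setting

variable {G : Type u} [Group G] {q : ℕ} (H : Setting G q)

/-- The inclusion of `P` in `B`. -/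
def inclP : H.P →* H.B := Subgroup.inclusion le_sup_left

/-- The inclusion of `W` in `B`. -/
def inclW : H.W →* H.B := Subgroup.inclusion le_sup_right

variable [Fintype G]

theorem inner_inclP_wconj {χ : H.B → ℂ} (hχ : Cfsg.IsClassFunction H.B χ) (w : H.W)
    (θ : H.P → ℂ) :
    Cfsg.classInner (χ ∘ H.inclP) (H.wconj w θ) = Cfsg.classInner (χ ∘ H.inclP) θ := by
  rw [← H.classInner_wconj w (χ ∘ H.inclP) θ]
  congr 1
  funext p
  have h := hχ (H.inclP p) (H.inclW w)
  have he : H.inclP (H.wc w p) = H.inclW w * H.inclP p * (H.inclW w)⁻¹ := Subtype.ext rfl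
  simp only [wconj, Function.comp_apply, he, h]

/-- A character of `B` vanishes outside `P` if every constituent of its restriction to `P` has
trivial stabiliser. -/
theorem vanish_of_free {Z : H.B → ℂ} (hZ : Cfsg.IsCharacter H.B Z)
    (hfree : ∀ θ : Cfsg.IrrCharacter H.P, Cfsg.classInner (Z ∘ H.inclP) (θ : H.P → ℂ) ≠ 0 →
      ∀ w, H.wconj w (θ : H.P → ℂ) = θ → w = 1) :
    ∀ b : H.B, (b : G) ∉ H.P → Z b = 0 := by
  classical
  haveI := Fintype.ofFinite (Cfsg.IrrCharacter H.B)
  haveI := Fintype.ofFinite (Cfsg.IrrCharacter H.P)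
  have hq := H.q_ge
  obtain ⟨n, hn⟩ := char_eq_sum_nat hZ
  have hm : ∀ (ρ : Cfsg.IrrCharacter H.B) (θ : Cfsg.IrrCharacter H.P), ∃ k : ℕ,
      Cfsg.classInner ((ρ : H.B → ℂ) ∘ H.inclP) (θ : H.P → ℂ) = k := fun ρ θ =>
    classInner_char_nat (Characters.isCharacter_comp H.inclP (irr_isCharacter ρ)) (irr_isCharacter θ)
  choose m hm using hm
  -- multiplicities in `Z`
  have hM : ∀ θ : Cfsg.IrrCharacter H.P,
      Cfsg.classInner (Z ∘ H.inclP) (θ : H.P → ℂ) = ((∑ ρ, n ρ * m ρ θ : ℕ) : ℂ) := fun θ => by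
    have he : Z ∘ H.inclP =
        ∑ ρ : Cfsg.IrrCharacter H.B, (n ρ : ℂ) • ((ρ : H.B → ℂ) ∘ H.inclP) := by
      funext p; rw [hn]; simp [Finset.sum_apply]
    rw [he, classInner_sum_left]
    simp only [classInner_smul_left, hm]
    push_cast
    rfl
  have hPP : Cfsg.classInner (Z ∘ H.inclP) (Z ∘ H.inclP) =
      ((∑ θ, (∑ ρ, n ρ * m ρ θ) * (∑ ρ, n ρ * m ρ θ) : ℕ) : ℂ) := by
    rw [classInner_eq_sum (Z ∘ H.inclP)
      (char_isClassFunction (Characters.isCharacter_comp H.inclP hZ))]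
    push_cast
    refine Finset.sum_congr rfl fun θ _ => ?_
    rw [classInner_conj_symm (Z ∘ H.inclP) (θ : H.P → ℂ), hM, Complex.conj_natCast]
    push_cast
    rw [mul_comm]
  have hBB : Cfsg.classInner Z Z = ((∑ ρ, n ρ * n ρ : ℕ) : ℂ) := by
    rw [hn, classInner_sum_left]
    push_cast
    refine Finset.sum_congr rfl fun ρ _ => ?_
    rw [classInner_smul_left, classInner_sum_right, Finset.sum_eq_single ρ]
    · rw [classInner_smul_right, Complex.conj_natCast, classInner_irr, if_pos rfl, mul_one]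
    · intro σ _ hσ
      rw [classInner_smul_right, classInner_irr, if_neg (Ne.symm hσ), mul_zero]
    · simp
  -- each constituent has at least `q - 1` constituents on `P`
  have hbig : ∀ ρ : Cfsg.IrrCharacter H.B, n ρ ≠ 0 → q - 1 ≤ ∑ θ, m ρ θ * m ρ θ := by
    intro ρ hρ
    obtain ⟨θ, hθ⟩ : ∃ θ, m ρ θ ≠ 0 := by
      by_contra hall
      push Not at hall
      have h0 : (ρ : H.B → ℂ) ∘ H.inclP = 0 := by
        rw [classFun_eq_sum (char_isClassFunction
          (Characters.isCharacter_comp H.inclP (irr_isCharacter ρ)))]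
        simp [hm, hall]
      have := congrFun h0 1
      simp only [Function.comp_apply, map_one, Pi.zero_apply] at this
      exact irr_one_ne_zero ρ.2 this
    have hocc : Cfsg.classInner (Z ∘ H.inclP) (θ : H.P → ℂ) ≠ 0 := by
      rw [hM, Nat.cast_ne_zero]
      intro h0
      have := (Finset.sum_eq_zero_iff.1 h0) ρ (Finset.mem_univ _)
      exact (mul_ne_zero hρ hθ) this
    let o : H.W → Cfsg.IrrCharacter H.P := fun w => ⟨H.wconj w θ, H.isIrr_wconj w θ.2⟩
    have ho : Function.Injective o := fun v w h => by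
      have h' : H.wconj v (θ : H.P → ℂ) = H.wconj w θ := congrArg Subtype.val h
      have h2 := congrArg (H.wconj w⁻¹) h'
      rw [wconj_wconj, wconj_wconj, mul_inv_cancel, wconj_one] at h2
      exact mul_inv_eq_one.1 (hfree θ hocc _ h2)
    calc q - 1 = (Finset.univ.image o).card := by
          rw [Finset.card_image_of_injective _ ho, Finset.card_univ, ← Nat.card_eq_fintype_card,
            H.cardW]
      _ = ∑ θ' ∈ Finset.univ.image o, 1 := (Finset.card_eq_sum_ones _)
      _ ≤ ∑ θ' ∈ Finset.univ.image o, m ρ θ' * m ρ θ' := Finset.sum_le_sum fun θ' hθ' => by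
          obtain ⟨w, -, rfl⟩ := Finset.mem_image.1 hθ'
          have he : m ρ (o w) = m ρ θ := by
            have h1 := H.inner_inclP_wconj (χ := (ρ : H.B → ℂ)) (irr_isClassFunction ρ) w (θ : H.P → ℂ)
            rw [show H.wconj w (θ : H.P → ℂ) = (o w : H.P → ℂ) from rfl, hm, hm] at h1
            exact_mod_cast h1
          rw [he]
          exact Nat.one_le_iff_ne_zero.2 (mul_ne_zero hθ hθ)
      _ ≤ _ := Finset.sum_le_sum_of_subset (Finset.subset_univ _)
  have hineq : (q - 1) * ∑ ρ, n ρ * n ρ ≤ ∑ θ, (∑ ρ, n ρ * m ρ θ) * (∑ ρ, n ρ * m ρ θ) := by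
    calc (q - 1) * ∑ ρ, n ρ * n ρ ≤ ∑ ρ, (n ρ * n ρ) * ∑ θ, m ρ θ * m ρ θ := by
          rw [Finset.mul_sum]
          refine Finset.sum_le_sum fun ρ _ => ?_
          by_cases hρ : n ρ = 0
          · simp [hρ]
          rw [mul_comm]
          exact Nat.mul_le_mul_left _ (hbig ρ hρ)
      _ = ∑ θ, ∑ ρ, (n ρ * m ρ θ) * (n ρ * m ρ θ) := by
          simp only [Finset.mul_sum]
          rw [Finset.sum_comm]
          exact Finset.sum_congr rfl fun θ _ => Finset.sum_congr rfl fun ρ _ => by ring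
      _ ≤ _ := Finset.sum_le_sum fun θ _ => by
          rw [Finset.sum_mul]
          refine Finset.sum_le_sum fun ρ _ => Nat.mul_le_mul_left _ ?_
          exact Finset.single_le_sum (f := fun σ => n σ * m σ θ) (fun _ _ => Nat.zero_le _)
            (Finset.mem_univ ρ)
  -- split the norm
  set I := Finset.univ.filter fun b : H.B => (b : G) ∈ H.P with hI
  set O := Finset.univ.filter fun b : H.B => (b : G) ∉ H.P with hO
  have hsplit : (Nat.card H.B : ℝ) * (∑ ρ, n ρ * n ρ : ℕ) =
      (Nat.card H.P : ℝ) * (∑ θ, (∑ ρ, n ρ * m ρ θ) * (∑ ρ, n ρ * m ρ θ) : ℕ) +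
        ∑ b ∈ O, Complex.normSq (Z b) := by
    apply Complex.ofReal_injective
    simp only [Complex.ofReal_mul, Complex.ofReal_add, Complex.ofReal_natCast, Complex.ofReal_sum]
    rw [← hPP, ← hBB, classInner_def, classInner_def,
      mul_inv_cancel_left₀ (natCard_ne_zero (G := H.B)),
      mul_inv_cancel_left₀ (natCard_ne_zero (G := H.P)),
      ← Finset.sum_filter_add_sum_filter_not Finset.univ (fun b : H.B => (b : G) ∈ H.P)]
    congr 1
    · exact Finset.sum_bij' (fun b hb => (⟨b, (Finset.mem_filter.1 hb).2⟩ : H.P))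
        (fun p _ => H.inclP p) (fun _ _ => Finset.mem_univ _)
        (fun p _ => Finset.mem_filter.2 ⟨Finset.mem_univ _, p.2⟩) (fun _ _ => rfl) (fun _ _ => rfl)
        fun _ _ => rfl
    · exact Finset.sum_congr rfl fun b _ => Complex.mul_conj _
  have hout : ∑ b ∈ O, Complex.normSq (Z b) = 0 := by
    refine le_antisymm ?_ (Finset.sum_nonneg fun b _ => Complex.normSq_nonneg _)
    have h1 : (((q - 1) * ∑ ρ, n ρ * n ρ : ℕ) : ℝ) ≤
        ((∑ θ, (∑ ρ, n ρ * m ρ θ) * (∑ ρ, n ρ * m ρ θ) : ℕ) : ℝ) := Nat.cast_le.2 hineq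
    rw [Nat.cast_mul] at h1
    rw [H.card_B, H.cardP, Nat.cast_mul] at hsplit
    have hq3 : (0 : ℝ) ≤ ((q ^ 3 : ℕ) : ℝ) := Nat.cast_nonneg _
    have h2 := mul_le_mul_of_nonneg_left h1 hq3
    rw [← mul_assoc] at h2
    linarith
  intro b hb
  exact Complex.normSq_eq_zero.1 ((Finset.sum_eq_zero_iff_of_nonneg
    fun c _ => Complex.normSq_nonneg (Z c)).1 hout b (Finset.mem_filter.2 ⟨Finset.mem_univ _, hb⟩))

/-- The restriction of a class function of `G`. -/
theorem vanish_G {χ : G → ℂ} (hχ : Cfsg.IsCharacter G χ)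
    (hfree : ∀ θ : Cfsg.IrrCharacter H.P,
      Cfsg.classInner (fun p : H.P => χ p) (θ : H.P → ℂ) ≠ 0 →
        ∀ w, H.wconj w (θ : H.P → ℂ) = θ → w = 1) :
    ∀ b ∈ H.B, b ∉ H.P → χ b = 0 := fun b hb hbP =>
  H.vanish_of_free (Z := fun b : H.B => χ b) (isCharacter_restrict H.B hχ) hfree ⟨b, hb⟩ hbP

end Setting

end Cfsg.Agent.ReeSylowThree
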