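import Mathlib
import Cfsg.Agent.Lib.ReeSylowThree.Degree
import Cfsg.Agent.Lib.ReeSylowThree.Vanish

/-!
The exceptional characters on `P`.
-/

set_option autoImplicit false
set_option linter.style.haveILetI false
set_option linter.unusedSectionVars false

namespace Cfsg.Agent.ReeSylowThree

open Subgroup Cfsg.Agent.Characters
open scoped ComplexConjugate

universe u

namespace Setting

variable {G : Type u} [Group G] {q : ℕ} (H : Setting G q)

/-- `t` inverts `P'`. -/
def Inverted : Prop := ∀ p ∈ H.D1, H.wc H.tW p = p⁻¹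

/-- `t` centralises `P'`. -/
def Centred : Prop := ∀ p ∈ H.D1, H.wc H.tW p = p

include H in
theorem exists_half : ∃ h, q - 1 = 2 * h ∧ Odd h := by
  have := H.q_mod
  exact ⟨(q - 1) / 2, by omega, Nat.odd_iff.2 (by omega)⟩

variable [Fintype G]

theorem sq_one {u : H.W} (h : u * u = 1) : u = 1 ∨ u = H.tW := by
  classical
  haveI := H.cyclicW
  by_contra hne
  push Not at hne
  have h1 := IsCyclic.card_pow_eq_one_le (α := H.W) (n := 2) two_pos
  have h3 : ({1, H.tW, u} : Finset H.W) ⊆ Finset.univ.filter fun y : H.W => y ^ 2 = 1 := by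
    intro y hy
    simp only [Finset.mem_insert, Finset.mem_singleton] at hy
    rw [Finset.mem_filter]
    refine ⟨Finset.mem_univ _, ?_⟩
    rcases hy with rfl | rfl | rfl
    · exact one_pow 2
    · rw [pow_two, H.tW_mul]
    · rw [pow_two, h]
  have h4 := (Finset.card_le_card h3).trans h1
  rw [Finset.card_insert_of_notMem (by simp [H.tW_ne.symm, hne.1.symm]),
    Finset.card_pair hne.2.symm] at h4
  omega

/-- A full character is not real. -/
theorem full_not_real (hK : Nat.card H.D1 = q) {θ : H.P → ℂ} (hθ : H.Full θ)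
    (hc : H.D1 ≤ center H.P) (hreal : ∀ p, conj (θ p) = θ p) : False := by
  classical
  have hq := H.q_ge
  have hq0 : (q : ℂ) ≠ 0 := Nat.cast_ne_zero.2 (by omega)
  have hodd : Odd (Nat.card H.P) := by rw [H.cardP]; exact H.q_odd.pow
  have hval : ∀ z ∈ H.D1, θ z = q := by
    intro z hz
    obtain ⟨c, -, hc'⟩ := central_scalar hθ.1 (hc hz)
    have hz1 : θ z = c * q := by rw [← hθ.2.1, ← hc' 1, mul_one]
    have hcr : conj c = c := by
      have := hreal z
      rw [hz1, map_mul, Complex.conj_natCast] at this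
      exact mul_right_cancel₀ hq0 this
    have hpow : ∀ k : ℕ, θ (z ^ k) = c ^ k * q := fun k => by
      induction k with
      | zero => simp [hθ.2.1]
      | succ k ih => rw [pow_succ', hc', ih, pow_succ', mul_assoc]
    have hck : c ^ Nat.card H.P = 1 := by
      have := hpow (Nat.card H.P)
      rw [pow_card_eq_one', hθ.2.1] at this
      exact mul_right_cancel₀ hq0 (((one_mul _).trans this).symm)
    obtain ⟨r, hr⟩ : ∃ r : ℝ, c = r := ⟨c.re, (Complex.conj_eq_iff_re.1 hcr).symm⟩
    rw [hr, ← Complex.ofReal_pow, Complex.ofReal_eq_one] at hck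
    have : r = 1 := hodd.pow_injective (hck.trans (one_pow _).symm)
    rw [hz1, hr, this]
    simp
  have h := classInner_isIrr_ne hθ.1 isIrrCharacter_one (H.full_ne_one hθ)
  rw [classInner_def] at h
  simp only [map_one, mul_one] at h
  rw [← Finset.sum_filter_add_sum_filter_not Finset.univ (fun p => p ∈ H.D1),
    Finset.sum_congr rfl (g := fun _ => (q : ℂ)) fun p hp => hval p (Finset.mem_filter.1 hp).2,
    Finset.sum_eq_zero (s := Finset.univ.filter fun p => p ∉ H.D1) fun p hp =>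
      hθ.2.2 p (Finset.mem_filter.1 hp).2, add_zero, Finset.sum_const, nsmul_eq_mul,
    mul_eq_zero, mul_eq_zero] at h
  rcases h with h | h | h
  · exact H.card_P_ne (inv_eq_zero.1 h)
  · have := Nat.cast_eq_zero.1 h
    rw [Finset.card_eq_zero, Finset.filter_eq_empty_iff] at this
    exact this (Finset.mem_univ (1 : H.P)) (one_mem _)
  · exact hq0 h

theorem wc_tW_not_mem {p : H.P} (hp : p ∉ H.D1) : H.wc H.tW p ∉ H.D1 := fun h => hp (by
  have := H.inv_derived H.tW _ h
  rwa [wc_mul, H.tW_mul, wc_one] at this)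

theorem inverted_wconj (hI : H.Inverted) {θ : H.P → ℂ} (hθ : H.Full θ) :
    H.wconj H.tW θ = fun p => conj (θ p) := by
  funext p
  by_cases hp : p ∈ H.D1
  · show θ (H.wc H.tW p) = _
    rw [hI p hp, char_inv (isCharacter_of_isIrr hθ.1)]
  · show θ (H.wc H.tW p) = _
    rw [hθ.2.2 p hp, hθ.2.2 _ (H.wc_tW_not_mem hp), map_zero]

theorem centred_wconj (hC : H.Centred) {θ : H.P → ℂ} (hθ : H.Full θ) :
    H.wconj H.tW θ = θ := by
  funext p
  by_cases hp : p ∈ H.D1
  · show θ (H.wc H.tW p) = _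
    rw [hC p hp]
  · show θ (H.wc H.tW p) = _
    rw [hθ.2.2 p hp, hθ.2.2 _ (H.wc_tW_not_mem hp)]

theorem inverted_free (hK : Nat.card H.D1 = q) (hc : H.D1 ≤ center H.P) (hI : H.Inverted)
    {θ : H.P → ℂ} (hθ : H.Full θ) {w : H.W} (hw : H.wconj w θ = θ) : w = 1 := by
  rcases H.irr_stab hθ.1 (H.full_ne_one hθ) hw with h | h
  · exact h
  · rw [h, H.inverted_wconj hI hθ] at hw
    exact (H.full_not_real hK hθ hc fun p => congrFun hw p).elim

/-- Induction commutes with complex conjugation. -/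
theorem R_conj (θ : H.P → ℂ) (g : G) : H.R (fun p => conj (θ p)) g = conj (H.R θ g) := by
  simp only [R, Cfsg.indFun, map_mul, map_inv₀, Complex.conj_natCast, map_sum]
  congr 1
  refine Finset.sum_congr rfl fun x _ => ?_
  by_cases hx : x⁻¹ * g * x ∈ H.P
  · rw [CharTheory.IndBasic.extendByZero_of_mem _ _ hx, CharTheory.IndBasic.extendByZero_of_mem _ _ hx]
  · rw [CharTheory.IndBasic.extendByZero_of_notMem _ _ hx,
      CharTheory.IndBasic.extendByZero_of_notMem _ _ hx, map_zero]

/-- Conjugates induce the same function. -/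
theorem R_wconj (w : H.W) (θ : H.P → ℂ) : H.R (H.wconj w θ) = H.R θ := by
  funext g
  simp only [R, Cfsg.indFun]
  congr 1
  refine Fintype.sum_equiv (Equiv.mulRight ((w : G)⁻¹)) _ _ fun x => ?_
  show _ = Cfsg.extendByZero H.P θ ((x * (w : G)⁻¹)⁻¹ * g * (x * (w : G)⁻¹))
  have he : (x * (w : G)⁻¹)⁻¹ * g * (x * (w : G)⁻¹) = (w : G) * (x⁻¹ * g * x) * (w : G)⁻¹ := by group
  rw [he]
  by_cases hx : x⁻¹ * g * x ∈ H.P
  · rw [CharTheory.IndBasic.extendByZero_of_mem _ _ hx,
      CharTheory.IndBasic.extendByZero_of_mem _ _ (H.conj_mem_P w.2 hx)]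
    rfl
  · rw [CharTheory.IndBasic.extendByZero_of_notMem _ _ hx,
      CharTheory.IndBasic.extendByZero_of_notMem _ _ fun h => hx ?_]
    have := H.conj_mem_P (inv_mem w.2) h
    rwa [show (w : G)⁻¹ * ((w : G) * (x⁻¹ * g * x) * (w : G)⁻¹) * ((w : G)⁻¹)⁻¹ = x⁻¹ * g * x by
      group] at this

theorem fixedT_top_eq (hK : Nat.card H.D1 = q) (hC : H.Centred) : H.fixedT ⊤ = H.D1 :=
  (Subgroup.eq_of_le_of_card_ge (fun p hp => H.mem_fixedT.2 ⟨mem_top _, hC p hp⟩)
    (by rw [H.card_fixedT_top, hK])).symm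

theorem centred_fixed (hK : Nat.card H.D1 = q) (hC : H.Centred) {l : H.P →* ℂˣ}
    (hl : H.lconj H.tW l = l) : l = 1 := by
  refine H.fixed_ext hl rfl fun u hu => ?_
  rw [MonoidHom.one_apply]
  refine H.lin_D1 l ?_
  rw [← H.fixedT_top_eq hK hC]
  exact H.mem_fixedT.2 ⟨mem_top _, (H.wc_tW_eq_iff u).2 hu⟩

theorem centred_lconj (hK : Nat.card H.D1 = q) (hC : H.Centred) (l : H.P →* ℂˣ) :
    H.lconj H.tW l = l⁻¹ := by
  have h : H.lconj H.tW (l * H.lconj H.tW l) = l * H.lconj H.tW l := by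
    refine MonoidHom.ext fun p => ?_
    simp only [lconj, MonoidHom.comp_apply, MonoidHom.mul_apply, MulEquiv.coe_toMonoidHom]
    rw [wc_mul, H.tW_mul, wc_one, MulEquiv.refl_apply, mul_comm]
  refine MonoidHom.ext fun p => ?_
  rw [MonoidHom.inv_apply]
  exact eq_inv_of_mul_eq_one_right (DFunLike.congr_fun (H.centred_fixed hK hC h) p)

theorem conj_lin (l : H.P →* ℂˣ) : (fun p => conj (H.lin l p)) = H.lin l⁻¹ := by
  funext p
  rw [show H.lin l⁻¹ p = ((l p : ℂ))⁻¹ by simp [lin],
    Complex.inv_eq_conj (linear_norm_eq_one l p)]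
  rfl

theorem Exc.mu_real (E : H.Exc) (hK : Nat.card H.D1 = q) (hC : H.Centred) (i : Fin E.N) (g : G) :
    conj ((E.μ i : G → ℂ) g) = (E.μ i : G → ℂ) g := by
  have hN : 2 ≤ E.N := le_trans (by have := H.q_ge; omega) E.q_le
  haveI : Nontrivial (Fin E.N) := Fin.nontrivial_iff_two_le.2 hN
  obtain ⟨j, hj⟩ := exists_ne i
  have hR : ∀ k g, conj (H.R (H.lin (E.ℓ k)) g) = H.R (H.lin (E.ℓ k)) g := fun k g => by
    rw [← H.R_conj, H.conj_lin, ← H.centred_lconj hK hC, lin_lconj, R_wconj]
  let c : Fin E.N → Cfsg.IrrCharacter G := fun k =>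
    ⟨fun g => conj ((E.μ k : G → ℂ) g), isIrrCharacter_conj (E.μ k).2⟩
  have hd : (c i : G → ℂ) - (c j : G → ℂ) = (E.μ i : G → ℂ) - (E.μ j : G → ℂ) := by
    rw [← E.diff]
    funext x
    have h := congrFun (E.diff i j) x
    simp only [Pi.sub_apply] at h ⊢
    show conj _ - conj _ = _
    rw [← map_sub, ← h, map_sub, hR, hR]
  have h := congrArg (fun f => Cfsg.classInner f (E.μ i : G → ℂ)) hd
  simp only [classInner_sub_left, classInner_irr, E.μ_inj.eq_iff, if_neg hj, if_true, sub_zero] at h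
  by_cases h1 : c i = E.μ i
  · exact congrFun (congrArg Subtype.val h1) g
  · rw [if_neg h1] at h
    split_ifs at h <;> norm_num at h

theorem Exc.centred_N (E : H.Exc) (hK : Nat.card H.D1 = q) (hC : H.Centred) : q + 1 ≤ E.N := by
  classical
  have hq := H.q_ge
  haveI : Finite (H.P →* ℂˣ) := Nat.finite_of_card_ne_zero (by
    rw [card_linear_hom]; exact Subgroup.index_ne_zero_of_finite)
  let f : Option (Fin E.N × H.W) → (H.P →* ℂˣ) := fun o =>
    o.elim 1 fun x => H.lconj x.2 (E.ℓ x.1)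
  have hf : Function.Surjective f := fun l => by
    by_cases hl : H.lconj H.tW l = l
    · exact ⟨none, (H.centred_fixed hK hC hl).symm⟩
    · obtain ⟨i, w, h⟩ := E.cover l hl
      exact ⟨some (i, w), h⟩
  have h := Nat.card_le_card_of_surjective f hf
  rw [card_linear_hom, Finite.card_option, Nat.card_prod, Nat.card_fin, H.cardW,
    show (_root_.commutator H.P).index = q ^ 2 from H.index_D1 hK] at h
  by_contra hlt
  push Not at hlt
  have h2 : E.N * (q - 1) ≤ q * (q - 1) := Nat.mul_le_mul_right _ (by omega)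
  have h3 : q * (q - 1) + q = q ^ 2 := by
    rw [Nat.mul_sub, pow_two, mul_one, Nat.sub_add_cancel (Nat.le_mul_self q)]
  omega

theorem D1_cases (hK : Nat.card H.D1 = q) : H.Inverted ∨ H.Centred := by
  rcases H.card_fixedT H.inv_derived with h | h
  · exact Or.inl fun p hp => H.inverted H.inv_derived h hp
  · refine Or.inr fun p hp => ?_
    have he : H.fixedT ⊤ = H.D1 := Subgroup.eq_of_le_of_card_ge h (by rw [H.card_fixedT_top, hK])
    exact ((H.mem_fixedT).1 (he.symm ▸ hp : p ∈ H.fixedT ⊤)).2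

/-- The multiplicity of a full character in the exceptional characters covers all full characters. -/
theorem Exc.mult_full (E : H.Exc) (hidx : q ^ 2 ≤ H.D1.index) (hK : Nat.card H.D1 = q)
    {θ0 : H.P → ℂ} (hθ0 : H.Full θ0) :
    ∃ n : ℕ, (∀ i θ, H.Full θ → Cfsg.classInner (fun p : H.P => (E.μ i : G → ℂ) p) θ = n) ∧
      ((H.Inverted ∧ n ≤ 2) ∨
        (H.Centred ∧ n ≤ 1 ∧ ∀ i g, conj ((E.μ i : G → ℂ) g) = (E.μ i : G → ℂ) g)) ∧
      ∃ s : Finset (Cfsg.IrrCharacter H.P), (∀ θ ∈ s, H.Full (θ : H.P → ℂ)) ∧ q - 1 ≤ s.card := by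
  classical
  have hq := H.q_ge
  have hcen := H.D1_le_center hidx
  have hne0 := H.full_ne_one hθ0
  have hℓ : ∀ i w, H.wconj w (H.lin (E.ℓ i)) ≠ θ0 := fun i w e => by
    have h1 := congrFun e 1
    rw [hθ0.2.1, ← lin_lconj, lin_one] at h1
    have : q = 1 := by exact_mod_cast h1.symm
    omega
  obtain ⟨n, hn, hb⟩ := E.mult_bound H hθ0.1 hℓ hθ0.2.1
  haveI := Fintype.ofFinite (Cfsg.IrrCharacter H.P)
  have hw : ∀ i w, Cfsg.classInner (fun p : H.P => (E.μ i : G → ℂ) p) (H.wconj w θ0) = n :=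
    fun i w => by rw [H.inner_restrict_wconj (irr_isClassFunction _), hn]
  let o : H.W → Cfsg.IrrCharacter H.P := fun w => ⟨H.wconj w θ0, H.isIrr_wconj w hθ0.1⟩
  rcases H.D1_cases hK with hI | hC
  · have hoi : Function.Injective o := fun v w h => by
      have h2 := congrArg (H.wconj w⁻¹) (congrArg Subtype.val h)
      simp only [o, wconj_wconj, mul_inv_cancel, wconj_one] at h2
      exact mul_inv_eq_one.1 (H.inverted_free hK hcen hI hθ0 h2)
    have hs : ∀ θ ∈ Finset.univ.image o, H.Full (θ : H.P → ℂ) := fun θ hθ => by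
      obtain ⟨w, -, rfl⟩ := Finset.mem_image.1 hθ
      exact H.full_wconj hθ0 w
    have hcard : q - 1 ≤ (Finset.univ.image o).card := by
      rw [Finset.card_image_of_injective _ hoi, Finset.card_univ, ← Nat.card_eq_fintype_card, H.cardW]
    refine ⟨n, fun i θ hθ => ?_, Or.inl ⟨hI, ?_⟩, _, hs, hcard⟩
    · obtain ⟨w, -, hw'⟩ := Finset.mem_image.1
        (((H.full_card hK _ hs).2 hcard).1 ⟨θ, hθ.1⟩ hθ)
      rw [show θ = H.wconj w θ0 from (congrArg Subtype.val hw').symm, hw]
    · have he := H.card_stab_le hθ0.1 hne0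
      have h1 : E.N * (n * n) ≤ 2 * q * n + 2 := by omega
      by_contra hn3
      push Not at hn3
      have h2 : q * (n * n) ≤ E.N * (n * n) := Nat.mul_le_mul_right _ E.q_le
      have h3 : q * (n * 3) ≤ q * (n * n) := Nat.mul_le_mul_left _ (Nat.mul_le_mul_left _ hn3)
      have h4 : 27 * 3 ≤ q * n := Nat.mul_le_mul hq hn3
      linarith
  · have hreal := fun i g => E.mu_real H hK hC i g
    obtain ⟨h, hh, hodd⟩ := H.exists_half
    have hWh : ∀ w : H.W, w ^ h = 1 ∨ w ^ h = H.tW := fun w => H.sq_one (by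
      rw [← pow_add, ← two_mul, ← hh, ← H.cardW, pow_card_eq_one'])
    have hth : H.tW ^ h = H.tW := by
      obtain ⟨k, rfl⟩ := hodd
      rw [pow_succ, pow_mul, pow_two, H.tW_mul, one_pow, one_mul]
    let f : H.W → Cfsg.IrrCharacter H.P := fun w =>
      if w ^ h = 1 then o w
      else ⟨fun p => conj (H.wconj w θ0 p), isIrrCharacter_conj (H.isIrr_wconj w hθ0.1)⟩
    have hstab : ∀ v w : H.W, H.wconj v θ0 = H.wconj w θ0 → v ^ h = w ^ h → v = w := by
      intro v w e hvw
      have h2 := congrArg (H.wconj w⁻¹) e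
      rw [wconj_wconj, wconj_wconj, mul_inv_cancel, wconj_one] at h2
      rcases H.irr_stab hθ0.1 hne0 h2 with h3 | h3
      · exact mul_inv_eq_one.1 h3
      · exfalso
        have h4 : (v * w⁻¹) ^ h = 1 := by
          haveI := H.cyclicW
          letI : CommGroup H.W := IsCyclic.commGroup
          rw [mul_pow, inv_pow, hvw, mul_inv_cancel]
        rw [h3, hth] at h4
        exact H.tW_ne h4
    have hmix : ∀ v w : H.W, H.wconj v θ0 = (fun p => conj (H.wconj w θ0 p)) → False := by
      intro v w e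
      have h2 : H.wconj (v * w⁻¹) θ0 = fun p => conj (θ0 p) := by
        rw [← wconj_wconj, e]
        funext p
        simp only [wconj, wc_mul, inv_mul_cancel, wc_one, mul_inv_cancel, MulEquiv.refl_apply]
      set u := v * w⁻¹
      have h3 : H.wconj (u * u) θ0 = θ0 := by
        rw [← wconj_wconj, h2]
        funext p
        show conj (θ0 (H.wc u p)) = _
        rw [show θ0 (H.wc u p) = conj (θ0 p) from congrFun h2 p, Complex.conj_conj]
      rcases H.irr_stab hθ0.1 hne0 h3 with h4 | h4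
      · rcases H.sq_one h4 with h5 | h5
        · rw [h5, wconj_one] at h2
          exact H.full_not_real hK hθ0 hcen fun p => (congrFun h2 p).symm
        · rw [h5, H.centred_wconj hC hθ0] at h2
          exact H.full_not_real hK hθ0 hcen fun p => (congrFun h2 p).symm
      · have h6 : (u * u) ^ h = 1 := by
          rw [← pow_two, ← pow_mul, ← hh, ← H.cardW, pow_card_eq_one']
        rw [h4, hth] at h6
        exact H.tW_ne h6
    have hfi : Function.Injective f := by
      intro v w e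
      have e' := congrArg Subtype.val e
      simp only [f] at e'
      rcases hWh v with hv | hv <;> rcases hWh w with hw' | hw'
      · rw [if_pos hv, if_pos hw'] at e'
        exact hstab v w e' (hv.trans hw'.symm)
      · rw [if_pos hv, if_neg (by rw [hw']; exact H.tW_ne)] at e'
        exact (hmix v w e').elim
      · rw [if_neg (by rw [hv]; exact H.tW_ne), if_pos hw'] at e'
        exact (hmix w v e'.symm).elim
      · rw [if_neg (by rw [hv]; exact H.tW_ne), if_neg (by rw [hw']; exact H.tW_ne)] at e'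
        refine hstab v w (funext fun p => ?_) (hv.trans hw'.symm)
        exact star_injective (congrFun e' p)
    have hf : ∀ w, H.Full (f w : H.P → ℂ) ∧ ∀ i,
        Cfsg.classInner (fun p : H.P => (E.μ i : G → ℂ) p) (f w : H.P → ℂ) = n := fun w => by
      simp only [f]
      split_ifs
      · exact ⟨H.full_wconj hθ0 w, fun i => hw i w⟩
      · refine ⟨H.full_conj (H.full_wconj hθ0 w), fun i => ?_⟩
        have h1 := classInner_conj_conj (fun p : H.P => (E.μ i : G → ℂ) p) (H.wconj w θ0)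
        simp only [hreal] at h1
        show Cfsg.classInner _ (fun p => conj (H.wconj w θ0 p)) = _
        rw [h1, hw, Complex.conj_natCast]
    have hs : ∀ θ ∈ Finset.univ.image f, H.Full (θ : H.P → ℂ) := fun θ hθ => by
      obtain ⟨w, -, rfl⟩ := Finset.mem_image.1 hθ
      exact (hf w).1
    have hcard : q - 1 ≤ (Finset.univ.image f).card := by
      rw [Finset.card_image_of_injective _ hfi, Finset.card_univ, ← Nat.card_eq_fintype_card, H.cardW]
    refine ⟨n, fun i θ hθ => ?_, Or.inr ⟨hC, ?_, hreal⟩, _, hs, hcard⟩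
    · obtain ⟨w, -, hw'⟩ := Finset.mem_image.1
        (((H.full_card hK _ hs).2 hcard).1 ⟨θ, hθ.1⟩ hθ)
      rw [show θ = (f w : H.P → ℂ) from (congrArg Subtype.val hw').symm, (hf w).2]
    · have he := H.card_stab_le hθ0.1 hne0
      have h1 : E.N * (n * n) ≤ 2 * q * n + 2 := by omega
      by_contra hn2
      push Not at hn2
      have h2 : (q + 1) * (n * n) ≤ E.N * (n * n) := Nat.mul_le_mul_right _ (E.centred_N H hK hC)
      have h3 : (q + 1) * (n * 2) ≤ (q + 1) * (n * n) :=
        Nat.mul_le_mul_left _ (Nat.mul_le_mul_left _ hn2)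
      linarith

open scoped Classical in
/-- The exceptional characters on `B`. -/
theorem Exc.exists_form (E : H.Exc) (hidx : q ^ 2 ≤ H.D1.index) : ∃ n : ℕ,
    (∀ i (p : H.P), (E.μ i : G → ℂ) p = H.orb (H.lin (E.ℓ i)) p +
      (n : ℂ) * ((if p = 1 then (q : ℂ) ^ 2 else 0) - if p ∈ H.D1 then (q : ℂ) else 0)) ∧
    (n = 0 ∨ H.Inverted → ∀ i, ∀ b ∈ H.B, b ∉ H.P → (E.μ i : G → ℂ) b = 0) ∧
    (n ≠ 0 → Nat.card H.D1 = q ∧ ((H.Inverted ∧ n ≤ 2) ∨
      (H.Centred ∧ n ≤ 1 ∧ ∀ i g, conj ((E.μ i : G → ℂ) g) = (E.μ i : G → ℂ) g))) := by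
  haveI := Fintype.ofFinite (Cfsg.IrrCharacter H.P)
  have hq := H.q_ge
  let m := fun (i : Fin E.N) (θ : Cfsg.IrrCharacter H.P) =>
    Cfsg.classInner (fun p : H.P => (E.μ i : G → ℂ) p) (θ : H.P → ℂ)
  have hrest : ∀ i (θ : Cfsg.IrrCharacter H.P), m i θ ≠ 0 →
      (∃ w, H.wconj w (H.lin (E.ℓ i)) = (θ : H.P → ℂ)) ∨
        (Nat.card H.D1 = q ∧ H.Full (θ : H.P → ℂ)) := by
    intro i θ hm
    by_cases h : ∃ j w, H.wconj w (H.lin (E.ℓ j)) = (θ : H.P → ℂ)
    · obtain ⟨j, w, hw⟩ := h
      left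
      by_cases hij : i = j
      · exact ⟨w, hij ▸ hw⟩
      · exfalso
        apply hm
        show Cfsg.classInner _ _ = 0
        rw [← hw, H.inner_restrict_wconj (irr_isClassFunction _), E.mult, if_neg hij]
    · push Not at h
      exact Or.inr (E.constituent H hidx θ.2 h hm)
  have hfreeℓ : ∀ i v w, H.wconj w (H.wconj v (H.lin (E.ℓ i))) = H.wconj v (H.lin (E.ℓ i)) →
      w = 1 := by
    intro i v w e
    have e' := congrArg (H.wconj v⁻¹) e
    rw [wconj_wconj, wconj_wconj, wconj_wconj, mul_inv_cancel, wconj_one, ← mul_assoc,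
      H.commW v w, mul_inv_cancel_right, ← lin_lconj] at e'
    exact (E.free i i w (H.lin_injective e')).2
  have main : ∀ (n : ℕ) (s : Finset (Cfsg.IrrCharacter H.P)),
      (∀ θ ∈ s, H.Full (θ : H.P → ℂ)) → (∀ i θ, θ ∈ s → m i θ = n) →
      (∀ i θ, m i θ ≠ 0 → H.Full (θ : H.P → ℂ) → θ ∈ s) →
      ∀ i (p : H.P), (E.μ i : G → ℂ) p =
        H.orb (H.lin (E.ℓ i)) p + (n : ℂ) * ∑ θ ∈ s, (θ : H.P → ℂ) p := by
    intro n s hs hsn hsc i p
    let o : H.W → Cfsg.IrrCharacter H.P := fun w =>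
      ⟨H.wconj w (H.lin (E.ℓ i)), H.isIrr_wconj w (H.lin_irr _)⟩
    have hoi : Function.Injective o := fun v w h => by
      have h2 := congrArg (H.wconj w⁻¹) (congrArg Subtype.val h)
      simp only [o, wconj_wconj, mul_inv_cancel, wconj_one] at h2
      exact mul_inv_eq_one.1 (E.free i i _ (H.lin_injective (by rw [lin_lconj]; exact h2))).2
    have hdis : Disjoint (Finset.univ.image o) s := Finset.disjoint_left.2 fun θ hθ hθs => by
      obtain ⟨w, -, rfl⟩ := Finset.mem_image.1 hθ
      have h1 := (hs _ hθs).2.1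
      simp only [o, ← lin_lconj, lin_one] at h1
      have : q = 1 := by exact_mod_cast h1.symm
      omega
    have h := congrFun (classFun_eq_sum (classFun_restrict H.P (irr_isClassFunction (E.μ i)))) p
    simp only [Finset.sum_apply, Pi.smul_apply, smul_eq_mul] at h
    rw [h, ← Finset.sum_subset (Finset.subset_univ (Finset.univ.image o ∪ s)) fun θ _ hθ => by
      rw [Finset.mem_union, not_or] at hθ
      suffices hm0 : m i θ = 0 by
        show m i θ * _ = 0
        rw [hm0, zero_mul]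
      by_contra hm
      rcases hrest i θ hm with ⟨w, hw⟩ | ⟨-, hF⟩
      · exact hθ.1 (Finset.mem_image.2 ⟨w, Finset.mem_univ _, Subtype.ext hw⟩)
      · exact hθ.2 (hsc i θ hm hF), Finset.sum_union hdis]
    congr 1
    · rw [Finset.sum_image hoi.injOn, orb]
      refine Finset.sum_congr rfl fun w _ => ?_
      show Cfsg.classInner _ (H.wconj w (H.lin (E.ℓ i))) * _ = _
      rw [H.inner_restrict_wconj (irr_isClassFunction _), E.mult, if_pos rfl, one_mul]
      rfl
    · rw [Finset.mul_sum]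
      exact Finset.sum_congr rfl fun θ hθ => by
        show m i θ * _ = _
        rw [hsn i θ hθ]
  by_cases hex : ∃ i θ, m i θ ≠ 0 ∧ H.Full (θ : H.P → ℂ)
  · obtain ⟨i0, θ0, hm0, hF0⟩ := hex
    have hK : Nat.card H.D1 = q := by
      rcases hrest i0 θ0 hm0 with ⟨w, hw⟩ | ⟨hK, -⟩
      · have h1 := congrFun hw 1
        rw [hF0.2.1, ← lin_lconj, lin_one] at h1
        have : q = 1 := by exact_mod_cast h1.symm
        omega
      · exact hK
    obtain ⟨n, hn, hcase, s, hs, hcard⟩ := E.mult_full H hidx hK hF0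
    obtain ⟨hall, hsum⟩ := (H.full_card hK s hs).2 hcard
    refine ⟨n, fun i p => ?_, fun hni i => ?_, fun _ => ⟨hK, hcase⟩⟩
    · rw [main n s hs (fun i θ hθ => hn i _ (hs θ hθ)) (fun i θ _ h => hall θ h) i p, hsum]
    · refine H.vanish_G (irr_isCharacter _) fun θ hm w hw => ?_
      rcases hrest i θ hm with ⟨v, hv⟩ | ⟨-, hF⟩
      · exact hfreeℓ i v w (by rw [hv]; exact hw)
      · rcases hni with rfl | hI
        · exact (hm0 (by show Cfsg.classInner _ _ = 0; rw [hn i0 _ hF0, Nat.cast_zero])).elim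
        · exact H.inverted_free hK (H.D1_le_center hidx) hI hF hw
  · push Not at hex
    refine ⟨0, fun i p => ?_, fun _ i => ?_, fun h => absurd rfl h⟩
    · rw [main 0 ∅ (by simp) (by simp) (fun i θ hm hF => absurd hF (hex i θ hm)) i p]
      simp
    · refine H.vanish_G (irr_isCharacter _) fun θ hm w hw => ?_
      rcases hrest i θ hm with ⟨v, hv⟩ | ⟨-, hF⟩
      · exact hfreeℓ i v w (by rw [hv]; exact hw)
      · exact absurd hF (hex i θ hm)

end Setting

end Cfsg.Agent.ReeSylowThree
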