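import Mathlib
import Cfsg.Agent.Lib.ReeSylowThree.Form

/-!
`t` does not centralise `P'` when `|P : P'| = q ^ 2`.
-/

set_option autoImplicit false
set_option linter.style.haveILetI false
set_option linter.unusedSectionVars false

namespace Cfsg.Agent.ReeSylowThree

open Subgroup Cfsg.Agent.Characters
open scoped ComplexConjugate

universe u

namespace Setting

variable {G : Type u} [Group G] {q : ℕ} (H : Setting G q) [Fintype G]

/-- An element which is no conjugate of an element of `P` has the same value in all exceptional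
characters. -/
theorem Exc.bound (E : H.Exc) {g : G} (h : ∀ x : G, x⁻¹ * g * x ∉ H.P) (i : Fin E.N) :
    (E.N : ℝ) * Complex.normSq ((E.μ i : G → ℂ) g) ≤ Nat.card (centralizer ({g} : Set G)) := by
  classical
  haveI := Fintype.ofFinite (Cfsg.IrrCharacter G)
  have hval : ∀ j, (E.μ j : G → ℂ) g = (E.μ i : G → ℂ) g := fun j => by
    have hd := congrFun (E.diff j i) g
    simp only [Pi.sub_apply, H.R_zero h, sub_self] at hd
    exact sub_eq_zero.1 hd.symm
  have h0 : ∑ χ : Cfsg.IrrCharacter G, Complex.normSq ((χ : G → ℂ) g) =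
      Nat.card (centralizer ({g} : Set G)) := by
    apply Complex.ofReal_injective
    push_cast
    simp only [← Complex.mul_conj]
    rw [second_orthogonality, if_pos (IsConj.refl g)]
  rw [← h0]
  calc (E.N : ℝ) * Complex.normSq ((E.μ i : G → ℂ) g)
      = ∑ χ ∈ Finset.univ.image E.μ, Complex.normSq ((χ : G → ℂ) g) := by
        rw [Finset.sum_image E.μ_inj.injOn,
          Finset.sum_congr rfl (g := fun _ => Complex.normSq ((E.μ i : G → ℂ) g))
            (fun j _ => by rw [hval j]),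
          Finset.sum_const, Finset.card_univ, Fintype.card_fin, nsmul_eq_mul]
    _ ≤ _ := Finset.sum_le_sum_of_subset_of_nonneg (Finset.subset_univ _)
        fun χ _ _ => Complex.normSq_nonneg _

theorem orb_lin_D1 (l : H.P →* ℂˣ) {p : H.P} (hp : p ∈ H.D1) :
    H.orb (H.lin l) p = (q : ℂ) - 1 := by
  have hq := H.q_ge
  rw [orb, Finset.sum_congr rfl (g := fun _ => (1 : ℂ)) fun w _ => by
    show (l (H.wc w p) : ℂ) = 1
    rw [H.lin_D1 l (H.inv_derived w p hp)]; rfl, Finset.sum_const, nsmul_one, Finset.card_univ,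
    ← Nat.card_eq_fintype_card, H.cardW, Nat.cast_sub (by omega), Nat.cast_one]

theorem mul_tW_conj_notMem (z : H.P) (hz : Commute (z : G) H.t) (x : G) :
    x⁻¹ * ((z : G) * H.t) * x ∉ H.P := by
  intro hm
  have hk : ((z : G) * H.t) ^ Nat.card H.P = 1 := by
    have h1 : (x⁻¹ * ((z : G) * H.t) * x) ^ Nat.card H.P = 1 :=
      congrArg Subtype.val (pow_card_eq_one' (G := H.P) (x := ⟨_, hm⟩))
    rw [show x⁻¹ * ((z : G) * H.t) * x = x⁻¹ * ((z : G) * H.t) * (x⁻¹)⁻¹ by rw [inv_inv],
      conj_pow, mul_inv_eq_one] at h1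
    exact (mul_eq_left.1 h1)
  rw [hz.mul_pow, show ((z : G)) ^ Nat.card H.P = 1 from
    congrArg Subtype.val (pow_card_eq_one' (G := H.P) (x := z)), one_mul] at hk
  obtain ⟨k, hk'⟩ : Odd (Nat.card H.P) := by rw [H.cardP]; exact H.q_odd.pow
  rw [hk', pow_succ, pow_mul, pow_two, H.t_mul, one_pow, one_mul] at hk
  exact H.t_ne hk

theorem card_cent_mul_t (hidx : q ^ 2 ≤ H.D1.index) (hK : Nat.card H.D1 = q) (hC : H.Centred)
    {z : H.P} (hz : z ∈ H.D1) (hz1 : z ≠ 1) :
    Nat.card (centralizer ({(z : G) * H.t} : Set G)) ≤ 2 * q := by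
  classical
  have hzt : Commute (z : G) H.t := mem_centralizer_singleton_iff.1 ((H.wc_tW_eq_iff z).1 (hC z hz))
  have hodd : Odd (Nat.card H.P) := by rw [H.cardP]; exact H.q_odd.pow
  obtain ⟨k, hk⟩ := hodd
  have hz2 : z * z ≠ 1 := fun h => hz1 (by
    have h' : z ^ (2 * k + 1) = 1 := by rw [← hk, pow_card_eq_one']
    rwa [pow_succ, pow_mul, pow_two, h, one_pow, one_mul] at h')
  have hsq : ((z : G) * H.t) * ((z : G) * H.t) = ((z * z : H.P) : G) := by
    rw [hzt.symm.mul_mul_mul_comm, H.t_mul, mul_one]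
    rfl
  have htpow : ((z : G) * H.t) ^ Nat.card H.P = H.t := by
    rw [hzt.mul_pow, show ((z : G)) ^ Nat.card H.P = 1 from
      congrArg Subtype.val (pow_card_eq_one' (G := H.P) (x := z)), one_mul, hk, pow_succ, pow_mul,
      pow_two, H.t_mul, one_pow, one_mul]
  have hmem : ∀ y : centralizer ({(z : G) * H.t} : Set G),
      ∃ x : H.D1 × zpowers H.t, ((x.1 : H.P) : G) * (x.2 : G) = y := by
    rintro ⟨y, hy⟩
    have hy' : Commute y ((z : G) * H.t) := mem_centralizer_singleton_iff.1 hy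
    have hyt : Commute y H.t := htpow ▸ hy'.pow_right _
    have hyz : Commute y ((z * z : H.P) : G) := hsq ▸ hy'.mul_right hy'
    have hyB : y ∈ H.B := H.mem_B_of_conj (z * z).2 (fun e => hz2 (Subtype.ext e)) (by
      rw [show y⁻¹ * ((z * z : H.P) : G) * y = ((z * z : H.P) : G) by
        rw [mul_assoc, ← hyz.eq, inv_mul_cancel_left]]
      exact le_sup_left (b := H.W) (z * z).2)
    obtain ⟨p, hp, w, hw, rfl⟩ := H.exists_mul hyB
    have hwt : Commute w H.t :=
      congrArg Subtype.val (H.commW ⟨w, hw⟩ H.tW)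
    have hpt : Commute p H.t := by
      have := hyt.mul_left hwt.inv_left
      rwa [mul_inv_cancel_right] at this
    have hpD : (⟨p, hp⟩ : H.P) ∈ H.D1 := by
      rw [← H.fixedT_top_eq hK hC]
      exact H.mem_fixedT.2 ⟨mem_top _, (H.wc_tW_eq_iff _).2 (mem_centralizer_singleton_iff.2 hpt)⟩
    have hpz : Commute p ((z * z : H.P) : G) :=
      (congrArg Subtype.val (mem_center_iff.1 (H.D1_le_center hidx hpD) (z * z))).symm
    have hwz : Commute w ((z * z : H.P) : G) := by
      have := hpz.inv_left.mul_left hyz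
      rwa [inv_mul_cancel_left] at this
    refine ⟨(⟨⟨p, hp⟩, hpD⟩, ⟨w, ?_⟩), rfl⟩
    by_cases h1 : w = 1
    · exact h1 ▸ one_mem _
    by_cases ht : w = H.t
    · exact ht ▸ mem_zpowers _
    · exact absurd (H.fpf w hw h1 ht _ (z * z).2 hwz.symm.symm) fun e => hz2 (Subtype.ext e)
  choose f hf using hmem
  have hfi : Function.Injective f := fun a b e => Subtype.ext (by rw [← hf a, ← hf b, e])
  refine (Nat.card_le_card_of_injective f hfi).trans_eq ?_
  rw [Nat.card_prod, hK, Nat.card_zpowers, H.t_two, mul_comm]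

open scoped Classical in
theorem Exc.centred_false (E : H.Exc) (hidx : q ^ 2 ≤ H.D1.index) (hK : Nat.card H.D1 = q)
    (hC : H.Centred)
    (hform : ∀ i (p : H.P), (E.μ i : G → ℂ) p = H.orb (H.lin (E.ℓ i)) p +
      ((if p = 1 then (q : ℂ) ^ 2 else 0) - if p ∈ H.D1 then (q : ℂ) else 0)) : False := by
  have hq := H.q_ge
  have hqN := E.centred_N H hK hC
  let i0 : Fin E.N := ⟨0, by omega⟩
  set χ : G → ℂ := (E.μ i0 : G → ℂ) with hχdef
  have hχ : Cfsg.IsCharacter G χ := irr_isCharacter _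
  have hq0 : (q : ℂ) ≠ 0 := Nat.cast_ne_zero.2 (by omega)
  haveI : Fintype H.D1 := Fintype.ofFinite _
  have hd1 : χ 1 = (q : ℂ) ^ 2 - 1 := by
    have := hform i0 1
    rw [H.orb_lin_D1 _ (one_mem _), if_pos rfl, if_pos (one_mem _), OneMemClass.coe_one] at this
    rw [hχdef, this]; ring
  have hz : ∀ z : H.D1, z ≠ 1 → χ ((z : H.P) : G) = -1 := fun z hz => by
    rw [hχdef, hform i0, H.orb_lin_D1 _ z.2, if_neg (fun e : (z : H.P) = 1 => hz (Subtype.ext e)), if_pos z.2]
    ring
  have hcomm : ∀ z : H.D1, Commute ((z : H.P) : G) H.t := fun z =>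
    mem_centralizer_singleton_iff.1 ((H.wc_tW_eq_iff z.1).1 (hC z.1 z.2))
  set f : H.D1 → ℂ := fun z => χ (((z : H.P) : G) * H.t) with hf
  have hcommD : ∀ a b : H.D1, a * b = b * a := fun a b =>
    Subtype.ext (mem_center_iff.1 (H.D1_le_center hidx b.2) a)
  -- the homomorphism of `P' × ⟨t⟩`
  let T := zpowers H.t
  let φ : H.D1 × T →* G :=
    { toFun := fun x => ((x.1 : H.P) : G) * (x.2 : G)
      map_one' := by simp
      map_mul' := fun a b => by
        have h1 : Commute ((b.1 : H.P) : G) (a.2 : G) := by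
          obtain ⟨k, hk⟩ := mem_zpowers_iff.1 a.2.2
          rw [← hk]
          exact (hcomm b.1).zpow_right k
        simp only [Prod.fst_mul, Prod.snd_mul, Subgroup.coe_mul]
        exact h1.mul_mul_mul_comm _ _ }
  haveI : Fintype T := Fintype.ofFinite _
  let τ : T := ⟨H.t, mem_zpowers _⟩
  have hT : (Finset.univ : Finset T) = {1, τ} := by
    symm
    refine Finset.eq_univ_of_card _ ?_
    rw [Finset.card_pair fun e => H.t_ne (congrArg Subtype.val e).symm,
      ← Nat.card_eq_fintype_card, Nat.card_zpowers, H.t_two]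
  haveI := Fintype.ofFinite (Cfsg.IrrCharacter H.D1)
  have hodd : ∀ η : Cfsg.IrrCharacter H.D1, η ≠ trivIrr H.D1 →
      ∃ a : ℤ, Odd a ∧ Cfsg.classInner f (η : H.D1 → ℂ) = a := by
    intro η hη
    obtain ⟨a, ha⟩ := classInner_char_nat (Characters.isCharacter_comp φ hχ)
      (Characters.isCharacter_comp (MonoidHom.fst H.D1 T) (irr_isCharacter η))
    refine ⟨2 * (a : ℤ) - q, ?_, ?_⟩
    · obtain ⟨m, hm⟩ := H.q_odd
      exact ⟨(a : ℤ) - m - 1, by rw [hm]; push_cast; ring⟩
    have hμ : Cfsg.classInner (fun z : H.D1 => χ ((z : H.P) : G)) (η : H.D1 → ℂ) = q := by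
      have h0 := classInner_isIrr_ne isIrrCharacter_one η.2 fun e => hη (Subtype.ext e.symm)
      have h1 : (η : H.D1 → ℂ) 1 = 1 := irr_degree_one_of_comm hcommD η.2
      rw [classInner_def, ← Finset.add_sum_erase _ _ (Finset.mem_univ (1 : H.D1))] at h0 ⊢
      rw [Finset.sum_congr rfl (g := fun z : H.D1 => -(1 * conj ((η : H.D1 → ℂ) z))) fun z hz' => by
        rw [hz z (Finset.ne_of_mem_erase hz')]; ring, Finset.sum_neg_distrib]
      rw [mul_eq_zero, inv_eq_zero, or_iff_right (Nat.cast_ne_zero.2 Nat.card_pos.ne')] at h0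
      simp only [h1, map_one, mul_one, one_mul, OneMemClass.coe_one] at h0 ⊢
      rw [hd1, hK, show (∑ z ∈ Finset.univ.erase (1 : H.D1), conj ((η : H.D1 → ℂ) z)) = -1 by
        linear_combination h0]
      field_simp
      ring
    rw [classInner_def] at ha hμ
    rw [Nat.card_prod, Fintype.sum_prod_type] at ha
    simp only [hT, Finset.sum_pair (fun e => H.t_ne (congrArg Subtype.val e).symm : (1 : T) ≠ τ),
      Nat.card_zpowers, H.t_two, Function.comp_apply, MonoidHom.coe_fst, φ, MonoidHom.coe_mk,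
      OneHom.coe_mk, OneMemClass.coe_one, mul_one, τ, Finset.sum_add_distrib, T] at ha
    rw [classInner_def]
    push_cast at ha hμ ⊢
    simp only [hf]
    rw [hK] at ha hμ ⊢
    field_simp at ha hμ ⊢
    linear_combination ha - hμ
  -- Parseval
  have hfc : Cfsg.IsClassFunction H.D1 f := fun g h => by rw [hcommD h g, mul_inv_cancel_right]
  have hlow : ((q : ℝ)) * ((q : ℝ) - 1) ≤ ∑ z : H.D1, Complex.normSq (f z) := by
    have hpar : (∑ z : H.D1, Complex.normSq (f z)) =
        (q : ℝ) * ∑ η : Cfsg.IrrCharacter H.D1, Complex.normSq (Cfsg.classInner f (η : H.D1 → ℂ)) := by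
      apply Complex.ofReal_injective
      push_cast
      have h := classInner_eq_sum f hfc
      rw [Finset.sum_congr rfl (g := fun η : Cfsg.IrrCharacter H.D1 =>
        ((Complex.normSq (Cfsg.classInner f (η : H.D1 → ℂ))) : ℂ)) fun η _ => by
          rw [classInner_conj_symm f (η : H.D1 → ℂ), Complex.mul_conj]] at h
      rw [← h, classInner_def, hK, ← mul_assoc, mul_inv_cancel₀ hq0, one_mul]
      exact Finset.sum_congr rfl fun z _ => (Complex.mul_conj _).symm
    rw [hpar]
    refine mul_le_mul_of_nonneg_left ?_ (Nat.cast_nonneg q)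
    have hcard : Fintype.card (Cfsg.IrrCharacter H.D1) = q := by
      rw [← Nat.card_eq_fintype_card]
      refine Eq.trans ?_ hK
      have h := card_degree_one (G := H.D1)
      rw [Nat.card_congr (Equiv.subtypeUnivEquiv fun η => irr_degree_one_of_comm hcommD η.2)] at h
      rw [h, show (_root_.commutator H.D1) = ⊥ from ?_, index_bot]
      rw [_root_.commutator_def, commutator_eq_bot_iff_le_centralizer]
      exact fun a _ => mem_centralizer_iff.2 fun b _ => hcommD b a
    calc ((q : ℝ) - 1) = ∑ η ∈ Finset.univ.erase (trivIrr H.D1), (1 : ℝ) := by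
          rw [Finset.sum_const, Finset.card_erase_of_mem (Finset.mem_univ _), Finset.card_univ,
            hcard, nsmul_one, Nat.cast_sub (by omega), Nat.cast_one]
      _ ≤ ∑ η ∈ Finset.univ.erase (trivIrr H.D1),
            Complex.normSq (Cfsg.classInner f (η : H.D1 → ℂ)) := Finset.sum_le_sum fun η hη => by
          obtain ⟨a, ha, hai⟩ := hodd η (Finset.ne_of_mem_erase hη)
          rw [hai, Complex.normSq_intCast]
          have h1 : (1 : ℤ) ≤ a * a := by
            have : 0 < a * a := mul_self_pos.2 (by rintro rfl; simp at ha)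
            omega
          exact_mod_cast h1
      _ ≤ _ := Finset.sum_le_sum_of_subset_of_nonneg (Finset.subset_univ _)
          fun η _ _ => Complex.normSq_nonneg _
  -- the upper bounds
  have hN : ((q : ℝ) + 1) ≤ E.N := by exact_mod_cast hqN
  have hup : ∀ z : H.D1, z ≠ 1 → ((q : ℝ) + 1) * Complex.normSq (f z) ≤ 2 * q := fun z hz1 => by
    refine le_trans (mul_le_mul_of_nonneg_right hN (Complex.normSq_nonneg _))
      ((E.bound H (H.mul_tW_conj_notMem z.1 (hcomm z)) i0).trans ?_)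
    exact_mod_cast H.card_cent_mul_t hidx hK hC z.2 fun e => hz1 (Subtype.ext e)
  obtain ⟨k, hk⟩ : ∃ k : ℤ, χ H.t = k := by
    obtain ⟨a, ha⟩ := classInner_char_nat (isCharacter_restrict T hχ) isCharacter_one
    obtain ⟨d, hd⟩ := char_one_nat hχ
    refine ⟨2 * (a : ℤ) - d, ?_⟩
    rw [classInner_def, hT, Finset.sum_pair fun e => H.t_ne (congrArg Subtype.val e).symm] at ha
    simp only [map_one, mul_one, OneMemClass.coe_one, hd, τ, T, Nat.card_zpowers, H.t_two] at ha
    push_cast at ha ⊢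
    field_simp at ha
    linear_combination ha
  have hk1 : Complex.normSq (f 1) = ((k * k : ℤ) : ℝ) := by
    simp [hf, hk, Complex.normSq_intCast]
  have ht : ((q : ℝ) + 1) * Complex.normSq (f 1) ≤ (q : ℝ) * ((q : ℝ) * q - 1) := by
    refine le_trans (mul_le_mul_of_nonneg_right hN (Complex.normSq_nonneg _))
      ((E.bound H (H.mul_tW_conj_notMem 1 (hcomm 1)) i0).trans ?_)
    rw [OneMemClass.coe_one, one_mul]
    have h' : ((Nat.card (centralizer ({H.t} : Set G)) : ℕ) : ℝ) ≤ ((q * (q * q - 1) : ℕ) : ℝ) :=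
      Nat.cast_le.2 H.cardT
    rwa [Nat.cast_mul, Nat.cast_sub (Nat.mul_pos (by omega) (by omega) : 1 ≤ q * q), Nat.cast_mul,
      Nat.cast_one] at h'
  have hlow2 : ((q : ℝ) + 1) * ((q : ℝ) * ((q : ℝ) - 1)) ≤
      ((q : ℝ) + 1) * Complex.normSq (f 1) + ((q : ℝ) - 1) * (2 * q) := by
    refine le_trans (mul_le_mul_of_nonneg_left hlow (by positivity)) ?_
    rw [Finset.mul_sum, ← Finset.add_sum_erase _ _ (Finset.mem_univ (1 : H.D1))]
    refine add_le_add le_rfl ((Finset.sum_le_sum fun z hz' => hup z (Finset.ne_of_mem_erase hz')).trans ?_)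
    rw [Finset.sum_const, Finset.card_erase_of_mem (Finset.mem_univ _), Finset.card_univ,
      ← Nat.card_eq_fintype_card, hK, nsmul_eq_mul, Nat.cast_sub (by omega), Nat.cast_one]
  rw [hk1] at ht hlow2
  have hz1 : ((q : ℤ) + 1) * (k * k) ≤ (q : ℤ) * ((q : ℤ) * q - 1) := by exact_mod_cast ht
  have hz2 : ((q : ℤ) + 1) * ((q : ℤ) * ((q : ℤ) - 1)) ≤
      ((q : ℤ) + 1) * (k * k) + ((q : ℤ) - 1) * (2 * q) := by exact_mod_cast hlow2
  set m := |k| with hm
  have hkk : k * k = m * m := (abs_mul_abs_self k).symm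
  rw [hkk] at hz1 hz2
  have hm0 : 0 ≤ m := abs_nonneg k
  have hm1 : m < q := by
    by_contra hge
    push Not at hge
    have : (q : ℤ) * q ≤ m * m := mul_le_mul hge hge (Int.natCast_nonneg _) hm0
    nlinarith
  have hm2 : (q : ℤ) - 2 < m := by
    by_contra hge
    push Not at hge
    have h3 : m * m ≤ ((q : ℤ) - 2) * ((q : ℤ) - 2) := mul_le_mul hge hge hm0 (hm0.trans hge)
    nlinarith
  have hm3 : m = (q : ℤ) - 1 := by omega
  obtain ⟨r, hr⟩ : ∃ r : ℕ, q = 8 * r + 3 := ⟨q / 8, by have := H.q_mod; omega⟩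
  obtain ⟨j, hj⟩ := H.eight χ hχ
  rw [hd1, hk] at hj
  have hj' : (q : ℤ) ^ 2 - 1 + 7 * k = 8 * j := by exact_mod_cast hj
  rw [hr] at hj' hm3
  push_cast at hj' hm3
  ring_nf at hj'
  rcases abs_choice k with h | h <;> rw [← hm, hm3] at h <;> omega

end Setting

end Cfsg.Agent.ReeSylowThree
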