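import Mathlib
import Cfsg.Agent.Lib.ReeSylowThree.Centred

/-!
`|P : P'| = q`: a third moment on the derangements excludes the last case.
-/

set_option autoImplicit false
set_option linter.style.haveILetI false
set_option linter.unusedSectionVars false

namespace Cfsg.Agent.ReeSylowThree

open Subgroup Cfsg.Agent.Characters
open scoped ComplexConjugate

universe u

namespace Setting

variable {G : Type u} [Group G] {q : ℕ} (H : Setting G q) [Fintype G]

open scoped Classical in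
/-- Summing a class function which vanishes on `B ∖ P`. -/
theorem sum_split {f : G → ℂ} (hf : Cfsg.IsClassFunction G f)
    (hB : ∀ b ∈ H.B, b ∉ H.P → f b = 0) :
    ∑ g, f g = f 1 + ((q : ℂ) ^ 3 + 1) * (∑ p : H.P, f p - f 1) +
      ∑ g ∈ Finset.univ.filter (fun g : G => ∀ x : G, x⁻¹ * g * x ∉ H.B), f g := by
  rw [← H.sum_conj_P hf]
  set A := Finset.univ.filter fun g : G => g ≠ 1 ∧ ∃ x : G, x⁻¹ * g * x ∈ H.P with hA
  set F := Finset.univ.filter fun g : G => ∀ x : G, x⁻¹ * g * x ∉ H.B with hF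
  have hAF : Disjoint A F := Finset.disjoint_left.2 fun g hg hgF => by
    obtain ⟨-, x, hx⟩ := (Finset.mem_filter.1 hg).2
    exact (Finset.mem_filter.1 hgF).2 x (le_sup_left (b := H.W) hx)
  have h1 : (1 : G) ∉ A ∪ F := by
    rw [Finset.mem_union, not_or]
    exact ⟨fun h => (Finset.mem_filter.1 h).2.1 rfl,
      fun h => (Finset.mem_filter.1 h).2 1 (by simp)⟩
  rw [← Finset.sum_subset (Finset.subset_univ (insert (1 : G) (A ∪ F))) fun g _ hg => ?_,
    Finset.sum_insert h1, Finset.sum_union hAF, add_assoc]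
  rw [Finset.mem_insert, Finset.mem_union, not_or, not_or] at hg
  obtain ⟨hg1, hgA, hgF⟩ := hg
  simp only [hF, Finset.mem_filter, Finset.mem_univ, true_and, not_forall, not_not] at hgF
  obtain ⟨x, hx⟩ := hgF
  have h0 : f (x⁻¹ * g * x) = 0 := hB _ hx fun h =>
    hgA (Finset.mem_filter.2 ⟨Finset.mem_univ _, hg1, x, h⟩)
  rw [← h0, show x⁻¹ * g * x = x⁻¹ * g * (x⁻¹)⁻¹ by rw [inv_inv], hf]

open scoped Classical in
theorem sum_change (hK : Nat.card H.D1 = q) {f g : H.P → ℂ} {a b : ℂ}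
    (hoff : ∀ p, p ∉ H.D1 → f p = g p) (hfa : ∀ p ∈ H.D1, p ≠ 1 → f p = a)
    (hgb : ∀ p ∈ H.D1, g p = b) :
    ∑ p, f p = ∑ p, g p + f 1 + ((q : ℂ) - 1) * a - (q : ℂ) * b := by
  have hq := H.q_ge
  set S := Finset.univ.filter fun p : H.P => p ∈ H.D1 with hS
  have hSc : S.card = q := by
    rw [hS, ← Fintype.card_subtype, ← Nat.card_eq_fintype_card]; exact hK
  rw [← Finset.sum_filter_add_sum_filter_not Finset.univ (fun p => p ∈ H.D1) f,
    ← Finset.sum_filter_add_sum_filter_not Finset.univ (fun p => p ∈ H.D1) g,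
    Finset.sum_congr rfl (fun p hp => hoff p (Finset.mem_filter.1 hp).2), ← hS,
    Finset.sum_congr rfl (g := fun _ => b) (fun p hp => hgb p (Finset.mem_filter.1 hp).2),
    ← Finset.add_sum_erase S f (show (1 : H.P) ∈ S from Finset.mem_filter.2 ⟨Finset.mem_univ _, one_mem _⟩),
    Finset.sum_congr rfl (g := fun _ => a) (fun p hp => hfa p
      (Finset.mem_filter.1 (Finset.mem_of_mem_erase hp)).2 (Finset.ne_of_mem_erase hp)),
    Finset.sum_const, Finset.sum_const, hSc,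
    Finset.card_erase_of_mem (show (1 : H.P) ∈ S from Finset.mem_filter.2 ⟨Finset.mem_univ _, one_mem _⟩),
    hSc, nsmul_eq_mul, nsmul_eq_mul, Nat.cast_sub (by omega), Nat.cast_one]
  ring

theorem wc_fixed (w : H.W) {p : H.P} (hp : p ∈ H.fixedT ⊤) : H.wc w p ∈ H.fixedT ⊤ :=
  H.inv_fixedT H.inv_top w p hp

/-- Orbits trivial and nontrivial on `C_P(t)`. -/
theorem Exc.exists_ij (E : H.Exc) (hidx : q ^ 2 ≤ H.D1.index) (hI : H.Inverted) :
    ∃ i j : Fin E.N, (∀ w, ∀ u ∈ H.fixedT ⊤, H.lconj w (E.ℓ i) u = 1) ∧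
      (∀ w, ∃ u ∈ H.fixedT ⊤, H.lconj w (E.ℓ j) u ≠ 1) := by
  classical
  have hq := H.q_ge
  haveI : Finite (H.P →* ℂˣ) := Nat.finite_of_card_ne_zero (by
    rw [card_linear_hom]; exact Subgroup.index_ne_zero_of_finite)
  set U := H.fixedT ⊤ with hU
  -- a moved one which is trivial on `U`
  obtain ⟨m, hm1, hmU⟩ : ∃ m : H.P →* ℂˣ, m ≠ 1 ∧ ∀ u ∈ U, m u = 1 := by
    by_contra hall
    push Not at hall
    haveI : Finite (U →* ℂˣ) := Nat.finite_of_card_ne_zero (by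
      rw [card_linear_hom]; exact Subgroup.index_ne_zero_of_finite)
    have h : Nat.card (H.P →* ℂˣ) ≤ Nat.card (U →* ℂˣ) := by
      refine Nat.card_le_card_of_injective (fun l => l.comp U.subtype) fun a b hab => ?_
      by_contra hne
      obtain ⟨u, hu, h1⟩ := hall (a * b⁻¹) fun e => hne (mul_inv_eq_one.1 e)
      exact h1 (by
        rw [MonoidHom.mul_apply, MonoidHom.inv_apply, mul_inv_eq_one]
        exact DFunLike.congr_fun hab ⟨u, hu⟩)
    rw [card_linear_hom, card_linear_hom] at h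
    have h2 : (_root_.commutator U).index ≤ q :=
      (Nat.le_of_dvd Nat.card_pos (Subgroup.index_dvd_card _)).trans_eq H.card_fixedT_top
    have h3 : q * 27 ≤ q ^ 2 := by rw [pow_two]; exact Nat.mul_le_mul_left _ hq
    have h4 : q ^ 2 ≤ (_root_.commutator H.P).index := hidx
    omega
  have hmoved : ∀ l : H.P →* ℂˣ, l ≠ 1 → (∀ u ∈ U, l u = 1) → H.lconj H.tW l ≠ l := by
    intro l hl1 hlU h
    exact hl1 (H.fixed_ext h rfl fun u hu => by
      rw [MonoidHom.one_apply]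
      exact hlU u (H.mem_fixedT.2 ⟨mem_top _, (H.wc_tW_eq_iff u).2 hu⟩))
  obtain ⟨i, w, hw⟩ := E.cover m (hmoved m hm1 hmU)
  -- a moved one which is not trivial on `U`
  obtain ⟨n, hn, u, hu, hnu⟩ : ∃ n : H.P →* ℂˣ, H.lconj H.tW n ≠ n ∧ ∃ u ∈ U, n u ≠ 1 := by
    obtain ⟨u, hu, hu1⟩ : ∃ u ∈ U, u ≠ 1 := by
      by_contra hall
      push Not at hall
      have h := H.card_fixedT_top
      rw [← hU, (eq_bot_iff_forall U).2 hall, card_bot] at h
      omega
    have hne : u ∉ H.D1 := fun h => by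
      have h1 := hI u h
      rw [(H.mem_fixedT.1 hu).2] at h1
      obtain ⟨k, hk⟩ : Odd (Nat.card H.P) := by rw [H.cardP]; exact H.q_odd.pow
      refine hu1 ?_
      have h2 : u ^ (2 * k + 1) = 1 := by rw [← hk, pow_card_eq_one']
      rwa [pow_succ, pow_mul, pow_two, eq_inv_iff_mul_eq_one.1 h1, one_pow, one_mul] at h2
    obtain ⟨l, hl⟩ := H.exists_lin_ne hne
    by_cases hlm : H.lconj H.tW l = l
    · refine ⟨l * m, fun e => hmoved m hm1 hmU ?_, u, hu, ?_⟩
      · refine MonoidHom.ext fun p => ?_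
        have h1 := DFunLike.congr_fun e p
        have h2 := DFunLike.congr_fun hlm p
        simp only [lconj, MonoidHom.comp_apply, MonoidHom.mul_apply] at h1 h2 ⊢
        rw [h2] at h1
        exact mul_left_cancel h1
      · rw [MonoidHom.mul_apply, hmU u hu, mul_one]; exact hl
    · exact ⟨l, hlm, u, hu, hl⟩
  obtain ⟨j, v, hv⟩ := E.cover n hn
  refine ⟨i, j, fun w' u' hu' => ?_, fun w' => ?_⟩
  · have h := hmU _ (H.wc_fixed (w⁻¹ * w') hu')
    rw [← hw] at h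
    simp only [lconj, MonoidHom.comp_apply, MulEquiv.coe_toMonoidHom, wc_mul] at h ⊢
    rwa [mul_inv_cancel_left] at h
  · refine ⟨H.wc (w'⁻¹ * v) u, H.wc_fixed _ hu, ?_⟩
    rw [← hv] at hnu
    simp only [lconj, MonoidHom.comp_apply, MulEquiv.coe_toMonoidHom, wc_mul] at hnu ⊢
    rwa [mul_inv_cancel_left]

theorem Exc.sum_orb_self (E : H.Exc) (i : Fin E.N) :
    ∑ p : H.P, H.orb (H.lin (E.ℓ i)) p * conj (H.orb (H.lin (E.ℓ i)) p) =
      (q : ℂ) ^ 3 * ((q : ℂ) - 1) := by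
  classical
  have hq := H.q_ge
  have horb : H.orb (H.lin (E.ℓ i)) = ∑ w : H.W, H.lin (H.lconj w (E.ℓ i)) := by
    funext p; simp [orb, lin_lconj, wconj]
  have h : Cfsg.classInner (H.orb (H.lin (E.ℓ i))) (H.orb (H.lin (E.ℓ i))) = ((q : ℂ) - 1) := by
    rw [horb, classInner_sum_left]
    simp only [classInner_sum_right]
    rw [Finset.sum_congr rfl (g := fun _ => (1 : ℂ)) fun v _ => ?_, Finset.sum_const, nsmul_one,
      Finset.card_univ, ← Nat.card_eq_fintype_card, H.cardW, Nat.cast_sub (by omega), Nat.cast_one]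
    rw [Finset.sum_eq_single v (fun w _ hw => ?_) (by simp)]
    · exact classInner_isIrr_self (H.lin_irr _)
    · refine classInner_isIrr_ne (H.lin_irr _) (H.lin_irr _) fun e => hw ?_
      have h2 := congrArg (H.lconj w⁻¹) (H.lin_injective e)
      rw [lconj_lconj, lconj_lconj, mul_inv_cancel, lconj_one] at h2
      exact (mul_inv_eq_one.1 (E.free i i _ h2).2).symm
  rw [classInner_def, H.cardP, inv_mul_eq_iff_eq_mul₀ (by
    exact_mod_cast (pow_pos (show 0 < q by omega) 3).ne'), Nat.cast_pow] at h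
  exact h

theorem Exc.sum_orb_three (E : H.Exc) {i j : Fin E.N}
    (hi : ∀ w, ∀ u ∈ H.fixedT ⊤, H.lconj w (E.ℓ i) u = 1)
    (hj : ∀ w, ∃ u ∈ H.fixedT ⊤, H.lconj w (E.ℓ j) u ≠ 1) :
    ∑ p : H.P, H.orb (H.lin (E.ℓ i)) p * H.orb (H.lin (E.ℓ i)) p *
      conj (H.orb (H.lin (E.ℓ j)) p) = 0 := by
  classical
  simp only [orb, map_sum, Finset.sum_mul, Finset.mul_sum]
  rw [Finset.sum_comm]
  refine Finset.sum_eq_zero fun w _ => ?_
  rw [Finset.sum_comm]
  refine Finset.sum_eq_zero fun v _ => ?_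
  rw [Finset.sum_comm]
  refine Finset.sum_eq_zero fun x _ => ?_
  have hall : ∀ a b c : H.W, ∑ p : H.P, H.lin (E.ℓ i) (H.wc a p) * H.lin (E.ℓ i) (H.wc b p) *
      conj (H.lin (E.ℓ j) (H.wc c p)) = 0 := by
    intro a b c
    have h := classInner_isIrr_ne (H.lin_irr (H.lconj a (E.ℓ i) * H.lconj b (E.ℓ i)))
      (H.lin_irr (H.lconj c (E.ℓ j))) fun e => by
        obtain ⟨u, hu, hne⟩ := hj c
        refine hne ?_
        rw [← DFunLike.congr_fun (H.lin_injective e) u, MonoidHom.mul_apply, hi a u hu, hi b u hu,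
          mul_one]
    rw [classInner_def, mul_eq_zero, inv_eq_zero, or_iff_right H.card_P_ne] at h
    simpa [lin, lconj] using h
  exact hall _ _ _

open scoped Classical in
theorem Exc.inverted_false (E : H.Exc) (hidx : q ^ 2 ≤ H.D1.index) (hK : Nat.card H.D1 = q)
    (hI : H.Inverted)
    (hform : ∀ i (p : H.P), (E.μ i : G → ℂ) p = H.orb (H.lin (E.ℓ i)) p +
      ((if p = 1 then (q : ℂ) ^ 2 else 0) - if p ∈ H.D1 then (q : ℂ) else 0))
    (hvan : ∀ i, ∀ b ∈ H.B, b ∉ H.P → (E.μ i : G → ℂ) b = 0) : False := by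
  have hq := H.q_ge
  obtain ⟨i, j, hi, hj⟩ := E.exists_ij H hidx hI
  set F := Finset.univ.filter (fun g : G => ∀ x : G, x⁻¹ * g * x ∉ H.B) with hF
  have h1 : ∀ k, (E.μ k : G → ℂ) 1 = (q : ℂ) ^ 2 - 1 := fun k => by
    have := hform k 1
    rw [H.orb_lin_D1 _ (one_mem _), if_pos rfl, if_pos (one_mem _), OneMemClass.coe_one] at this
    rw [this]; ring
  have hD : ∀ k (p : H.P), p ∈ H.D1 → p ≠ 1 → (E.μ k : G → ℂ) p = -1 := fun k p hp hp1 => by
    rw [hform k, H.orb_lin_D1 _ hp, if_neg hp1, if_pos hp]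
    ring
  have hoff : ∀ k (p : H.P), p ∉ H.D1 → (E.μ k : G → ℂ) p = H.orb (H.lin (E.ℓ k)) p :=
    fun k p hp => by
      rw [hform k, if_neg (fun e : p = 1 => hp (e ▸ one_mem _)), if_neg hp]
      ring
  have hconj : conj ((q : ℂ) - 1) = (q : ℂ) - 1 := by simp
  -- the norm
  have hcl := irr_isClassFunction (E.μ i)
  have hcl' := irr_isClassFunction (E.μ j)
  have hnorm := H.sum_split (f := fun g => (E.μ i : G → ℂ) g * conj ((E.μ i : G → ℂ) g))
    (fun g x => by simp only [hcl g x]) (fun b hb hbP => by simp [hvan i b hb hbP])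
  rw [H.sum_change hK (g := fun p => H.orb (H.lin (E.ℓ i)) p * conj (H.orb (H.lin (E.ℓ i)) p))
    (a := 1) (b := ((q : ℂ) - 1) * ((q : ℂ) - 1))
    (fun p hp => by simp [hoff i p hp]) (fun p hp hp1 => by simp [hD i p hp hp1])
    (fun p hp => by rw [H.orb_lin_D1 _ hp, hconj]), E.sum_orb_self H i] at hnorm
  have hG : ∑ g, (E.μ i : G → ℂ) g * conj ((E.μ i : G → ℂ) g) = (Nat.card G : ℂ) := by
    have h := classInner_isIrr_self (E.μ i).2
    rwa [classInner_def, inv_mul_eq_iff_eq_mul₀ (natCard_ne_zero (G := G)), mul_one] at h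
  rw [hG, H.cardG] at hnorm
  simp only [OneMemClass.coe_one, h1, map_sub, map_pow, Complex.conj_natCast, map_one] at hnorm
  push_cast [Nat.cast_sub (show 1 ≤ q by omega)] at hnorm
  have hL : ∑ g ∈ F, (E.μ i : G → ℂ) g * conj ((E.μ i : G → ℂ) g) =
      (q : ℂ) ^ 3 * ((q : ℂ) ^ 2 - 1) * ((q : ℂ) - 2) := by linear_combination -hnorm
  -- the third moment
  have hthree := H.sum_split
    (f := fun g => (E.μ i : G → ℂ) g * (E.μ i : G → ℂ) g * conj ((E.μ j : G → ℂ) g))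
    (fun g x => by simp only [hcl g x, hcl' g x]) (fun b hb hbP => by simp [hvan i b hb hbP])
  rw [H.sum_change hK (g := fun p => H.orb (H.lin (E.ℓ i)) p * H.orb (H.lin (E.ℓ i)) p *
      conj (H.orb (H.lin (E.ℓ j)) p))
    (a := -1) (b := ((q : ℂ) - 1) * ((q : ℂ) - 1) * ((q : ℂ) - 1))
    (fun p hp => by simp [hoff i p hp, hoff j p hp])
    (fun p hp hp1 => by simp [hD i p hp hp1, hD j p hp hp1])
    (fun p hp => by rw [H.orb_lin_D1 _ hp, H.orb_lin_D1 _ hp, hconj]),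
    E.sum_orb_three H hi hj] at hthree
  obtain ⟨k, hk⟩ := classInner_char_nat (isCharacter_mul (irr_isCharacter (E.μ i))
    (irr_isCharacter (E.μ i))) (irr_isCharacter (E.μ j))
  rw [classInner_def, inv_mul_eq_iff_eq_mul₀ (natCard_ne_zero (G := G))] at hk
  simp only [Pi.mul_apply] at hk
  rw [hk] at hthree
  simp only [OneMemClass.coe_one, h1, map_sub, map_pow, Complex.conj_natCast, map_one] at hthree
  -- common values on `F`
  have hval : ∀ g ∈ F, (E.μ j : G → ℂ) g = (E.μ i : G → ℂ) g := fun g hg => by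
    have hd := congrFun (E.diff j i) g
    simp only [Pi.sub_apply, H.R_zero_of_fpf (Finset.mem_filter.1 hg).2, sub_self] at hd
    exact sub_eq_zero.1 hd.symm
  have hT : ∑ g ∈ F, (E.μ i : G → ℂ) g * (E.μ i : G → ℂ) g * conj ((E.μ j : G → ℂ) g) =
      ∑ g ∈ F, ((Complex.normSq ((E.μ i : G → ℂ) g) : ℝ) : ℂ) * (E.μ i : G → ℂ) g :=
    Finset.sum_congr rfl fun g hg => by rw [hval g hg, ← Complex.mul_conj]; ring
  rw [hT] at hthree
  set T := ∑ g ∈ F, ((Complex.normSq ((E.μ i : G → ℂ) g) : ℝ) : ℂ) * (E.μ i : G → ℂ) g with hTdef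
  have hTv : T = ((Nat.card G * k : ℕ) : ℂ) +
      (q : ℂ) ^ 3 * ((q : ℂ) ^ 2 - 1) * ((q : ℂ) - 2) ^ 2 := by
    push_cast
    linear_combination -hthree
  have hTre := congrArg Complex.re hTv
  have hre : ((q : ℂ) ^ 3 * ((q : ℂ) ^ 2 - 1) * ((q : ℂ) - 2) ^ 2) =
      (((q : ℝ) ^ 3 * ((q : ℝ) ^ 2 - 1) * ((q : ℝ) - 2) ^ 2 : ℝ) : ℂ) := by push_cast; ring
  rw [Complex.add_re, hre, Complex.ofReal_re, Complex.natCast_re] at hTre
  have hLr : ∑ g ∈ F, Complex.normSq ((E.μ i : G → ℂ) g) =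
      (q : ℝ) ^ 3 * ((q : ℝ) ^ 2 - 1) * ((q : ℝ) - 2) := by
    apply Complex.ofReal_injective
    push_cast
    rw [← hL]
    exact Finset.sum_congr rfl fun g _ => (Complex.mul_conj _).symm
  have hqr : (27 : ℝ) ≤ q := by exact_mod_cast hq
  have hLpos : 0 < ∑ g ∈ F, Complex.normSq ((E.μ i : G → ℂ) g) := by
    rw [hLr]
    refine mul_pos (mul_pos (by positivity) ?_) (by linarith)
    nlinarith
  -- every value is smaller than `q - 2`
  have hsmall : ∀ g ∈ F, ‖(E.μ i : G → ℂ) g‖ < (q : ℝ) - 2 := by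
    intro g hg
    have hgB := (Finset.mem_filter.1 hg).2
    have hg1 : g ≠ 1 := fun e => hgB 1 (by simp [e])
    have hb := E.bound H (fun x hx => hgB x (le_sup_left (b := H.W) hx)) i
    have hs : (Nat.card (centralizer ({g} : Set G)) : ℝ) < (q : ℝ) * ((q : ℝ) - 2) ^ 2 := by
      have h' : ((Nat.card (centralizer ({g} : Set G)) : ℕ) : ℝ) < ((q * (q - 2) ^ 2 : ℕ) : ℝ) :=
        Nat.cast_lt.2 (H.small g hg1 hgB)
      rwa [Nat.cast_mul, Nat.cast_pow, Nat.cast_sub (by omega), Nat.cast_ofNat] at h'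
    have hN : (q : ℝ) ≤ E.N := by exact_mod_cast E.q_le
    rw [Complex.normSq_eq_norm_sq] at hb
    have h2 : (q : ℝ) * ‖(E.μ i : G → ℂ) g‖ ^ 2 < (q : ℝ) * ((q : ℝ) - 2) ^ 2 :=
      lt_of_le_of_lt (le_trans (mul_le_mul_of_nonneg_right hN (by positivity)) hb) hs
    exact abs_lt_of_sq_lt_sq' (lt_of_mul_lt_mul_left h2 (by positivity)) (by linarith) |>.2
  have hTle : T.re < ((q : ℝ) - 2) * ∑ g ∈ F, Complex.normSq ((E.μ i : G → ℂ) g) := by
    rw [hTdef, Complex.re_sum, Finset.mul_sum]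
    obtain ⟨g0, hg0, hne⟩ := Finset.exists_ne_zero_of_sum_ne_zero hLpos.ne'
    refine Finset.sum_lt_sum (fun g hg => ?_) ⟨g0, hg0, ?_⟩
    · rw [Complex.re_ofReal_mul, mul_comm]
      exact mul_le_mul_of_nonneg_right ((Complex.re_le_norm _).trans (hsmall g hg).le)
        (Complex.normSq_nonneg _)
    · rw [Complex.re_ofReal_mul, mul_comm]
      exact mul_lt_mul_of_pos_right ((Complex.re_le_norm _).trans_lt (hsmall g0 hg0))
        (lt_of_le_of_ne (Complex.normSq_nonneg _) (Ne.symm hne))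
  rw [hTre, hLr] at hTle
  have hk0 : (0 : ℝ) ≤ ((Nat.card G * k : ℕ) : ℝ) := Nat.cast_nonneg _
  nlinarith

/-- `|P : P'| < q ^ 2`. -/
theorem index_lt : H.D1.index < q ^ 2 := by
  classical
  by_contra hidx
  push Not at hidx
  obtain ⟨E⟩ := H.exists_exc hidx
  obtain ⟨n, hform, hvan, hn⟩ := E.exists_form H hidx
  have hq := H.q_ge
  let i0 : Fin E.N := ⟨0, lt_of_lt_of_le (by omega) E.q_le⟩
  have ht : H.t ∉ H.P := fun h => by
    have h2 := orderOf_dvd_natCard (⟨H.t, h⟩ : H.P)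
    rw [← Subgroup.orderOf_coe, H.t_two, H.cardP] at h2
    exact absurd (even_iff_two_dvd.2 h2) (Nat.not_even_iff_odd.2 H.q_odd.pow)
  have hd : (E.μ i0 : G → ℂ) 1 = ((q : ℂ) - 1) + (n : ℂ) * ((q : ℂ) ^ 2 - q) := by
    have h := hform i0 1
    rw [H.orb_lin_D1 _ (one_mem _), if_pos rfl, if_pos (one_mem _), OneMemClass.coe_one] at h
    exact h
  obtain ⟨j, hj⟩ := H.eight _ (irr_isCharacter (E.μ i0))
  obtain ⟨r, hr⟩ : ∃ r : ℕ, q = 8 * r + 3 := ⟨q / 8, by have := H.q_mod; omega⟩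
  have h0 : n = 0 ∨ (H.Inverted ∧ n = 2) → False := by
    intro h
    rw [hvan (h.imp id (·.1)) i0 H.t (le_sup_right (a := H.P) H.t_mem) ht, mul_zero, add_zero,
      hd] at hj
    have hj' : ((q : ℤ) - 1) + (n : ℤ) * ((q : ℤ) ^ 2 - q) = 8 * j := by exact_mod_cast hj
    rw [hr] at hj'
    rcases h with rfl | ⟨-, rfl⟩ <;> push_cast at hj' <;> ring_nf at hj' <;> omega
  by_cases hn0 : n = 0
  · exact h0 (Or.inl hn0)
  obtain ⟨hK, hcase⟩ := hn hn0
  rcases hcase with ⟨hI, hn2⟩ | ⟨hC, hn1, -⟩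
  · rcases (show n = 1 ∨ n = 2 by omega) with rfl | h2
    · exact E.inverted_false H hidx hK hI (fun i p => by simpa using hform i p)
        (hvan (Or.inr hI))
    · exact h0 (Or.inr ⟨hI, h2⟩)
  · obtain rfl : n = 1 := by omega
    exact E.centred_false H hidx hK hC fun i p => by simpa using hform i p

end Setting

end Cfsg.Agent.ReeSylowThree
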