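import Mathlib
import Cfsg.Agent.Lib.ReeSylowThree.Moment
import Cfsg.Agent.Lib.ReeSylowThree.ClassThree

/-!
`P` has class three and exponent nine.
-/

set_option autoImplicit false
set_option linter.style.haveILetI false
set_option linter.unusedSectionVars false

namespace Cfsg.Agent.ReeSylowThree

open Subgroup
open scoped commutatorElement

universe u

namespace Setting

variable {G : Type u} [Group G] {q : ℕ} (H : Setting G q)

/-- The third layer. -/
abbrev D2 : Subgroup H.P := ⁅H.D1, (⊤ : Subgroup H.P)⁆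

theorem inv_D2 : H.Inv H.D2 := H.inv_commutator H.inv_derived H.inv_top

theorem commutator_mem_D1 (a b : H.P) : ⁅a, b⁆ ∈ H.D1 := by
  show ⁅a, b⁆ ∈ _root_.commutator H.P
  rw [_root_.commutator_def]
  exact commutator_mem_commutator (mem_top _) (mem_top _)

variable [Fintype G]

theorem odd_P : Odd (Nat.card H.P) := by rw [H.cardP]; exact H.q_odd.pow

theorem eq_one_of_sq {a : H.P} (h : a * a = 1) : a = 1 := by
  obtain ⟨k, hk⟩ := H.odd_P
  have h' : a ^ (2 * k + 1) = 1 := by rw [← hk, pow_card_eq_one']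
  rwa [pow_succ, pow_mul, pow_two, h, one_pow, one_mul] at h'

/-- An element moved into an invariant subgroup lies in it. -/
theorem mem_of_moved {Q : Subgroup H.P} (hQ : H.Inv Q) {w : H.W} (h1 : w ≠ 1) (ht : w ≠ H.tW)
    {p : H.P} (h : H.wc w p * p⁻¹ ∈ Q) : p ∈ Q := by
  have hinj : ∀ a b : H.P, H.wc w a * a⁻¹ = H.wc w b * b⁻¹ → a = b := fun a b e => by
    refine (inv_mul_eq_one.1 (H.wc_fixed_eq_one h1 ht (p := b⁻¹ * a) ?_)).symm
    have ha : H.wc w a = H.wc w b * b⁻¹ * a := mul_inv_eq_iff_eq_mul.1 e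
    rw [map_mul, map_inv, ha]
    group
  let φ : Q → Q := fun z => ⟨H.wc w z * (z : H.P)⁻¹, mul_mem (hQ _ _ z.2) (inv_mem z.2)⟩
  have hφ : Function.Injective φ := fun a b e => Subtype.ext (hinj _ _ (congrArg Subtype.val e))
  obtain ⟨z, hz⟩ := (Finite.injective_iff_surjective.1 hφ) ⟨_, h⟩
  rw [hinj p z (congrArg Subtype.val hz).symm]
  exact z.2

/-- An element moved by `t` into `Q` has a translate fixed by `t`. -/
theorem fixed_rep {Q : Subgroup H.P} {p : H.P} (h : H.wc H.tW p * p⁻¹ ∈ Q) :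
    ∃ z ∈ Q, H.wc H.tW z = z⁻¹ ∧ H.wc H.tW (z * p) = z * p := by
  obtain ⟨k, hk⟩ := H.odd_P
  set y : H.P := H.wc H.tW p * p⁻¹ with hy
  have hwt : H.wc H.tW (H.wc H.tW p) = p := by rw [wc_mul, H.tW_mul, wc_one]; rfl
  have hyt : H.wc H.tW y = y⁻¹ := by rw [hy, map_mul, map_inv, hwt, mul_inv_rev, inv_inv]
  set z := y ^ (k + 1) with hz
  have hz2 : z * z = y := by
    rw [hz, ← pow_add, show k + 1 + (k + 1) = (2 * k + 1) + 1 by ring, pow_succ, ← hk, pow_card_eq_one',
      one_mul]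
  have hzt : H.wc H.tW z = z⁻¹ := by rw [hz, map_pow, hyt, inv_pow]
  refine ⟨z, pow_mem h _, hzt, ?_⟩
  rw [map_mul, hzt, show H.wc H.tW p = y * p by rw [hy, inv_mul_cancel_right], ← hz2]
  group

theorem card_D1_sq : Nat.card H.D1 = q ^ 2 := by
  have hq := H.q_ge
  obtain ⟨k, hk3, hk⟩ := H.card_inv H.inv_derived
  have hlt := H.index_lt
  have hmul := H.D1.card_mul_index
  rw [hk, H.cardP] at hmul
  have hk2 : 2 ≤ k := by
    by_contra h
    push Not at h
    have h1 : q ^ k * H.D1.index < q * q ^ 2 :=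
      lt_of_le_of_lt (Nat.mul_le_mul_right _ ((Nat.pow_le_pow_right (by omega) (show k ≤ 1 by omega)).trans_eq
        (pow_one q))) (Nat.mul_lt_mul_of_pos_left hlt (by omega))
    rw [hmul, ← pow_succ'] at h1
    exact lt_irrefl _ h1
  have hk4 : k ≠ 3 := fun h => by
    haveI : Fact (Nat.Prime 3) := ⟨Nat.prime_three⟩
    haveI := H.isPGroup_P.isNilpotent
    haveI : Nontrivial H.P := Finite.one_lt_card_iff_nontrivial.1 (by
      rw [H.cardP]; exact Nat.one_lt_pow (by norm_num) (by omega))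
    have htop : H.D1 = ⊤ := eq_top_of_card_eq _ (by rw [hk, h, H.cardP])
    have hlt' := H.card_commutator_lt (Q := (⊤ : Subgroup H.P)) top_ne_bot
    rw [← _root_.commutator_def, show _root_.commutator H.P = ⊤ from htop] at hlt'
    exact lt_irrefl _ hlt'
  rw [hk, show k = 2 by omega]

theorem D2_le : H.D2 ≤ H.D1 := commutator_le_left _ _

/-- The fixed points of `t` lie in `P'`. -/
theorem fixed_le_D1 : H.fixedT ⊤ ≤ H.D1 := by
  refine (H.card_fixedT H.inv_derived).resolve_left fun hbot => ?_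
  have hq := H.q_ge
  -- `t` would centralise `P / P'`
  have hV : ∀ p : H.P, H.wc H.tW p * p⁻¹ ∈ H.D1 := by
    let π := QuotientGroup.mk' H.D1
    have hinj : Function.Injective (fun u : H.fixedT ⊤ => π u) := fun a b e => by
      have h : (a : H.P)⁻¹ * b ∈ H.fixedT H.D1 := H.mem_fixedT.2
        ⟨QuotientGroup.eq.1 e, by rw [map_mul, map_inv, a.2.2, b.2.2]⟩
      rw [hbot, mem_bot] at h
      exact Subtype.ext (inv_mul_eq_one.1 h)
    have hsur := ((Nat.bijective_iff_injective_and_card _).2 ⟨hinj, by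
      rw [H.card_fixedT_top]
      have h := H.D1.card_eq_card_quotient_mul_card_subgroup
      rw [H.cardP, H.card_D1_sq, pow_succ' q 2] at h
      exact Nat.eq_of_mul_eq_mul_right (pow_pos (by omega) 2) h⟩).2
    intro p
    obtain ⟨u, hu⟩ := hsur (π p)
    have hz : (u : H.P)⁻¹ * p ∈ H.D1 := QuotientGroup.eq.1 hu
    have h2 := H.inv_derived H.tW _ hz
    rw [map_mul, map_inv, u.2.2] at h2
    have h3 : ((u : H.P)⁻¹ * H.wc H.tW p) * ((u : H.P)⁻¹ * p)⁻¹ ∈ H.D1 := mul_mem h2 (inv_mem hz)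
    have h4 := (inferInstance : H.D1.Normal).conj_mem _ h3 (u : H.P)
    rwa [show (u : H.P) * (((u : H.P)⁻¹ * H.wc H.tW p) * ((u : H.P)⁻¹ * p)⁻¹) * (u : H.P)⁻¹ =
      H.wc H.tW p * p⁻¹ by group] at h4
  -- and hence `P' / [P', P]`, which it inverts
  have hne : H.D1 ≠ ⊥ := fun e => by
    have h := H.card_D1_sq
    rw [e, card_bot] at h
    have := Nat.one_lt_pow (show (2 : ℕ) ≠ 0 by norm_num) (show 1 < q by omega)
    omega
  haveI : H.D2.Normal := by infer_instance
  let π2 := QuotientGroup.mk' H.D2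
  have hcen : ∀ z ∈ H.D1, ∀ a : H.P, Commute (π2 z) (π2 a) := fun z hz a => by
    exact commutatorElement_eq_one_iff_mul_comm.1 (by
      rw [← map_commutatorElement]
      exact (QuotientGroup.eq_one_iff _).2 (commutator_mem_commutator hz (mem_top a)))
  have hgen : ∀ z ∈ H.D1, π2 (H.wc H.tW z) = π2 z := by
    intro z hz
    rw [D1, _root_.commutator_def, Subgroup.commutator_def] at hz
    induction hz using Subgroup.closure_induction with
    | mem x hx =>
      obtain ⟨a, -, b, -, rfl⟩ := hx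
      rw [map_commutatorElement, map_commutatorElement, map_commutatorElement,
        show π2 (H.wc H.tW a) = π2 (H.wc H.tW a * a⁻¹) * π2 a by rw [← map_mul, inv_mul_cancel_right],
        show π2 (H.wc H.tW b) = π2 (H.wc H.tW b * b⁻¹) * π2 b by rw [← map_mul, inv_mul_cancel_right]]
      have hA := hcen _ (hV a)
      have hB := hcen _ (hV b)
      set X := π2 (H.wc H.tW a * a⁻¹)
      set Y := π2 (H.wc H.tW b * b⁻¹)
      set A := π2 a
      set B := π2 b
      have hXY : Commute X Y := hA _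
      have hAY : Commute A Y := (hB a).symm
      have e1 : X * A * (Y * B) = X * Y * (A * B) := hAY.mul_mul_mul_comm _ _
      have e2 : Y * B * (X * A) = X * Y * (B * A) := by
        rw [(hA b).symm.mul_mul_mul_comm, hXY.eq]
      rw [commutatorElement_def, commutatorElement_def,
        show X * A * (Y * B) * (X * A)⁻¹ * (Y * B)⁻¹ = (X * A * (Y * B)) * (Y * B * (X * A))⁻¹ by group,
        e1, e2]
      have hc : Commute (X * Y) ((A * B) * (B * A)⁻¹) :=
        ((hA _).mul_left (hB _)).mul_right (((hA _).mul_left (hB _)).inv_right)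
          |> fun h => by simpa only [A, B, ← map_mul, ← map_inv] using h
      calc X * Y * (A * B) * (X * Y * (B * A))⁻¹ = (X * Y) * ((A * B) * (B * A)⁻¹) * (X * Y)⁻¹ := by
            group
        _ = (A * B) * (B * A)⁻¹ := by rw [hc.eq, mul_inv_cancel_right]
        _ = A * B * A⁻¹ * B⁻¹ := by group
    | one => simp
    | mul x y _ _ hx hy => rw [map_mul, map_mul, map_mul, hx, hy]
    | inv x _ hx => rw [map_inv, map_inv, map_inv, hx]
  have hle : H.D1 ≤ H.D2 := fun z hz => by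
    have h1 := hgen z hz
    rw [H.inverted H.inv_derived hbot hz] at h1
    have h2 : z * z ∈ H.D2 := by
      have h3 : (z⁻¹)⁻¹ * z ∈ H.D2 := QuotientGroup.eq.1 h1
      rwa [inv_inv] at h3
    obtain ⟨k, hk⟩ := H.odd_P
    have h4 : (z * z) ^ (k + 1) = z := by
      rw [← pow_two, ← pow_mul, show 2 * (k + 1) = (2 * k + 1) + 1 by ring, pow_succ, ← hk,
        pow_card_eq_one', one_mul]
    rw [← h4]
    exact pow_mem h2 _
  exact absurd (card_le_of_le hle) (not_le.2 (H.card_commutator_lt hne))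

theorem tW_top {p : H.P} (h : H.wc H.tW p * p⁻¹ ∈ H.D1) : p ∈ H.D1 := by
  obtain ⟨z, hz, -, hfix⟩ := H.fixed_rep h
  have h2 : z * p ∈ H.D1 := H.fixed_le_D1 (H.mem_fixedT.2 ⟨mem_top _, hfix⟩)
  have := mul_mem (inv_mem hz) h2
  rwa [inv_mul_cancel_left] at this

/-- `t` inverts `P / P'`. -/
theorem tW_inverts (a : H.P) : a * H.wc H.tW a ∈ H.D1 := by
  refine H.tW_top ?_
  have hwt : H.wc H.tW (H.wc H.tW a) = a := by rw [wc_mul, H.tW_mul, wc_one]; rfl
  rw [map_mul, hwt, mul_inv_rev]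
  have h : ⁅H.wc H.tW a, a⁆ ∈ H.D1 := H.commutator_mem_D1 _ _
  rwa [commutatorElement_def, mul_assoc] at h

/-- `t` centralises `P' / [P', P]`. -/
theorem tW_middle {z : H.P} (hz : z ∈ H.D1) : H.wc H.tW z * z⁻¹ ∈ H.D2 := by
  haveI : H.D2.Normal := by infer_instance
  let π2 := QuotientGroup.mk' H.D2
  have hcen : ∀ z ∈ H.D1, ∀ a : H.P, Commute (π2 z) (π2 a) := fun z hz a =>
    commutatorElement_eq_one_iff_mul_comm.1 (by
      rw [← map_commutatorElement]
      exact (QuotientGroup.eq_one_iff _).2 (commutator_mem_commutator hz (mem_top a)))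
  suffices h : π2 (H.wc H.tW z) = π2 z by
    refine (QuotientGroup.eq_one_iff _).1 ?_
    show π2 (H.wc H.tW z * z⁻¹) = 1
    rw [map_mul, h, map_inv, mul_inv_cancel]
  rw [D1, _root_.commutator_def, Subgroup.commutator_def] at hz
  induction hz using Subgroup.closure_induction with
  | mem x hx =>
    obtain ⟨a, -, b, -, rfl⟩ := hx
    rw [map_commutatorElement, map_commutatorElement, map_commutatorElement,
      show π2 (H.wc H.tW a) = (π2 a)⁻¹ * π2 (a * H.wc H.tW a) by
        rw [map_mul, inv_mul_cancel_left],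
      show π2 (H.wc H.tW b) = (π2 b)⁻¹ * π2 (b * H.wc H.tW b) by
        rw [map_mul, inv_mul_cancel_left]]
    have hX := hcen _ (H.tW_inverts a)
    have hY := hcen _ (H.tW_inverts b)
    set A := π2 a
    set B := π2 b
    set X := π2 (a * H.wc H.tW a)
    set Y := π2 (b * H.wc H.tW b)
    have hC : ∀ g, Commute ⁅A, B⁆ (π2 g) := fun g => by
      rw [← map_commutatorElement]
      exact hcen _ (H.commutator_mem_D1 a b) g
    have e1 : ⁅A⁻¹ * X, B⁻¹ * Y⁆ = ⁅A⁻¹, B⁻¹⁆ := by
      have hXB : Commute X B⁻¹ := (hX b).inv_right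
      have hXY : Commute X Y := hX _
      have hYA : Commute Y A⁻¹ := (hY a).inv_right
      have f1 : A⁻¹ * X * (B⁻¹ * Y) = A⁻¹ * B⁻¹ * (X * Y) := hXB.mul_mul_mul_comm _ _
      have f2 : B⁻¹ * Y * (A⁻¹ * X) = B⁻¹ * A⁻¹ * (X * Y) := by
        rw [hYA.mul_mul_mul_comm, hXY.eq]
      rw [commutatorElement_def, commutatorElement_def,
        show A⁻¹ * X * (B⁻¹ * Y) * (A⁻¹ * X)⁻¹ * (B⁻¹ * Y)⁻¹ =
          (A⁻¹ * X * (B⁻¹ * Y)) * (B⁻¹ * Y * (A⁻¹ * X))⁻¹ by group, f1, f2]
      group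
    rw [e1]
    calc ⁅A⁻¹, B⁻¹⁆ = (B * A)⁻¹ * ⁅A, B⁆ * (B * A) := by simp only [commutatorElement_def]; group
      _ = ⁅A, B⁆ := by
        rw [mul_assoc, ((hC b).mul_right (hC a)).eq, inv_mul_cancel_left]
  | one => simp
  | mul x y _ _ hx hy => rw [map_mul, map_mul, map_mul, hx, hy]
  | inv x _ hx => rw [map_inv, map_inv, map_inv, hx]

theorem card_D2 : Nat.card H.D2 = q ∧ H.fixedT H.D2 = ⊥ := by
  have hq := H.q_ge
  have hne : H.D1 ≠ ⊥ := fun e => by
    have h := H.card_D1_sq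
    rw [e, card_bot] at h
    have := Nat.one_lt_pow (show (2 : ℕ) ≠ 0 by norm_num) (show 1 < q by omega)
    omega
  -- `P'` is not centralised by `t`
  have hnfix : ¬ (∀ z ∈ H.D2, H.wc H.tW z = z) := fun hall => by
    have hle : H.D1 ≤ H.fixedT ⊤ := fun z hz => H.mem_fixedT.2 ⟨mem_top _, by
      obtain ⟨w, hw, hwt, hfix⟩ := H.fixed_rep (H.tW_middle hz)
      have h1 : w = 1 := H.eq_one_of_sq (eq_inv_iff_mul_eq_one.1 ((hall w hw).symm.trans hwt))
      rw [h1, one_mul] at hfix
      exact hfix⟩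
    have := card_le_of_le hle
    rw [H.card_D1_sq, H.card_fixedT_top] at this
    have h2 : q * 27 ≤ q ^ 2 := by rw [pow_two]; exact Nat.mul_le_mul_left _ hq
    omega
  obtain ⟨k, -, hk⟩ := H.card_inv H.inv_D2
  have hlt : q ^ k < q ^ 2 := by
    rw [← hk, ← H.card_D1_sq]
    exact H.card_commutator_lt hne
  have hk1 : k < 2 := (Nat.pow_lt_pow_iff_right (by omega : 1 < q)).1 hlt
  have hk0 : k ≠ 0 := fun h => hnfix fun z hz => by
    rw [eq_bot_of_card_eq _ (show Nat.card H.D2 = 1 by rw [hk, h, pow_zero]), mem_bot] at hz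
    rw [hz, map_one]
  have hc : Nat.card H.D2 = q := by rw [hk, show k = 1 by omega, pow_one]
  refine ⟨hc, (H.card_fixedT H.inv_D2).resolve_right fun hle => hnfix fun z hz => ?_⟩
  rw [← Subgroup.eq_of_le_of_card_ge hle (by rw [hc, H.card_fixedT_top])] at hz
  exact (H.mem_fixedT.1 hz).2

theorem D2_le_center : H.D2 ≤ center H.P := by
  have hq := H.q_ge
  have hne : H.D2 ≠ ⊥ := fun e => by
    have h := H.card_D2.1
    rw [e, card_bot] at h
    omega
  obtain ⟨k, -, hk⟩ := H.card_inv (H.inv_commutator H.inv_D2 H.inv_top)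
  have hlt : q ^ k < q := by
    have h := H.card_commutator_lt hne
    rw [hk, H.card_D2.1] at h
    exact h
  have hk0 : k = 0 := by
    by_contra h
    exact absurd hlt (not_lt.2 (Nat.le_self_pow h q))
  rw [← Subgroup.centralizer_univ, ← Subgroup.coe_top]
  exact commutator_eq_bot_iff_le_centralizer.1 (eq_bot_of_card_eq _ (by rw [hk, hk0, pow_zero]))

/-- The action of the torus on `P`. -/
def rho : H.W →* MulAut H.P where
  toFun := H.wc
  map_one' := H.wc_one
  map_mul' v w := MulEquiv.ext fun p => (H.wc_mul v w p).symm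

theorem exists_nine : ∃ x : H.P, orderOf x = 9 := by
  by_contra hall
  push Not at hall
  haveI := H.cyclicW
  letI : CommGroup H.W := { (inferInstance : Group H.W) with mul_comm := H.commW }
  obtain ⟨f, hf, hf3, hqf⟩ := H.q_pow
  have hexp : ∀ x : H.P, x ^ 3 = 1 := by
    intro x
    haveI : Fact (Nat.Prime 3) := ⟨Nat.prime_three⟩
    obtain ⟨a, ha⟩ := (IsPGroup.iff_orderOf.1 H.isPGroup_P) x
    rcases Nat.lt_or_ge a 2 with h | h
    · refine orderOf_dvd_iff_pow_eq_one.1 (ha ▸ ?_)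
      rcases (show a = 0 ∨ a = 1 by omega) with rfl | rfl <;> norm_num
    · exfalso
      refine hall (x ^ 3 ^ (a - 2)) ?_
      rw [orderOf_pow' _ (pow_ne_zero _ (by norm_num)), ha,
        Nat.gcd_eq_right (pow_dvd_pow 3 (by omega)), Nat.pow_div (by omega) (by norm_num),
        show a - (a - 2) = 2 by omega]
  have hC1 := H.card_D1_sq
  have hC2 := H.card_D2
  refine exponent_three_false H.rho H.tW_ne H.tW_mul (fun h hh => H.sq_one hh) hf hf3
    (by rw [H.cardW, hqf]) hexp ?_ ?_ ?_ H.D2_le_center (fun h h1 p hp => ?_)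
    (fun h h1 ht p _ hp => H.mem_of_moved H.inv_D2 h1 ht hp) (fun p hp => H.tW_middle hp)
    (fun h h1 p hp hfix => ?_)
  · show Nat.card H.P = 3 ^ f * Nat.card H.D1
    rw [H.cardP, hC1, ← hqf]; ring
  · show Nat.card H.D1 = 3 ^ f * Nat.card H.D2
    rw [hC1, hC2.1, ← hqf]; ring
  · show Nat.card H.D2 = 3 ^ f
    rw [hC2.1, hqf]
  · by_cases ht : h = H.tW
    · subst ht; exact H.tW_top hp
    · exact H.mem_of_moved H.inv_derived h1 ht hp
  · by_cases ht : h = H.tW
    · subst ht
      have h' : p ∈ H.fixedT H.D2 := H.mem_fixedT.2 ⟨hp, hfix⟩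
      rwa [hC2.2, mem_bot] at h'
    · exact H.wc_fixed_eq_one h1 ht hfix

/-- An element of order nine and a central element of order three outside its cyclic group. -/
theorem exists_witness (H : Setting G q) : ∃ x k : G, orderOf x = 9 ∧ k ^ 3 = 1 ∧ Commute x k ∧
    k ∉ zpowers x := by
  classical
  have hq := H.q_ge
  haveI : Fact (Nat.Prime 3) := ⟨Nat.prime_three⟩
  obtain ⟨x, hx⟩ := H.exists_nine
  obtain ⟨f, -, hf3, hqf⟩ := H.q_pow
  have h3 : 3 ∣ Nat.card H.D2 := by
    rw [H.card_D2.1, hqf]; exact dvd_pow_self 3 (by omega)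
  obtain ⟨k0, hk0⟩ := exists_prime_orderOf_dvd_card' 3 h3
  have hk1 : (k0 : H.P) ≠ 1 := fun e => by
    rw [show k0 = 1 from Subtype.ext e, orderOf_one] at hk0
    omega
  have hk03 : (k0 : H.P) ^ 3 = 1 := by
    have := congrArg (Subtype.val) (hk0 ▸ pow_orderOf_eq_one k0)
    exact this
  by_contra hall
  push Not at hall
  have hmem : ∀ w : H.W, ∃ i : Fin 9, ((H.wc w (k0 : H.P) : H.P) : G) = (x : G) ^ (i : ℕ) := by
    intro w
    have hc : Commute (x : G) ((H.wc w (k0 : H.P) : H.P) : G) :=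
      congrArg Subtype.val (mem_center_iff.1 (H.D2_le_center (H.inv_D2 w _ k0.2)) x)
    have h9 : orderOf (x : G) = 9 := by rw [Subgroup.orderOf_coe, hx]
    have h := hall (x : G) _ h9 (by
      rw [← Subgroup.coe_pow, ← map_pow, hk03, map_one]; rfl) hc
    obtain ⟨m, hm, hm'⟩ := Finset.mem_image.1 (mem_zpowers_iff_mem_range_orderOf.1 h)
    exact ⟨⟨m, h9 ▸ Finset.mem_range.1 hm⟩, hm'.symm⟩
  choose g hg using hmem
  have hle : Nat.card H.W ≤ 2 * Nat.card (Fin 9) := by
    have hfib : ∀ i : Fin 9, (Finset.univ.filter fun w : H.W => g w = i).card ≤ 2 := fun i => by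
      by_cases he : ∃ w, g w = i
      · obtain ⟨w, hw⟩ := he
        refine (Finset.card_le_card (t := {w, w * H.tW}) fun v hv => ?_).trans Finset.card_le_two
        have hv' := (Finset.mem_filter.1 hv).2
        have he' : H.wc v (k0 : H.P) = H.wc w k0 := Subtype.ext (by rw [hg, hg, hv', hw])
        have h2 := congrArg (H.wc w⁻¹) he'
        rw [wc_mul, wc_mul, inv_mul_cancel, wc_one] at h2
        by_cases h1 : w⁻¹ * v = 1
        · rw [inv_mul_eq_one] at h1; simp [h1]
        by_cases ht : w⁻¹ * v = H.tW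
        · rw [inv_mul_eq_iff_eq_mul] at ht; simp [ht]
        · exact absurd (H.wc_fixed_eq_one h1 ht h2) hk1
      · push Not at he
        rw [Finset.filter_eq_empty_iff.2 fun w _ => he w]
        simp
    have := Finset.card_le_mul_card_image_of_maps_to (s := (Finset.univ : Finset H.W))
      (t := (Finset.univ : Finset (Fin 9))) (f := g) (fun _ _ => Finset.mem_univ _) 2
      (fun i _ => hfib i)
    rwa [Finset.card_univ, Finset.card_univ, ← Nat.card_eq_fintype_card, ← Nat.card_eq_fintype_card] at this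
  rw [H.cardW, Nat.card_fin] at hle
  omega

end Setting

end Cfsg.Agent.ReeSylowThree
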