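import Mathlib
import Cfsg.Agent.Lib.Walter.Field.Ree
import Cfsg.Agent.Lib.Walter.ReeLocal
import Cfsg.Agent.Lib.Coprime.FixedPointFree

/-!
The split `(B, N)`-pair of a group of Ree order: orders, trivial intersections, the torus.
-/

set_option autoImplicit false
set_option linter.style.haveILetI false
set_option linter.unusedSectionVars false

namespace Cfsg.Agent.ReeSylowThree

open Subgroup Cfsg.Agent.Walter.Field

universe u v

variable {G : Type u} [Group G] [Finite G] {X : Type v} [Group X] [Finite X]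
  {t : G} {φ : X →* G} {n : ℕ} {U H : Subgroup X} {w : X} {R : Subgroup G}

/-- The torus of the point stabiliser. -/
abbrev torus (φ : X →* G) (H : Subgroup X) (t : G) : Subgroup G := H.map φ ⊔ zpowers t

variable (D : ReeData t φ n U H w) (hB : Curtis.Bruhat R (torus φ H t) (φ w) n)
include D

theorem q_facts : 27 ≤ 3 ^ n ∧ 3 ^ n % 8 = 3 ∧ ¬ 3 ∣ 3 ^ n - 1 := by
  obtain ⟨k, hk⟩ := D.odd_n
  have h1 := D.one_lt
  have h27 : 3 ^ 3 ≤ 3 ^ n := Nat.pow_le_pow_right (by norm_num) (by omega)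
  have h3 : 3 ∣ 3 ^ n := dvd_pow_self 3 (by omega)
  refine ⟨by omega, ?_, by omega⟩
  rw [hk, pow_succ, pow_mul, Nat.mul_mod, Nat.pow_mod]
  norm_num

theorem t_norm_map : zpowers t ≤ normalizer ((H.map φ : Subgroup G) : Set G) :=
  zpowers_le.2 (EqualOrderConj.mem_normalizer_of_conj_mem (by
    rintro _ ⟨x, hx, rfl⟩
    exact ⟨x, hx, by rw [← (D.emb.comm x).eq, mul_inv_cancel_right]⟩))

theorem mem_torus {g : G} : g ∈ torus φ H t ↔ ∃ h ∈ H, g = φ h ∨ g = φ h * t := by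
  constructor
  · intro hg
    obtain ⟨a, ⟨h, hh, rfl⟩, b, ⟨i, rfl⟩, e⟩ :=
      (Coprime.mem_sup_of_le_normalizer (t_norm_map D)).1 hg
    refine ⟨h, hh, ?_⟩
    rcases Int.even_or_odd i with ⟨j, rfl⟩ | ⟨j, rfl⟩
    · left
      simp only [← two_mul, zpow_mul, zpow_two, mul_self_of_two D.emb.ht, one_zpow, mul_one] at e
      exact e.symm
    · right
      simp only [zpow_add, zpow_mul, zpow_two, mul_self_of_two D.emb.ht, one_zpow, one_mul,
        zpow_one] at e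
      exact e.symm
  · rintro ⟨h, hh, rfl | rfl⟩
    · exact mem_sup_left (mem_map_of_mem _ hh)
    · exact mul_mem (mem_sup_left (mem_map_of_mem _ hh)) (mem_sup_right (mem_zpowers t))

theorem card_torus : Nat.card (torus φ H t) = 3 ^ n - 1 := by
  obtain ⟨hq, -, -⟩ := q_facts D
  rw [torus, Coprime.card_sup_of_disjoint (t_norm_map D), card_map_of_injective D.emb.inj,
    Nat.card_zpowers, D.emb.ht, mul_comm, D.split.H_card]
  refine disjoint_def.2 fun {g} h1 h2 => ?_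
  obtain ⟨x, -, rfl⟩ := h1
  obtain ⟨i, hi⟩ := h2
  rcases Int.even_or_odd i with ⟨j, rfl⟩ | ⟨j, rfl⟩
  · simp only at hi
    rw [← hi, ← two_mul, zpow_mul, zpow_two, mul_self_of_two D.emb.ht, one_zpow]
  · simp only at hi
    rw [zpow_add, zpow_mul, zpow_two, mul_self_of_two D.emb.ht, one_zpow, one_mul, zpow_one] at hi
    exact absurd hi.symm (D.emb.t_not x)

theorem torus_sq {g : G} (hg : g ∈ torus φ H t) (h1 : g ≠ 1) (ht : g ≠ t) :
    ∃ h ∈ H, h ≠ 1 ∧ g * g = φ h := by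
  obtain ⟨h, hh, he⟩ := (mem_torus D).1 hg
  refine ⟨h * h, mul_mem hh hh, fun e => ?_, ?_⟩
  · obtain ⟨s, -, hHc, -, -⟩ := D.exists_half
    have h' : h = 1 := by
      have hd : orderOf h ∣ 2 * s + 1 := hHc ▸ orderOf_dvd_natCard H hh
      have hp := orderOf_dvd_iff_pow_eq_one.1 hd
      rwa [pow_succ, pow_mul, pow_two, e, one_pow, one_mul] at hp
    rcases he with rfl | rfl
    · exact h1 (by rw [h', map_one])
    · exact ht (by rw [h', map_one, one_mul])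
  · rcases he with rfl | rfl
    · rw [map_mul]
    · rw [(D.emb.comm h).symm.mul_mul_mul_comm, mul_self_of_two D.emb.ht, mul_one, map_mul]

include hB

theorem R_inf : R ⊓ torus φ H t = ⊥ := by
  obtain ⟨a, ha⟩ := IsPGroup.iff_card.1 hB.pgroup
  refine (Subgroup.disjoint_of_coprime_natCard ?_).eq_bot
  rw [ha, card_torus D]
  exact Nat.Coprime.pow_left _ (Nat.prime_three.coprime_iff_not_dvd.2 (q_facts D).2.2)

theorem eq_one_of_RW {r h : G} (hr : r ∈ R) (hh : h ∈ torus φ H t) (e : r * h = 1) :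
    r = 1 ∧ h = 1 := by
  have h1 : r ∈ R ⊓ torus φ H t := mem_inf.2 ⟨hr, eq_inv_of_mul_eq_one_left e ▸ inv_mem hh⟩
  rw [R_inf D hB, mem_bot] at h1
  exact ⟨h1, by rwa [h1, one_mul] at e⟩

theorem mem_B {g : G} : g ∈ R ⊔ torus φ H t ↔ ∃ r ∈ R, ∃ h ∈ torus φ H t, r * h = g :=
  ⟨fun hg => by
    obtain ⟨a, ha, b, hb, e⟩ := (Coprime.mem_sup_of_le_normalizer hB.norm).1 hg
    exact ⟨a, ha, b, hb, e⟩,
  fun ⟨r, hr, h, hh, e⟩ => e ▸ mul_mem (mem_sup_left hr) (mem_sup_right hh)⟩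

theorem conj_R {h p : G} (hh : h ∈ torus φ H t) (hp : p ∈ R) : h⁻¹ * p * h ∈ R := by
  have := (mem_normalizer_iff.1 (hB.norm (inv_mem hh)) p).1 hp
  rwa [inv_inv] at this

/-- Uniqueness in the big cell. -/
theorem cell_unique {r h r' r₂ h₂ r₂' : G} (hr : r ∈ R) (hh : h ∈ torus φ H t) (hr' : r' ∈ R)
    (hr₂ : r₂ ∈ R) (hh₂ : h₂ ∈ torus φ H t) (hr₂' : r₂' ∈ R)
    (e : r * h * φ w * r' = r₂ * h₂ * φ w * r₂') : r = r₂ ∧ h = h₂ ∧ r' = r₂' := by
  set w' := φ w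
  have hw2 : w' * w' = 1 := hB.w_sq
  set p := h₂⁻¹ * (r₂⁻¹ * r) * h₂ with hp
  have hpR : p ∈ R := conj_R D hB hh₂ (mul_mem (inv_mem hr₂) hr)
  set k := h₂⁻¹ * h with hk
  have hkW : k ∈ torus φ H t := mul_mem (inv_mem hh₂) hh
  have hwi : w'⁻¹ = w' := inv_eq_of_mul_eq_one_right hw2
  have h1 : w' * p * k * w' = r₂' * r'⁻¹ := by
    rw [hp, hk]
    calc w' * (h₂⁻¹ * (r₂⁻¹ * r) * h₂) * (h₂⁻¹ * h) * w' =
        w'⁻¹ * h₂⁻¹ * r₂⁻¹ * (r * h * w' * r') * r'⁻¹ := by rw [hwi]; group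
      _ = w'⁻¹ * h₂⁻¹ * r₂⁻¹ * (r₂ * h₂ * w' * r₂') * r'⁻¹ := by rw [e]
      _ = r₂' * r'⁻¹ := by group
  have h2 : w' * p * w' = r₂' * r'⁻¹ * k := by
    have hk' : w' * k * w' = k⁻¹ := hB.w_inv k hkW
    calc w' * p * w' = (w' * p * k * w') * (w'⁻¹ * k⁻¹ * w') := by group
      _ = r₂' * r'⁻¹ * k := by
        rw [h1, hwi, hB.w_inv k⁻¹ (inv_mem hkW), inv_inv]
  have hp1 := hB.apart p hpR _ (mul_mem hr₂' (inv_mem hr')) k hkW h2
  rw [hp1, mul_one, hw2] at h2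
  obtain ⟨h3, h4⟩ := eq_one_of_RW D hB (mul_mem hr₂' (inv_mem hr')) hkW h2.symm
  refine ⟨?_, (inv_mul_eq_one.1 h4).symm, (mul_inv_eq_one.1 h3).symm⟩
  rw [hp] at hp1
  have h5 : r₂⁻¹ * r = 1 := by
    calc r₂⁻¹ * r = h₂ * (h₂⁻¹ * (r₂⁻¹ * r) * h₂) * h₂⁻¹ := by group
      _ = 1 := by rw [hp1, mul_one, mul_inv_cancel]
  exact (inv_mul_eq_one.1 h5).symm

theorem ti {g : G} (hg : g ∉ R ⊔ torus φ H t) {p : G} (hp : p ∈ R)
    (h : g⁻¹ * p * g ∈ R ⊔ torus φ H t) : p = 1 := by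
  rcases hB.split g with ⟨r, hr, k, hk, rfl⟩ | ⟨r, hr, k, hk, r', hr', rfl⟩
  · exact absurd (mul_mem (mem_sup_left hr) (mem_sup_right hk)) hg
  set w' := φ w
  have hwi : w'⁻¹ = w' := inv_eq_of_mul_eq_one_right hB.w_sq
  set p' := k⁻¹ * (r⁻¹ * p * r) * k with hp'
  have hp'R : p' ∈ R := conj_R D hB hk (mul_mem (mul_mem (inv_mem hr) hp) hr)
  have h1 : w' * p' * w' ∈ R ⊔ torus φ H t := by
    have := mul_mem (mul_mem (mem_sup_left (T := torus φ H t) hr') h)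
      (inv_mem (mem_sup_left (T := torus φ H t) hr'))
    rw [hp']
    convert this using 1
    rw [mul_inv_rev, mul_inv_rev, mul_inv_rev, hwi]
    group
  obtain ⟨a, ha, b, hb, hab⟩ := (mem_B D hB).1 h1
  have h2 := hB.apart p' hp'R a ha b hb hab.symm
  rw [hp'] at h2
  have h3 : r⁻¹ * p * r = 1 := by
    calc r⁻¹ * p * r = k * (k⁻¹ * (r⁻¹ * p * r) * k) * k⁻¹ := by group
      _ = 1 := by rw [h2, mul_one, mul_inv_cancel]
  calc p = r * (r⁻¹ * p * r) * r⁻¹ := by group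
    _ = 1 := by rw [h3, mul_one, mul_inv_cancel]

theorem cent_split {a g : G} (ha : a ∈ torus φ H t) (ha2 : a * a ≠ 1) (hc : Commute g a) :
    g ∈ R ⊔ torus φ H t := by
  rcases hB.split g with ⟨r, hr, k, hk, rfl⟩ | ⟨r, hr, k, hk, r', hr', rfl⟩
  · exact mul_mem (mem_sup_left hr) (mem_sup_right hk)
  exfalso
  set w' := φ w
  have hwi : w'⁻¹ = w' := inv_eq_of_mul_eq_one_right hB.w_sq
  have hwa : a * w' * a⁻¹ = a * a * w' := by
    have h := hB.w_inv a⁻¹ (inv_mem ha)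
    rw [inv_inv] at h
    calc a * w' * a⁻¹ = a * (w' * a⁻¹ * w') * w'⁻¹ := by group
      _ = a * a * w' := by rw [h, hwi]
  have e : r * k * w' * r' = (a * r * a⁻¹) * (k * (a * a)) * w' * (a * r' * a⁻¹) := by
    have hka : Commute a k := hB.comm a ha k hk
    calc r * k * w' * r' = a * (r * k * w' * r') * a⁻¹ := by rw [← hc.eq, mul_inv_cancel_right]
      _ = (a * r * a⁻¹) * (a * k * a⁻¹) * (a * w' * a⁻¹) * (a * r' * a⁻¹) := by group
      _ = (a * r * a⁻¹) * (k * (a * a)) * w' * (a * r' * a⁻¹) := by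
        rw [hka.eq, mul_inv_cancel_right, hwa]; group
  have hn := fun x (hx : x ∈ R) => (mem_normalizer_iff.1 (hB.norm ha) x).1 hx
  obtain ⟨-, h2, -⟩ := cell_unique D hB hr hk hr' (hn r hr) (mul_mem hk (mul_mem ha ha))
    (hn r' hr') e
  exact ha2 (mul_eq_left.1 h2.symm)

theorem card_R : Nat.card R = (3 ^ n) ^ 3 := by
  classical
  obtain ⟨hq, -, h3⟩ := q_facts D
  obtain ⟨a, ha⟩ := IsPGroup.iff_card.1 hB.pgroup
  have hdvd := R.card_subgroup_dvd_card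
  rw [ha] at hdvd
  have hle : a ≤ 3 * n := by
    rw [← D.factorization_card_G]
    exact (Nat.Prime.pow_dvd_iff_le_factorization Nat.prime_three Nat.card_pos.ne').1 hdvd
  let W' := torus φ H t
  have hsplit : ∀ g : G, ∃ x : Option R × R × W', g = (x.2.1 : G) * (x.2.2 : G) *
      (x.1.elim 1 fun r' => φ w * (r' : G)) := fun g => by
    rcases hB.split g with ⟨r, hr, k, hk, rfl⟩ | ⟨r, hr, k, hk, r', hr', rfl⟩
    · exact ⟨(none, ⟨r, hr⟩, ⟨k, hk⟩), (mul_one _).symm⟩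
    · exact ⟨(some ⟨r', hr'⟩, ⟨r, hr⟩, ⟨k, hk⟩), (mul_assoc _ _ _)⟩
  choose f hf using hsplit
  have hfi : Function.Injective f := fun g g' e => by rw [hf g, hf g', e]
  have hb := Nat.card_le_card_of_injective f hfi
  rw [Nat.card_prod, Nat.card_prod, Finite.card_option, ha, card_torus D, D.card_G] at hb
  rcases eq_or_lt_of_le hle with e | hlt
  · rw [ha, ← pow_mul, e, mul_comm]
  exfalso
  have h1 : 3 ^ a * 3 ≤ (3 ^ n) ^ 3 := by
    rw [← pow_mul, ← pow_succ]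
    exact Nat.pow_le_pow_right (by norm_num) (by omega)
  have h2 : (3 ^ n) ^ 3 * ((3 ^ n) ^ 3 + 1) ≤ (3 ^ a + 1) * 3 ^ a := by
    refine Nat.le_of_mul_le_mul_right (c := 3 ^ n - 1) ?_ (by omega)
    calc (3 ^ n) ^ 3 * ((3 ^ n) ^ 3 + 1) * (3 ^ n - 1) ≤ (3 ^ a + 1) * (3 ^ a * (3 ^ n - 1)) := hb
      _ = _ := by ring
  have := Nat.one_le_pow a 3 (by norm_num)
  nlinarith

theorem cent_H_R {h : X} (hh : h ∈ H) (h1 : h ≠ 1) {p : G} (hp : p ∈ R) (hc : Commute (φ h) p) :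
    p = 1 := by
  by_contra hne
  obtain ⟨a, ha⟩ := IsPGroup.iff_orderOf.1 hB.pgroup ⟨p, hp⟩
  have hd := orderOf_dvd_natCard (centralizer ({φ h} : Set G)) (x := p)
    (mem_centralizer_singleton_iff.2 hc.symm)
  rw [orderOf_mk] at ha
  rw [ha] at hd
  refine D.three_cent_H hh h1 ((dvd_pow_self 3 ?_).trans hd)
  rintro rfl
  exact hne (orderOf_eq_one_iff.1 (by rw [ha, pow_zero]))

theorem isCyclic_torus : IsCyclic (torus φ H t) := by
  haveI : IsMulCommutative (H.map φ) := ⟨⟨fun a b => Subtype.ext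
    (hB.comm _ (mem_sup_left a.2) _ (mem_sup_left b.2)).eq⟩⟩
  haveI hc : IsCyclic (H.map φ) := Coprime.fpf_isCyclic_of_abelian (K := R)
    (le_sup_left.trans hB.norm) (fun x hx hx1 => by
      obtain ⟨h, hh, rfl⟩ := hx
      refine (eq_bot_iff_forall _).2 fun p hp => ?_
      exact cent_H_R D hB hh (fun e => hx1 (by rw [e, map_one])) hp.1
        (mem_centralizer_singleton_iff.1 hp.2).symm) hB.ne_bot
  obtain ⟨a, ha⟩ := IsCyclic.exists_ofOrder_eq_natCard (α := H.map φ)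
  obtain ⟨h, hh, he⟩ := a.2
  rw [← Subgroup.orderOf_coe, card_map_of_injective D.emb.inj] at ha
  obtain ⟨s, hs, hH, -, -⟩ := D.exists_half
  rw [hH] at ha
  have hc' : Commute (a : G) t := he ▸ D.emb.comm h
  have ho : orderOf ((a : G) * t) = 3 ^ n - 1 := by
    rw [hc'.orderOf_mul_eq_mul_orderOf_of_coprime (by
      rw [ha, D.emb.ht]; exact Nat.coprime_two_right.2 ⟨s, rfl⟩), ha, D.emb.ht]
    omega
  refine isCyclic_of_orderOf_eq_card (⟨(a : G) * t,
    mul_mem (mem_sup_left a.2) (mem_sup_right (mem_zpowers t))⟩ : torus φ H t) ?_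
  rw [orderOf_mk, ho, card_torus D]

theorem card_U (hCt : Nat.card (centralizer ({t} : Set G)) = 3 ^ n * (3 ^ n * 3 ^ n - 1)) :
    Nat.card (R ⊓ centralizer ({t} : Set G) : Subgroup G) = 3 ^ n := by
  classical
  obtain ⟨hq, -, h3⟩ := q_facts D
  set U₀ := (R ⊓ centralizer ({t} : Set G) : Subgroup G)
  obtain ⟨a, ha⟩ := IsPGroup.iff_card.1 (hB.pgroup.to_le (inf_le_left : U₀ ≤ R))
  have hdvd : 3 ^ a ∣ 3 ^ n * (3 ^ n * 3 ^ n - 1) := by
    rw [← ha, ← hCt]; exact card_dvd_of_le inf_le_right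
  have h3' : ¬ 3 ∣ 3 ^ n * 3 ^ n - 1 := by
    have h : 3 ∣ 3 ^ n * 3 ^ n := dvd_mul_of_dvd_left (dvd_pow_self 3 (by have := D.one_lt; omega)) _
    have : 1 ≤ 3 ^ n * 3 ^ n := Nat.mul_pos (by omega) (by omega)
    omega
  have hup : 3 ^ a ≤ 3 ^ n := Nat.le_of_dvd (by omega)
    (((Nat.prime_three.coprime_iff_not_dvd.2 h3').pow_left a).dvd_of_dvd_mul_right hdvd)
  have hwt : Commute (φ w) t := D.emb.comm w
  have hcomm : ∀ k ∈ torus φ H t, Commute k t := fun k hk =>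
    hB.comm k hk t (mem_sup_right (mem_zpowers t))
  have hsplit : ∀ g : centralizer ({t} : Set G), ∃ x : Option U₀ × U₀ × torus φ H t,
      (g : G) = (x.2.1 : G) * (x.2.2 : G) * (x.1.elim 1 fun r' => φ w * (r' : G)) := fun g => by
    have hg : Commute (g : G) t := mem_centralizer_singleton_iff.1 g.2
    rcases hB.split g with ⟨r, hr, k, hk, e⟩ | ⟨r, hr, k, hk, r', hr', e⟩
    · have hrt : Commute r t := by
        have := hg.mul_left (hcomm k hk).inv_left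
        rwa [e, mul_inv_cancel_right] at this
      exact ⟨(none, ⟨r, hr, mem_centralizer_singleton_iff.2 hrt⟩, ⟨k, hk⟩), e.trans (mul_one _).symm⟩
    · have hn := fun x (hx : x ∈ R) =>
        (mem_normalizer_iff.1 (hB.norm (mem_sup_right (mem_zpowers t))) x).1 hx
      have e' : r * k * φ w * r' = (t * r * t⁻¹) * k * φ w * (t * r' * t⁻¹) := by
        calc r * k * φ w * r' = t * (r * k * φ w * r') * t⁻¹ := by
              rw [← e, ← hg.eq, mul_inv_cancel_right]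
          _ = (t * r * t⁻¹) * (t * k * t⁻¹) * (t * φ w * t⁻¹) * (t * r' * t⁻¹) := by group
          _ = _ := by
            rw [← (hcomm k hk).eq, mul_inv_cancel_right, ← hwt.eq, mul_inv_cancel_right]
      obtain ⟨h1, -, h2⟩ := cell_unique D hB hr hk hr' (hn r hr) hk (hn r' hr') e'
      refine ⟨(some ⟨r', hr', mem_centralizer_singleton_iff.2 (eq_mul_inv_iff_mul_eq.1 h2)⟩,
        ⟨r, hr, mem_centralizer_singleton_iff.2 (eq_mul_inv_iff_mul_eq.1 h1)⟩, ⟨k, hk⟩), ?_⟩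
      rw [e]
      exact mul_assoc _ _ _
  choose f hf using hsplit
  have hfi : Function.Injective f := fun g g' e => Subtype.ext (by rw [hf g, hf g', e])
  have hb := Nat.card_le_card_of_injective f hfi
  rw [Nat.card_prod, Nat.card_prod, Finite.card_option, ha, card_torus D, hCt] at hb
  rw [ha]
  refine le_antisymm hup ?_
  by_contra hlt
  push Not at hlt
  have hsq : 3 ^ n * 3 ^ n - 1 = (3 ^ n + 1) * (3 ^ n - 1) := Nat.mul_self_sub_mul_self_eq (3 ^ n) 1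
  rw [hsq, ← mul_assoc, ← mul_assoc] at hb
  have h2 := Nat.le_of_mul_le_mul_right hb (by omega)
  have h4 : (3 ^ a + 1) * 3 ^ a ≤ 3 ^ n * 3 ^ a := Nat.mul_le_mul_right _ hlt
  have h5 : 3 ^ n * 3 ^ a < 3 ^ n * (3 ^ n + 1) := Nat.mul_lt_mul_of_pos_left (by omega) (by omega)
  omega

end Cfsg.Agent.ReeSylowThree
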