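import Mathlib
import Cfsg.Agent.Lib.ReeSylowThree.Torus
import Cfsg.Agent.Lib.ReeSylowThree.Four
import Cfsg.Agent.Lib.ReeSylowThree.Main
import Cfsg.Agent.Lib.JT.Local
import Cfsg.Agent.Lib.Characters.Kernel

/-!
A simple group with the order and the involution centraliser of a small Ree group gives the setting.
-/

set_option autoImplicit false
set_option linter.style.haveILetI false
set_option linter.unusedSectionVars false

namespace Cfsg.Agent.ReeSylowThree

open Subgroup Cfsg.Agent.Walter.Field Cfsg.Agent.Characters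

universe u v

/-- The homomorphism on the group of order two given by an involution. -/
def invHom {G : Type u} [Group G] (x : G) (hx : x * x = 1) : Multiplicative (ZMod 2) →* G where
  toFun e := if e = 1 then 1 else x
  map_one' := if_pos rfl
  map_mul' a b := by
    rcases Walter.Ree.z2_cases a with rfl | rfl <;> rcases Walter.Ree.z2_cases b with rfl | rfl <;>
      simp +decide [hx]

variable {G : Type u} [Group G] [Fintype G] {X : Type v} [Group X] [Finite X]
  {t : G} {φ : X →* G} {n : ℕ} {U H : Subgroup X} {w : X} {R : Subgroup G}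
  (D : ReeData t φ n U H w)
include D

theorem eight_of_four {k u : X} (hk : orderOf k = 2) (hu : orderOf u = 2) (hc : Commute k u)
    (hne : u ≠ k) (χ : G → ℂ) (hχ : Cfsg.IsCharacter G χ) :
    ∃ m : ℤ, χ 1 + 7 * χ t = 8 * (m : ℂ) := by
  classical
  have hkk : k * k = 1 := mul_self_of_two hk
  have huu : u * u = 1 := mul_self_of_two hu
  have ht2 := mul_self_of_two D.emb.ht
  have hφk : φ k * φ k = 1 := by rw [← map_mul, hkk, map_one]
  have hφu : φ u * φ u = 1 := by rw [← map_mul, huu, map_one]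
  let Φ : Multiplicative (ZMod 2) × (Multiplicative (ZMod 2) × Multiplicative (ZMod 2)) →* G :=
    { toFun := fun x => invHom t ht2 x.1 * (invHom (φ k) hφk x.2.1 * invHom (φ u) hφu x.2.2)
      map_one' := by simp
      map_mul' := fun a b => by
        have c1 : ∀ e, Commute (invHom t ht2 e) (φ k) ∧ Commute (invHom t ht2 e) (φ u) := fun e => by
          show Commute (if e = 1 then 1 else t) _ ∧ Commute (if e = 1 then 1 else t) _
          split_ifs
          exacts [⟨Commute.one_left _, Commute.one_left _⟩,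
            ⟨(D.emb.comm k).symm, (D.emb.comm u).symm⟩]
        have cku : ∀ e f, Commute (invHom (φ k) hφk e) (invHom (φ u) hφu f) := fun e f => by
          show Commute (if e = 1 then 1 else φ k) (if f = 1 then 1 else φ u)
          split_ifs
          exacts [Commute.one_left _, Commute.one_left _, Commute.one_right _, hc.map φ]
        have ct : ∀ e f g, Commute (invHom t ht2 e) (invHom (φ k) hφk f * invHom (φ u) hφu g) :=
          fun e f g => by
            refine Commute.mul_right ?_ ?_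
            · show Commute _ (if f = 1 then 1 else φ k)
              split_ifs
              exacts [Commute.one_right _, (c1 e).1]
            · show Commute _ (if g = 1 then 1 else φ u)
              split_ifs
              exacts [Commute.one_right _, (c1 e).2]
        simp only [Prod.fst_mul, Prod.snd_mul, map_mul]
        rw [(cku _ _).mul_mul_mul_comm, (ct _ _ _).mul_mul_mul_comm] }
  have hconj : ∀ y : G, y * y = 1 → y ≠ 1 → χ y = χ t := fun y hy hy1 => by
    obtain ⟨c, hc'⟩ := isConj_iff.1 (D.emb.fused y (orderOf_eq_prime (by rw [pow_two, hy]) hy1))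
    rw [← hc', char_isClassFunction hχ t c]
  obtain ⟨m, hm⟩ := classInner_char_nat (Characters.isCharacter_comp Φ hχ) isCharacter_one
  refine ⟨m, ?_⟩
  have hval : ∀ x, x ≠ 1 → χ (Φ x) = χ t := by
    intro x hx
    refine hconj _ ?_ fun h => hx ?_
    · rw [← map_mul, show x * x = 1 from
        Prod.ext (Walter.Ree.z2_sq _) (Prod.ext (Walter.Ree.z2_sq _) (Walter.Ree.z2_sq _)), map_one]
    · have hk1 : k ≠ 1 := fun e => by rw [e, orderOf_one] at hk; omega
      have hu1 : u ≠ 1 := fun e => by rw [e, orderOf_one] at hu; omega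
      have hku : k * u ≠ 1 := fun e => hne (by
        calc u = k * k * u := by rw [hkk, one_mul]
          _ = k := by rw [mul_assoc, e, mul_one])
      have hφ1 : ∀ z, φ z = 1 → z = 1 := fun z e => D.emb.inj (e.trans (map_one φ).symm)
      have hφt : ∀ z, t * φ z ≠ 1 := fun z e => D.emb.t_not z⁻¹ (by
        rw [map_inv]; exact (eq_inv_of_mul_eq_one_left e).symm)
      obtain ⟨a, b, c⟩ := x
      have hab : ∀ e : Multiplicative (ZMod 2), e ≠ 1 → e = Multiplicative.ofAdd 1 := fun e he =>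
        (Walter.Ree.z2_cases e).resolve_left he
      rcases Walter.Ree.z2_cases a with rfl | rfl <;> rcases Walter.Ree.z2_cases b with rfl | rfl <;>
        rcases Walter.Ree.z2_cases c with rfl | rfl <;>
        simp +decide [Φ, invHom, ← map_mul, hφt] at h ⊢
      · exact hu1 (hφ1 u h)
      · exact hk1 (hφ1 k h)
      · exact hku (hφ1 _ h)
      · exact D.emb.t_not 1 (by rw [map_one, h])
  rw [classInner_def, ← Finset.add_sum_erase _ _ (Finset.mem_univ 1),
    Finset.sum_congr rfl (g := fun _ => χ t) fun x hx => by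
      rw [map_one, mul_one]; exact hval x (Finset.ne_of_mem_erase hx),
    Finset.sum_const, Finset.card_erase_of_mem (Finset.mem_univ _), Finset.card_univ] at hm
  simp only [Function.comp_apply, map_one, mul_one, Nat.card_prod, Nat.card_eq_fintype_card,
    Fintype.card_prod, Fintype.card_multiplicative, ZMod.card, nsmul_eq_mul] at hm
  push_cast at hm ⊢
  linear_combination 8 * hm

variable (hB : Walter.Field.Curtis.Bruhat R (torus φ H t) (φ w) n)
include hB

/-- Orders in the centraliser of an element without fixed point. -/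
theorem small_coprime {g : G} (hg : ∀ x : G, x⁻¹ * g * x ∉ R ⊔ torus φ H t) :
    (Nat.card (centralizer ({g} : Set G))).Coprime (3 * Nat.card H) := by
  obtain ⟨hq, -, -⟩ := q_facts D
  obtain ⟨s, hs, hH, h3, hs0⟩ := D.exists_half
  refine Nat.coprime_of_dvd' fun r hr hrC hrm => ?_
  exfalso
  haveI := Fact.mk hr
  obtain ⟨y, hy⟩ := exists_prime_orderOf_dvd_card' (G := centralizer ({g} : Set G)) r hrC
  have hyo : orderOf (y : G) = r := by rw [Subgroup.orderOf_coe, hy]
  have hyc : Commute (y : G) g := mem_centralizer_singleton_iff.1 y.2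
  have key : ∀ x : G, (∀ z, Commute z (x * y * x⁻¹) → z ∈ R ⊔ torus φ H t) → False :=
    fun x hx => hg x⁻¹ (by
      rw [inv_inv]
      exact hx _ (hyc.symm.map (MulAut.conj x).toMonoidHom))
  rcases hr.dvd_mul.1 hrm with h | h
  · obtain rfl := (Nat.prime_dvd_prime_iff_eq hr Nat.prime_three).1 h
    have hndvd : ¬ 3 ∣ ((3 ^ n) ^ 3 + 1) * (3 ^ n - 1) := fun hd => by
      have h3' : 3 ∣ (3 ^ n) ^ 3 := dvd_pow (dvd_pow_self 3 (by have := D.one_lt; omega)) (by norm_num)
      rcases (Nat.Prime.dvd_mul Nat.prime_three).1 hd with hd | hd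
      · exact absurd ((Nat.dvd_add_right h3').1 hd) (by norm_num)
      · exact (q_facts D).2.2 hd
    obtain ⟨x, hx⟩ := Walter.Ree.exists_conj_mem_of_part hr (A := R)
      (by rw [D.card_G, card_R D hB, mul_assoc]) hndvd (k := 1) (by rw [hyo, pow_one])
    refine key x fun z hz => by_contra fun hzB => ?_
    have h1 := ti D hB hzB hx (by
      rw [mul_assoc, ← hz.eq, inv_mul_cancel_left]
      exact mem_sup_left hx)
    have := Walter.Ree.orderOf_conj' x (y : G)
    rw [h1, orderOf_one, hyo] at this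
    omega
  · have hr2 : r ≠ 2 := by
      rintro rfl
      obtain ⟨c, hc⟩ := h
      omega
    have hrq : r ∣ 3 ^ n - 1 := h.trans ⟨2, by rw [← D.split.H_card, mul_comm]⟩
    have hndvd : ¬ r ∣ 2 * ((3 ^ n) ^ 3 * ((3 ^ n) ^ 3 + 1)) := fun hd => by
      have hr3 : r ≠ 3 := by
        rintro rfl
        exact (q_facts D).2.2 hrq
      rcases hr.dvd_mul.1 hd with hd | hd
      · exact hr2 ((Nat.prime_dvd_prime_iff_eq hr Nat.prime_two).1 hd)
      rcases hr.dvd_mul.1 hd with hd | hd
      · exact hr3 ((Nat.prime_dvd_prime_iff_eq hr Nat.prime_three).1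
          (hr.dvd_of_dvd_pow (hr.dvd_of_dvd_pow hd)))
      · refine hr2 ((Nat.prime_dvd_prime_iff_eq hr Nat.prime_two).1 ?_)
        have h1 : 3 ^ n ≡ 1 [MOD r] := ((Nat.modEq_iff_dvd' (by omega)).2 hrq).symm
        have h2 : (3 ^ n) ^ 3 + 1 ≡ 2 [MOD r] := (h1.pow 3).add_right 1
        exact Nat.modEq_zero_iff_dvd.1 (h2.symm.trans (Nat.modEq_zero_iff_dvd.2 hd))
    obtain ⟨x, hx⟩ := Walter.Ree.exists_conj_mem_of_part hr (A := H.map φ)
      (m := 2 * ((3 ^ n) ^ 3 * ((3 ^ n) ^ 3 + 1)))
      (by rw [D.card_G, card_map_of_injective D.emb.inj, ← D.split.H_card]; ring) hndvd (k := 1)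
      (by rw [hyo, pow_one])
    refine key x fun z hz => cent_split D hB (mem_sup_left hx) (fun h2 => ?_) hz
    have h3 := orderOf_dvd_of_pow_eq_one (show (x * (y : G) * x⁻¹) ^ 2 = 1 by rw [pow_two]; exact h2)
    rw [Walter.Ree.orderOf_conj', hyo] at h3
    exact hr2 ((Nat.prime_dvd_prime_iff_eq hr Nat.prime_two).1 h3)

theorem small_aux (h8X : ¬ 8 ∣ Nat.card X) (hexp : ∀ z : X, z ^ 4 = 1 → z * z = 1)
    (hfix : ∀ a b x : X, orderOf a = 2 → orderOf b = 2 → Commute a b → a ≠ b → Odd (orderOf x) →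
      Commute x a → Commute x b → x = 1)
    (hCt : Nat.card (centralizer ({t} : Set G)) = 3 ^ n * (3 ^ n * 3 ^ n - 1))
    {g : G} (hg1 : g ≠ 1) (hg : ∀ x : G, x⁻¹ * g * x ∉ R ⊔ torus φ H t) :
    Nat.card (centralizer ({g} : Set G)) < 3 ^ n * (3 ^ n - 2) ^ 2 := by
  classical
  obtain ⟨hq, hq8, -⟩ := q_facts D
  obtain ⟨s, hs, hH, -, -⟩ := D.exists_half
  set q := 3 ^ n with hqdef
  set N := q * (q - 1) + 1 with hN
  obtain ⟨a, ha⟩ : ∃ a, q + 1 = 4 * a := ⟨(q + 1) / 4, by omega⟩
  have ha2 : ¬ 2 ∣ a := by omega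
  have hN2 : ¬ 2 ∣ N := by
    rw [hN]
    have : 2 ∣ q * (q - 1) := dvd_mul_of_dvd_right (by omega) _
    omega
  have hG : Nat.card G = q ^ 3 * Nat.card H * (8 * (a * N)) := by
    rw [D.card_G, ← hqdef, hN, hH, show q ^ 3 + 1 = (q + 1) * (q * (q - 1) + 1) from
      Walter.Ree.cube_add_one q (by omega), ha, show q - 1 = 2 * (2 * s + 1) by omega]
    ring
  set C := centralizer ({g} : Set G) with hC
  have hcop : (Nat.card C).Coprime (q ^ 3 * Nat.card H) := by
    have h := small_coprime D hB hg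
    refine Nat.Coprime.mul_right ?_ h.coprime_mul_left_right
    exact (h.coprime_mul_right_right.pow_right n).pow_right 3
  have hCdvd : Nat.card C ∣ 8 * (a * N) :=
    hcop.dvd_of_dvd_mul_left (hG ▸ C.card_subgroup_dvd_card)
  have haN : 4 * (a * N) = q ^ 3 + 1 := by
    rw [← mul_assoc, ← ha]
    exact (Walter.Ree.cube_add_one q (by omega)).symm
  have hbig : 2 * (a * N) < q * (q - 2) ^ 2 := by
    obtain ⟨c, hc'⟩ : ∃ c, q = c + 2 := ⟨q - 2, by omega⟩
    rw [hc', Nat.add_sub_cancel]
    rw [hc'] at haN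
    have h1 : 25 ≤ c := by omega
    nlinarith
  haveI : Fact (Nat.Prime 2) := ⟨Nat.prime_two⟩
  -- an involution
  by_cases h2 : 2 ∣ Nat.card C
  swap
  · have h8 : (Nat.card C).Coprime 8 := by
      rw [show (8 : ℕ) = 2 ^ 3 by norm_num]
      exact ((Nat.prime_two.coprime_iff_not_dvd.2 h2).symm.pow_right 3)
    have hpos : 0 < a * N := Nat.mul_pos (by omega) (by omega)
    have := Nat.le_of_dvd hpos (h8.dvd_of_dvd_mul_left hCdvd)
    omega
  obtain ⟨i, hi⟩ := exists_prime_orderOf_dvd_card' (G := C) 2 h2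
  obtain ⟨x, hx⟩ := isConj_iff.1 (D.emb.fused (i : G) (by rw [Subgroup.orderOf_coe, hi]))
  -- move it to `t`
  set g' := x⁻¹ * g * x with hg'
  have hg'B : ∀ y : G, y⁻¹ * g' * y ∉ R ⊔ torus φ H t := fun y => by
    have := hg (x * y)
    rwa [show (x * y)⁻¹ * g * (x * y) = y⁻¹ * g' * y by rw [hg']; group] at this
  have hcard : Nat.card C = Nat.card (centralizer ({g'} : Set G)) := by
    refine Nat.card_congr (Equiv.subtypeEquiv (MulAut.conj x⁻¹).toEquiv fun z => ?_)
    show z ∈ C ↔ x⁻¹ * z * x⁻¹⁻¹ ∈ centralizer ({g'} : Set G)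
    rw [hC, mem_centralizer_singleton_iff, mem_centralizer_singleton_iff, hg', inv_inv]
    constructor <;> intro h
    · calc x⁻¹ * z * x * (x⁻¹ * g * x) = x⁻¹ * (z * g) * x := by group
        _ = x⁻¹ * (g * z) * x := by rw [h]
        _ = x⁻¹ * g * x * (x⁻¹ * z * x) := by group
    · calc z * g = x * (x⁻¹ * z * x * (x⁻¹ * g * x)) * x⁻¹ := by group
        _ = x * (x⁻¹ * g * x * (x⁻¹ * z * x)) * x⁻¹ := by rw [h]
        _ = g * z := by group
  have hgt : Commute g' t := by
    have hc' : Commute (i : G) g := mem_centralizer_singleton_iff.1 i.2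
    have h := hc'.symm.map (MulAut.conj x⁻¹).toMonoidHom
    simp only [MulEquiv.coe_toMonoidHom, MulAut.conj_apply, inv_inv] at h
    rwa [show x⁻¹ * (i : G) * x = t by rw [← hx]; group] at h
  have hg'1 : g' ≠ 1 := fun e => hg'B 1 (by rw [e]; simp)
  have hg'2 : g' * g' ≠ 1 := fun e => by
    obtain ⟨y, hy⟩ := isConj_iff.1 (D.emb.fused g' (orderOf_eq_prime (by rw [pow_two, e]) hg'1))
    refine hg'B y ?_
    rw [← hy, show y⁻¹ * (y * t * y⁻¹) * y = t by group]
    exact mem_sup_right (mem_sup_right (mem_zpowers t))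
  obtain ⟨y0, hy0⟩ := D.emb.split g' hgt
  have ht2 := mul_self_of_two D.emb.ht
  rw [hcard] at hCdvd ⊢
  set C' := centralizer ({g'} : Set G) with hC'
  have hcop' : (Nat.card C').Coprime (q ^ 3 * Nat.card H) := hcard ▸ hcop
  -- two-elements of `X`
  have hXtwo : ∀ z : X, ∀ j, z ^ 2 ^ j = 1 → z * z = 1 := fun z j hj => by
    obtain ⟨k, -, hk⟩ := (Nat.dvd_prime_pow Nat.prime_two).1 (orderOf_dvd_of_pow_eq_one hj)
    have hk2 : k ≤ 2 := by
      by_contra hlt
      push Not at hlt
      exact h8X ((pow_dvd_pow 2 hlt).trans (hk ▸ orderOf_dvd_natCard z))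
    refine hexp z (orderOf_dvd_iff_pow_eq_one.1 (hk ▸ ?_))
    exact (pow_dvd_pow 2 hk2).trans (by norm_num)
  have htC : t ∈ C' := mem_centralizer_singleton_iff.2 hgt.symm.eq
  obtain ⟨Q, hQ⟩ := (IsPGroup.of_card (n := 1) (G := zpowers (⟨t, htC⟩ : C')) (by
    rw [Nat.card_zpowers, orderOf_mk, D.emb.ht, pow_one])).exists_le_sylow
  have htQ : (⟨t, htC⟩ : C') ∈ (Q : Subgroup C') := hQ (mem_zpowers _)
  have hQcomm : ∀ v : C', v ∈ (Q : Subgroup C') → ∀ v' : C', v' ∈ (Q : Subgroup C') →
      Commute (v : G) (v' : G) := fun v hv v' hv' =>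
    D.emb.two _ (Q.2.map C'.subtype) _ ⟨v, hv, rfl⟩ _ ⟨v', hv', rfl⟩
  have hQelem : ∀ v : C', v ∈ (Q : Subgroup C') → ∃ z : X, ((v : G) = φ z ∨ (v : G) = φ z * t) ∧
      z * z = 1 := by
    intro v hv
    obtain ⟨z, hz⟩ := D.emb.split v (hQcomm v hv _ htQ)
    obtain ⟨j, hj⟩ := Q.2 ⟨v, hv⟩
    have hj' : (v : G) ^ 2 ^ j = 1 := congrArg (fun w : (Q : Subgroup C') => ((w : C') : G)) hj
    refine ⟨z, hz, hXtwo z (j + 1) (D.emb.inj ?_)⟩
    have h' : (v : G) ^ 2 ^ (j + 1) = 1 := by rw [pow_succ, pow_mul, hj', one_pow]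
    rw [map_pow, map_one]
    rcases hz with e | e
    · rwa [← e]
    · rw [show φ z = (v : G) * t by rw [e, mul_assoc, ht2, mul_one],
        (show Commute (v : G) t from hQcomm v hv _ htQ).mul_pow, h', one_mul, pow_succ', pow_mul,
        pow_two, ht2, one_pow]
  have hQsq : ∀ v : C', v ∈ (Q : Subgroup C') → (v : G) * v = 1 := fun v hv => by
    obtain ⟨z, hz, hzz⟩ := hQelem v hv
    rcases hz with e | e
    · rw [e, ← map_mul, hzz, map_one]
    · rw [e, (D.emb.comm z).symm.mul_mul_mul_comm, ← map_mul, hzz, map_one, one_mul, ht2]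
  -- no subgroup of order eight
  have h8 : ¬ 8 ∣ Nat.card C' := by
    intro h8
    set M := ((Q : Subgroup C').map C'.subtype).comap φ with hMdef
    have hmemM : ∀ z : X, z ∈ M → ∃ v : C', v ∈ (Q : Subgroup C') ∧ (v : G) = φ z :=
      fun z hz => by
        obtain ⟨v, hv, e⟩ := mem_map.1 (mem_comap.1 hz)
        exact ⟨v, hv, e⟩
    have hsplit : ∀ v : (Q : Subgroup C'), ∃ p : M × Bool,
        ((v : C') : G) = φ p.1 * (if p.2 then t else 1) := fun v => by
      obtain ⟨z, hz, -⟩ := hQelem v v.2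
      rcases hz with e | e
      · refine ⟨(⟨z, ?_⟩, false), by simpa using e⟩
        exact mem_comap.2 ⟨v, v.2, e⟩
      · refine ⟨(⟨z, ?_⟩, true), by simpa using e⟩
        refine mem_comap.2 ⟨v.1 * ⟨t, htC⟩, mul_mem v.2 htQ, ?_⟩
        show ((v : C') : G) * t = φ z
        rw [e, mul_assoc, ht2, mul_one]
    choose f hf using hsplit
    have hfi : Function.Injective f := fun v v' e => by
      refine Subtype.ext (Subtype.ext ?_)
      rw [hf v, hf v', e]
    have h4 : 4 ≤ Nat.card M := by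
      have h1 := Nat.card_le_card_of_injective f hfi
      rw [Nat.card_prod, Nat.card_eq_fintype_card (α := Bool), Fintype.card_bool] at h1
      have h2' : 8 ≤ Nat.card (Q : Subgroup C') :=
        Nat.le_of_dvd Nat.card_pos (Q.pow_dvd_card_of_pow_dvd_card (n := 3) (by simpa using h8))
      omega
    letI := Fintype.ofFinite M
    obtain ⟨A, hA, hA1⟩ : ∃ A ∈ (Finset.univ : Finset M), A ≠ 1 :=
      Finset.exists_mem_ne (by rw [Finset.card_univ, ← Nat.card_eq_fintype_card]; omega) 1
    obtain ⟨B, -, hB1, hBA⟩ : ∃ B ∈ (Finset.univ : Finset M), B ≠ 1 ∧ B ≠ A := by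
      by_contra hall
      push Not at hall
      have hsub : (Finset.univ : Finset M) ⊆ {1, A} := fun z hz => by
        by_cases hz1 : z = 1
        · simp [hz1]
        · simp [hall z hz hz1]
      have := Finset.card_le_card hsub
      rw [Finset.card_univ, ← Nat.card_eq_fintype_card] at this
      have := Finset.card_le_two (a := (1 : M)) (b := A)
      omega
    have hord : ∀ z : M, z ≠ 1 → orderOf (z : X) = 2 := fun z hz => by
      obtain ⟨v, hv, e⟩ := hmemM z z.2
      refine orderOf_eq_prime ?_ fun e' => hz (Subtype.ext e')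
      refine D.emb.inj ?_
      rw [pow_two, map_mul, ← e, hQsq v hv, map_one]
    have hcomm : ∀ z : M, Commute y0 (z : X) := fun z => by
      obtain ⟨v, hv, e⟩ := hmemM z z.2
      have hvg : Commute (v : G) g' := mem_centralizer_singleton_iff.1 v.2
      refine D.emb.inj ?_
      rw [map_mul, map_mul]
      rcases hy0 with e' | e'
      · rw [← e, ← e']; exact hvg.symm.eq
      · rw [← e, show φ y0 = g' * t by rw [e', mul_assoc, ht2, mul_one]]
        exact (hvg.symm.mul_left (hQcomm v hv _ htQ).symm).eq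
    have hAB : Commute (A : X) (B : X) := by
      obtain ⟨v, hv, e⟩ := hmemM A A.2
      obtain ⟨v', hv', e'⟩ := hmemM B B.2
      refine D.emb.inj ?_
      rw [map_mul, map_mul, ← e, ← e']
      exact hQcomm v hv v' hv'
    obtain ⟨j, m, hm, he⟩ := SEAbelian.exists_parts y0
    have h1 : y0 ^ 2 ^ j = 1 := hfix A B _ (hord A hA1) (hord B hB1) hAB
      (fun e => hBA (Subtype.ext e.symm)) (SEAbelian.odd_orderOf_of_pow hm (by rw [← pow_mul, he]))
      ((hcomm A).pow_left _) ((hcomm B).pow_left _)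
    have h2' := hXtwo y0 j h1
    refine hg'2 ?_
    rcases hy0 with e | e
    · rw [e, ← map_mul, h2', map_one]
    · rw [e, (D.emb.comm y0).symm.mul_mul_mul_comm, ← map_mul, h2', map_one, one_mul, ht2]
  by_cases h4 : 4 ∣ Nat.card C'
  swap
  · -- twice an odd number
    obtain ⟨c, hc⟩ : 2 ∣ Nat.card C' := hcard ▸ h2
    have hc2 : ¬ 2 ∣ c := fun hd => h4 (by
      rw [hc]; exact Nat.mul_dvd_mul_left 2 hd)
    rw [hc] at hCdvd ⊢
    have h' : c ∣ a * N := by
      have hd : c ∣ 8 * (a * N) := (dvd_mul_left c 2).trans hCdvd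
      refine Nat.Coprime.dvd_of_dvd_mul_left ?_ hd
      rw [show (8 : ℕ) = 2 ^ 3 by norm_num]
      exact ((Nat.prime_two.coprime_iff_not_dvd.2 hc2).symm.pow_right 3)
    have := Nat.le_of_dvd (Nat.mul_pos (by omega) (by omega)) h'
    omega
  -- a four-group
  have hQ4 : Nat.card (Q : Subgroup C') = 4 := by
    obtain ⟨e, he⟩ := Q.2.exists_card_eq
    have h1 := Q.pow_dvd_card_of_pow_dvd_card (n := 2) (by simpa using h4)
    rw [he] at h1 ⊢
    have h1' := (Nat.pow_dvd_pow_iff_le_right (by norm_num : 1 < 2)).1 h1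
    have h2' : e ≤ 2 := by
      by_contra hlt
      push Not at hlt
      exact h8 ((pow_dvd_pow 2 hlt).trans (he ▸ card_subgroup_dvd_card _))
    rw [show e = 2 by omega]
    norm_num
  have hnorm : normalizer ((Q : Subgroup C') : Set C') ≤ centralizer ((Q : Subgroup C') : Set C') := by
    refine SEAbelian.normalizer_le_centralizer_of_odd (SEAbelian.AbTwo.subgroup D.emb.two C') Q
      fun y hy ho v hv => ?_
    by_cases hv1 : v = 1
    · rw [hv1]; exact Commute.one_right y
    let T := {z : C' // z ∈ (Q : Subgroup C') ∧ z ≠ 1}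
    have hstep : ∀ z : T, y * z.1 * y⁻¹ ∈ (Q : Subgroup C') ∧ y * z.1 * y⁻¹ ≠ 1 := fun z =>
      ⟨(mem_normalizer_iff.1 hy z.1).1 z.2.1, fun e => z.2.2 (conj_eq_one_iff.1 e)⟩
    have hstep' : ∀ z : T, y⁻¹ * z.1 * y ∈ (Q : Subgroup C') ∧ y⁻¹ * z.1 * y ≠ 1 := fun z => by
      refine ⟨?_, fun e => z.2.2 ?_⟩
      · have := (mem_normalizer_iff.1 (inv_mem hy) z.1).1 z.2.1
        rwa [inv_inv] at this
      · calc z.1 = y * (y⁻¹ * z.1 * y) * y⁻¹ := by group
          _ = 1 := by rw [e, mul_one, mul_inv_cancel]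
    let σ : Equiv.Perm T :=
      { toFun := fun z => ⟨y * z.1 * y⁻¹, hstep z⟩
        invFun := fun z => ⟨y⁻¹ * z.1 * y, hstep' z⟩
        left_inv := fun z => Subtype.ext (by show y⁻¹ * (y * z.1 * y⁻¹) * y = z.1; group)
        right_inv := fun z => Subtype.ext (by show y * (y⁻¹ * z.1 * y) * y⁻¹ = z.1; group) }
    have hσ : ∀ (k : ℕ) (z : T), ((σ ^ k) z).1 = y ^ k * z.1 * (y ^ k)⁻¹ := by
      intro k z
      induction k with
      | zero => simp
      | succ k ih =>
        rw [pow_succ', Equiv.Perm.mul_apply]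
        show y * ((σ ^ k) z).1 * y⁻¹ = _
        rw [ih, pow_succ']
        group
    letI := Fintype.ofFinite T
    have hcardT : Fintype.card T = 3 := by
      have h1 : Fintype.card (Q : Subgroup C') = 4 := by rw [← Nat.card_eq_fintype_card, hQ4]
      have h2' : Fintype.card {z : (Q : Subgroup C') // z ≠ 1} = 3 := by
        rw [Fintype.card_subtype_compl, Fintype.card_subtype_eq, h1]
      rw [← h2']
      exact Fintype.card_congr
        { toFun := fun z => ⟨⟨z.1, z.2.1⟩, fun e => z.2.2 (congrArg Subtype.val e)⟩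
          invFun := fun z => ⟨z.1.1, z.1.2, fun e => z.2 (Subtype.ext e)⟩
          left_inv := fun _ => rfl
          right_inv := fun _ => rfl }
    have h6 : orderOf σ ∣ 6 := by
      have h := orderOf_dvd_card (x := σ)
      rwa [Fintype.card_perm, hcardT] at h
    have hy' : orderOf σ ∣ orderOf y := orderOf_dvd_of_pow_eq_one (Equiv.ext fun z => Subtype.ext (by
      rw [hσ, pow_orderOf_eq_one]; simp))
    have h3 : ¬ 3 ∣ orderOf y := fun hd => by
      have hd' : 3 ∣ Nat.card C' := hd.trans (orderOf_dvd_natCard y)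
      have hq3 : 3 ∣ q ^ 3 * Nat.card H :=
        dvd_mul_of_dvd_left (dvd_pow (dvd_pow_self 3 (by have := D.one_lt; omega)) (by norm_num)) _
      exact (by norm_num : ¬ 3 ∣ 1) (hcop' ▸ Nat.dvd_gcd hd' hq3)
    have hσ1 : σ = 1 := orderOf_eq_one_iff.1 (Nat.eq_one_of_dvd_coprimes
      (show (orderOf y).Coprime (2 * 3) from Nat.Coprime.mul_right (Nat.coprime_two_right.2 ho)
        (Nat.prime_three.coprime_iff_not_dvd.2 h3).symm) hy' h6)
    have h := congrArg (fun τ : Equiv.Perm T => (τ ⟨v, hv, hv1⟩).1) hσ1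
    exact mul_inv_eq_iff_eq_mul.1 h
  obtain ⟨P, O, hOn, hO⟩ :=
    Transfer.NormalPComplement.hasNormalPComplement_of_normalizer_le_centralizer Q hnorm
  have hPO : Nat.card O * 4 = Nat.card C' := by
    rw [← hQ4, Sylow.card_eq_multiplicity Q, ← Sylow.card_eq_multiplicity P]
    exact hO.card_mul
  have hOodd : Odd (Nat.card O) := by
    rw [Nat.odd_iff, ← Nat.two_dvd_ne_zero]
    intro hd
    exact h8 (by rw [← hPO]; exact Nat.mul_dvd_mul_right hd 4)
  -- a second involution
  obtain ⟨b, hbQ, hb1, hbt⟩ : ∃ b : C', b ∈ (Q : Subgroup C') ∧ b ≠ 1 ∧ b ≠ ⟨t, htC⟩ := by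
    by_contra hall
    push Not at hall
    letI := Fintype.ofFinite (Q : Subgroup C')
    have hsub : (Finset.univ : Finset (Q : Subgroup C')) ⊆ {1, ⟨⟨t, htC⟩, htQ⟩} := fun z _ => by
      by_cases hz : (z : C') = 1
      · simp [show z = 1 from Subtype.ext hz]
      · simp [show z = ⟨⟨t, htC⟩, htQ⟩ from Subtype.ext (hall z z.2 hz)]
    have := (Finset.card_le_card hsub).trans Finset.card_le_two
    rw [Finset.card_univ, ← Nat.card_eq_fintype_card, hQ4] at this
    omega
  set O' := O.map C'.subtype with hO'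
  have hnO : ∀ v : C', ∀ z ∈ O', (v : G) * z * (v : G)⁻¹ ∈ O' := fun v z hz => by
    obtain ⟨w', hw', rfl⟩ := hz
    exact ⟨v * w' * v⁻¹, hOn.conj_mem w' hw' v, rfl⟩
  have hO'c : Nat.card O' = Nat.card O := card_subtype _ _
  have hb2 : (b : G) * b = 1 := hQsq b hbQ
  have hbtc : Commute t (b : G) := hQcomm _ htQ b hbQ
  have hle := card_le_four (O := O') (hO'c ▸ hOodd) ht2 hb2 hbtc
    (fun z hz => hnO ⟨t, htC⟩ z hz) (fun z hz => hnO b z hz)
  have hpiece : ∀ v : G, orderOf v = 2 →
      Nat.card (O' ⊓ centralizer ({v} : Set G) : Subgroup G) ≤ a := by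
    intro v hv
    obtain ⟨c, hc⟩ := isConj_iff.1 (D.emb.fused v hv)
    have hcv : Nat.card (centralizer ({v} : Set G)) = Nat.card (centralizer ({t} : Set G)) := by
      symm
      refine Nat.card_congr (Equiv.subtypeEquiv (MulAut.conj c).toEquiv fun z => ?_)
      show z ∈ centralizer ({t} : Set G) ↔ c * z * c⁻¹ ∈ centralizer ({v} : Set G)
      rw [mem_centralizer_singleton_iff, mem_centralizer_singleton_iff, ← hc]
      constructor <;> intro h
      · calc c * z * c⁻¹ * (c * t * c⁻¹) = c * (z * t) * c⁻¹ := by group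
          _ = c * (t * z) * c⁻¹ := by rw [h]
          _ = c * t * c⁻¹ * (c * z * c⁻¹) := by group
      · calc z * t = c⁻¹ * (c * z * c⁻¹ * (c * t * c⁻¹)) * c := by group
          _ = c⁻¹ * (c * t * c⁻¹ * (c * z * c⁻¹)) * c := by rw [h]
          _ = t * z := by group
    set S := (O' ⊓ centralizer ({v} : Set G) : Subgroup G)
    have h1 : Nat.card S ∣ q * Nat.card H * (8 * a) := by
      refine (card_dvd_of_le (inf_le_right : S ≤ centralizer ({v} : Set G))).trans (dvd_of_eq ?_)
      rw [hcv, hCt, hH, Nat.mul_self_sub_mul_self_eq q 1, ha, show q - 1 = 2 * (2 * s + 1) by omega]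
      ring
    have hSO : Nat.card S ∣ Nat.card O' := card_dvd_of_le inf_le_left
    have hSC : Nat.card S ∣ Nat.card C' := hSO.trans (card_dvd_of_le (map_subtype_le _))
    have hq13 : q ∣ q ^ 3 := dvd_pow_self q (by norm_num)
    have hc1 : (Nat.card S).Coprime (q * Nat.card H) :=
      (hcop'.coprime_dvd_left hSC).coprime_dvd_right (mul_dvd_mul hq13 dvd_rfl)
    have hc2 : (Nat.card S).Coprime 8 := by
      rw [show (8 : ℕ) = 2 ^ 3 by norm_num]
      exact (Nat.coprime_two_right.2 ((hO'c ▸ hOodd).of_dvd_nat hSO)).pow_right 3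
    exact Nat.le_of_dvd (by omega) (hc2.dvd_of_dvd_mul_left (hc1.dvd_of_dvd_mul_left h1))
  have hb' : orderOf (b : G) = 2 :=
    orderOf_eq_prime (by rw [pow_two, hb2]) fun e => hb1 (Subtype.ext e)
  have htb' : orderOf (t * (b : G)) = 2 := by
    refine orderOf_eq_prime (by rw [pow_two, hbtc.symm.mul_mul_mul_comm, ht2, hb2, one_mul]) fun e => ?_
    refine hbt (Subtype.ext ?_)
    show (b : G) = t
    calc (b : G) = t * t * b := by rw [ht2, one_mul]
      _ = t := by rw [mul_assoc, e, mul_one]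
  have h3 := Nat.mul_le_mul (hpiece t D.emb.ht)
    (Nat.mul_le_mul (hpiece _ hb') (hpiece _ htb'))
  rw [← hPO, ← hO'c]
  calc Nat.card O' * 4 ≤ a * (a * a) * 4 := Nat.mul_le_mul_right 4 (hle.trans h3)
    _ < q * (q - 2) ^ 2 := by
      have hqa : q - 2 = 4 * a - 3 := by omega
      obtain ⟨c, rfl⟩ : ∃ c, a = c + 1 := ⟨a - 1, by omega⟩
      rw [hqa, show q = 4 * c + 3 by omega, show 4 * (c + 1) - 3 = 4 * c + 1 by omega]
      nlinarith

/-- The setting. -/
theorem setting_of_data (h8X : ¬ 8 ∣ Nat.card X) (hexp : ∀ z : X, z ^ 4 = 1 → z * z = 1)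
    (hfix : ∀ a b x : X, orderOf a = 2 → orderOf b = 2 → Commute a b → a ≠ b → Odd (orderOf x) →
      Commute x a → Commute x b → x = 1)
    {k u : X} (hk : orderOf k = 2) (hu : orderOf u = 2) (hc : Commute k u) (hne : u ≠ k)
    (hCt : Nat.card (centralizer ({t} : Set G)) = 3 ^ n * (3 ^ n * 3 ^ n - 1)) :
    Nonempty (Setting G (3 ^ n)) :=
  ⟨{  P := R
      W := torus φ H t
      t := t
      q_pow := ⟨n, D.odd_n, by
        obtain ⟨m, hm⟩ := D.odd_n
        have := D.one_lt
        omega, rfl⟩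
      cardG := D.card_G
      cardP := card_R D hB
      cardW := card_torus D
      cyclicW := isCyclic_torus D hB
      t_two := D.emb.ht
      t_mem := mem_sup_right (mem_zpowers t)
      W_norm := hB.norm
      cardU := card_U D hB hCt
      cardT := hCt.le
      fpf := fun x hx h1 ht p hp hxp => by
        obtain ⟨h, hh, hh1, he⟩ := torus_sq D hx h1 ht
        exact cent_H_R D hB hh hh1 hp (he ▸ hxp.mul_left hxp)
      ti := fun g hg p hp h => ti D hB hg hp h
      small := fun g hg1 hg => small_aux D hB h8X hexp hfix hCt hg1 hg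
      eight := fun χ hχ => eight_of_four D hk hu hc hne χ hχ }⟩

end Cfsg.Agent.ReeSylowThree
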