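import Mathlib
import Cfsg.Agent.Lib.ReeSylowThree.Instance
import Cfsg.Agent.Lib.EqConjOdd.PSLLocal

/-!
A simple group with the order and involution centraliser of a small Ree group has elements of order
nine, one of them commuting with an element of order three outside its cyclic group.
-/

set_option autoImplicit false
set_option linter.style.haveILetI false
set_option linter.unusedSectionVars false

namespace Cfsg.Agent.ReeSylowThree

open Subgroup

universe u v

/-- Without subgroups of order eight and with a four-group there are no elements of order four. -/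
theorem sq_of_pow_four {X : Type v} [Group X] [Finite X] (h8 : ¬ 8 ∣ Nat.card X) {k u : X}
    (hk : orderOf k = 2) (hu : orderOf u = 2) (hc : Commute k u) (hne : u ≠ k) {z : X}
    (hz : z ^ 4 = 1) : z * z = 1 := by
  classical
  haveI : Fact (Nat.Prime 2) := ⟨Nat.prime_two⟩
  by_contra hzz
  have ho : orderOf z = 4 := by
    have h := orderOf_eq_prime_pow (p := 2) (n := 1) (by simpa [pow_two] using hzz)
      (by simpa using hz)
    simpa using h
  have hzp : IsPGroup 2 (zpowers z) := IsPGroup.of_card (n := 2) (by rw [Nat.card_zpowers, ho]; norm_num)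
  have hkup : IsPGroup 2 (zpowers k ⊔ zpowers u : Subgroup X) :=
    (IsPGroup.of_card (G := zpowers k) (n := 1) (by rw [Nat.card_zpowers, hk, pow_one])).to_sup_of_normal_left'
      (IsPGroup.of_card (G := zpowers u) (n := 1) (by rw [Nat.card_zpowers, hu, pow_one]))
      (zpowers_le.2 (centralizer_le_normalizer _ (mem_centralizer_iff.2 fun w hw => by
        obtain ⟨i, rfl⟩ := mem_zpowers_iff.1 hw
        exact (hc.zpow_left i).eq)))
  obtain ⟨S, hS⟩ := hzp.exists_le_sylow
  obtain ⟨S', hS'⟩ := hkup.exists_le_sylow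
  have hSc : (S : Subgroup X) = zpowers z := by
    refine (eq_of_le_of_card_ge hS ?_).symm
    obtain ⟨e, he⟩ := S.2.exists_card_eq
    rw [he, Nat.card_zpowers, ho]
    have : e ≤ 2 := by
      by_contra hlt
      push Not at hlt
      exact h8 ((pow_dvd_pow 2 hlt).trans (he ▸ card_subgroup_dvd_card _))
    calc 2 ^ e ≤ 2 ^ 2 := Nat.pow_le_pow_right (by norm_num) this
      _ = 4 := by norm_num
  obtain ⟨g, hg⟩ := MulAction.exists_smul_eq X S' S
  have hmem : ∀ y ∈ zpowers k ⊔ zpowers u, orderOf y = 2 → g * y * g⁻¹ = z ^ 2 := by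
    intro y hy h2
    have h1 : g * y * g⁻¹ ∈ zpowers z := by
      rw [← hSc, ← hg]
      exact ⟨y, hS' hy, rfl⟩
    obtain ⟨i, hi, hie⟩ := Finset.mem_image.1 (mem_zpowers_iff_mem_range_orderOf.1 h1)
    rw [ho, Finset.mem_range] at hi
    have hoy : orderOf (z ^ i) = 2 := by rw [hie, ← MulAut.conj_apply, MulEquiv.orderOf_eq, h2]
    rcases (show i = 0 ∨ i = 1 ∨ i = 2 ∨ i = 3 by omega) with rfl | rfl | rfl | rfl
    · simp at hoy
    · rw [pow_one, ho] at hoy; omega
    · exact hie.symm
    · rw [orderOf_pow' _ (by norm_num), ho] at hoy; norm_num at hoy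
  have h := (hmem u (mem_sup_right (mem_zpowers u)) hu).trans
    (hmem k (mem_sup_left (mem_zpowers k)) hk).symm
  exact hne (mul_left_cancel (mul_right_cancel h))

variable {G : Type u} [Group G] [Finite G] [IsSimpleGroup G]
  {F : Type v} [Field F] [Fintype F]

theorem ree_exists_setting [Fintype G] (hab : ∀ P : Sylow 2 G, ∀ a b : P, a * b = b * a) {m : ℕ}
    (hm : 1 ≤ m) (hF : Fintype.card F = 3 ^ (2 * m + 1)) (t : G) (ht : orderOf t = 2)
    (hC : Nonempty (Subgroup.centralizer ({t} : Set G) ≃*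
      Multiplicative (ZMod 2) × Matrix.ProjectiveSpecialLinearGroup (Fin 2) F))
    (hG : Nat.card G = (3 ^ (2 * m + 1)) ^ 3 * ((3 ^ (2 * m + 1)) ^ 3 + 1) * (3 ^ (2 * m + 1) - 1)) :
    Nonempty (Setting G (3 ^ (2 * m + 1))) := by
  classical
  haveI := Fintype.ofFinite (Matrix.ProjectiveSpecialLinearGroup (Fin 2) F)
  obtain ⟨e⟩ := hC
  set n := 2 * m + 1 with hn
  have hodd : Odd n := ⟨m, hn⟩
  have h8 : 3 ^ n % 8 = 3 := by
    rw [hn, pow_succ, pow_mul, Nat.mul_mod, Nat.pow_mod]; norm_num
  have h27 : 27 ≤ 3 ^ n :=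
    le_trans (by norm_num) (Nat.pow_le_pow_right (by norm_num) (show 3 ≤ n by omega))
  haveI : Fact (Nat.Prime 3) := ⟨Nat.prime_three⟩
  haveI : CharP F 3 := by
    obtain ⟨p, hp⟩ := CharP.exists F
    obtain ⟨f, hpp, hf⟩ := FiniteField.card F p
    rw [hF] at hf
    have hd : 3 ∣ p ^ (f : ℕ) := hf ▸ dvd_pow_self 3 (by omega)
    rwa [(Nat.prime_dvd_prime_iff_eq Nat.prime_three hpp).1 (Nat.prime_three.dvd_of_dvd_pow hd)]
  have hoddF : Odd (Fintype.card F) := Nat.odd_iff.2 (by omega)
  have h3F : 3 < Fintype.card F := by omega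
  obtain ⟨-, hL, -⟩ := JT.Setup.local_facts hab hoddF h3F ⟨t, ht, e⟩
  have hLF := EqConjOdd.exists_lfacts (F := F) hF (by omega) h3F
  rw [hF] at hLF
  have h8X := EqConjOdd.not_eight_dvd (q := 3 ^ n) (N := Nat.card (Matrix.ProjectiveSpecialLinearGroup (Fin 2) F))
    (Or.inl h8) hLF.card
  obtain ⟨r, hK, hr⟩ := JT.Loc.exists_kfacts hoddF h3F
    fun P a ha b hb => EqConjOdd.comm_of_card_four h8X P a ha b hb
  have hr4 : 4 * r = 3 ^ n + 1 := by
    rcases hr with ⟨h', -⟩ | ⟨-, h'⟩
    · omega
    · omega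
  obtain ⟨U, H, w, hsp⟩ := Walter.Field.exists_split hodd hLF hK hr4
  set S : JT.Setup G (Matrix.ProjectiveSpecialLinearGroup (Fin 2) F) := ⟨t, ht, e⟩ with hS
  have hcomm : ∀ x, Commute (S.emb x) t := fun x => mem_centralizer_singleton_iff.1 (e.symm x).2
  have hinj : Function.Injective S.emb := fun a b h => e.symm.injective (Subtype.ext h)
  have hemb : Walter.Field.Emb t S.embK :=
    { two := fun P hP a ha b hb => by
        obtain ⟨Q, hQ⟩ := hP.exists_le_sylow
        exact congrArg Subtype.val (hab Q ⟨a, hQ ha⟩ ⟨b, hQ hb⟩)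
      ht := ht
      inj := fun a b h => congrArg Prod.snd (hinj h)
      comm := fun x => hcomm _
      split := fun g hg => by
        obtain ⟨⟨a, x⟩, hx⟩ := e.symm.surjective ⟨g, mem_centralizer_singleton_iff.2 hg.eq⟩
        have hg' : g = S.emb (a, x) := (congrArg Subtype.val hx).symm
        refine ⟨x, ?_⟩
        rcases Walter.Ree.z2_cases a with rfl | rfl
        · exact Or.inl hg'
        · refine Or.inr (hg'.trans ?_)
          rw [show t = S.emb (Multiplicative.ofAdd 1, 1) from hL.emb_t.symm]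
          show _ = S.emb (1, x) * S.emb _
          rw [← map_mul]
          simp
      t_not := fun x hx => by
        have h := hinj (show S.emb (1, x) = S.emb (Multiplicative.ofAdd 1, 1) from hx.trans hL.emb_t.symm)
        exact absurd (show (1 : Multiplicative (ZMod 2)) = Multiplicative.ofAdd 1 from congrArg Prod.fst h) (by decide)
      fused := hL.fused }
  have D : Walter.Field.ReeData t S.embK n U H w :=
    { emb := hemb
      simple := hLF.simple
      split := hsp
      odd_n := hodd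
      one_lt := by omega
      card_G := hG
      torus := fun v hv => by rw [(hK.torus v hv).1, hr4] }
  obtain ⟨M, R, -, hB, -⟩ := D.exists_bn
  obtain ⟨k, hk⟩ := hK.exists_invol
  obtain ⟨u, hu, huk, hne⟩ := hLF.four k hk
  refine setting_of_data D hB h8X (fun z hz => sq_of_pow_four h8X hk hu huk.symm hne hz)
    hLF.fixfree hk hu huk.symm hne ?_
  have hX := hLF.card
  rw [Nat.card_congr e.toEquiv, Nat.card_prod, Nat.card_eq_fintype_card (α := Multiplicative (ZMod 2)),
    Fintype.card_multiplicative, ZMod.card, hX, Nat.mul_self_sub_mul_self_eq (3 ^ n) 1,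
    mul_comm (3 ^ n - 1) (3 ^ n + 1)]

/-- The witness against trivial intersections. -/
theorem ree_exists_witness (hab : ∀ P : Sylow 2 G, ∀ a b : P, a * b = b * a) {m : ℕ}
    (hm : 1 ≤ m) (hF : Fintype.card F = 3 ^ (2 * m + 1)) (t : G) (ht : orderOf t = 2)
    (hC : Nonempty (Subgroup.centralizer ({t} : Set G) ≃*
      Multiplicative (ZMod 2) × Matrix.ProjectiveSpecialLinearGroup (Fin 2) F))
    (hG : Nat.card G = (3 ^ (2 * m + 1)) ^ 3 * ((3 ^ (2 * m + 1)) ^ 3 + 1) * (3 ^ (2 * m + 1) - 1)) :
    ∃ x k : G, orderOf x = 9 ∧ k ^ 3 = 1 ∧ Commute x k ∧ k ∉ zpowers x := by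
  haveI := Fintype.ofFinite G
  obtain ⟨S⟩ := ree_exists_setting hab hm hF t ht hC hG
  exact S.exists_witness

end Cfsg.Agent.ReeSylowThree
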