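import Mathlib
import Cfsg.Agent.Lib.ReeSylowThree.FromOrder

/-!
In the setting of a Ree order some cyclic subgroup of order nine is not normalised by the centraliser
of its subgroup of order three.
-/

set_option autoImplicit false
set_option linter.style.haveILetI false
set_option linter.unusedSectionVars false

namespace Cfsg.Agent.ReeSylowThree

open Subgroup
open scoped commutatorElement

universe u v

namespace Setting

variable {G : Type u} [Group G] {q : ℕ} (H : Setting G q) [Fintype G]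

theorem top_of_card {Q : Subgroup H.P} (hQ : H.Inv Q) (hle : H.D1 ≤ Q) {x : H.P} (hx : x ∈ Q)
    (hx1 : x ∉ H.D1) : Q = ⊤ := by
  have hq := H.q_ge
  obtain ⟨k, hk3, hk⟩ := H.card_inv hQ
  have hlt : Nat.card H.D1 < Nat.card Q :=
    lt_of_le_of_ne (card_le_of_le hle) fun e => hx1 (by rw [eq_of_le_of_card_ge hle e.ge]; exact hx)
  rw [hk, H.card_D1_sq] at hlt
  have h2 : 2 < k := (Nat.pow_lt_pow_iff_right (by omega)).1 hlt
  exact eq_top_of_card_eq _ (by rw [hk, show k = 3 by omega, H.cardP])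

/-- An invariant subgroup of order `q` is elementary abelian. -/
theorem elementary_of_card {Q : Subgroup H.P} (hQ : H.Inv Q) (hc : Nat.card Q = q) :
    (∀ a ∈ Q, ∀ b ∈ Q, a * b = b * a) ∧ ∀ a ∈ Q, a ^ 3 = 1 := by
  have hq := H.q_ge
  haveI : Fact (Nat.Prime 3) := ⟨Nat.prime_three⟩
  have hsmall : ∀ R : Subgroup H.P, H.Inv R → R ≤ Q → R ≠ ⊥ → R = Q := fun R hR hle hne => by
    obtain ⟨k, -, hk⟩ := H.card_inv hR
    refine eq_of_le_of_card_ge hle ?_
    rcases Nat.eq_zero_or_pos k with rfl | h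
    · exact absurd (eq_bot_of_card_eq _ (by rw [hk, pow_zero])) hne
    · rw [hc, hk]; exact Nat.le_self_pow h.ne' q
  have hp := H.isPGroup_P.to_subgroup Q
  haveI : Nontrivial Q := Finite.one_lt_card_iff_nontrivial.1 (by rw [hc]; omega)
  let Z : Subgroup H.P :=
    { carrier := {a | a ∈ Q ∧ ∀ b ∈ Q, b * a = a * b}
      one_mem' := ⟨one_mem _, fun b _ => by simp⟩
      mul_mem' := fun {a b} ha hb => ⟨mul_mem ha.1 hb.1, fun c hc => by
        rw [← mul_assoc, ha.2 c hc, mul_assoc, hb.2 c hc, ← mul_assoc]⟩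
      inv_mem' := fun {a} ha => ⟨inv_mem ha.1, fun b hb =>
        ((show Commute b a from ha.2 b hb).inv_right).eq⟩ }
  have hZ : H.Inv Z := fun w a ha => ⟨hQ w a ha.1, fun b hb => by
    have h := congrArg (H.wc w) (ha.2 _ (hQ w⁻¹ b hb))
    rwa [map_mul, map_mul, wc_mul, mul_inv_cancel, wc_one] at h⟩
  haveI := hp.center_nontrivial
  obtain ⟨⟨z, hz⟩, hz1⟩ := exists_ne (1 : center Q)
  have hzZ : (z : H.P) ∈ Z := ⟨z.2, fun b hb => congrArg Subtype.val (mem_center_iff.1 hz ⟨b, hb⟩)⟩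
  have hZeq : Z = Q := hsmall Z hZ (fun a ha => ha.1) fun e => hz1 (by
    rw [e, mem_bot] at hzZ
    exact Subtype.ext (Subtype.ext hzZ))
  have hab : ∀ a ∈ Q, ∀ b ∈ Q, a * b = b * a := fun a ha b hb =>
    ((show b ∈ Z by rw [hZeq]; exact hb).2 a ha)
  refine ⟨hab, ?_⟩
  let O : Subgroup H.P :=
    { carrier := {a | a ∈ Q ∧ a ^ 3 = 1}
      one_mem' := ⟨one_mem _, one_pow _⟩
      mul_mem' := fun {a b} ha hb => ⟨mul_mem ha.1 hb.1, by
        rw [(show Commute a b from hab a ha.1 b hb.1).mul_pow, ha.2, hb.2, one_mul]⟩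
      inv_mem' := fun {a} ha => ⟨inv_mem ha.1, by rw [inv_pow, ha.2, inv_one]⟩ }
  have hO : H.Inv O := fun w p hp => ⟨hQ w p hp.1, by rw [← map_pow, hp.2, map_one]⟩
  obtain ⟨f, -, hf, hqf⟩ := H.q_pow
  obtain ⟨a, ha⟩ := exists_prime_orderOf_dvd_card' 3
    (show 3 ∣ Nat.card Q by rw [hc, hqf]; exact dvd_pow_self 3 (by omega))
  have haO : (a : H.P) ∈ O := ⟨a.2, by rw [← Subgroup.coe_pow, ← ha, pow_orderOf_eq_one]; rfl⟩
  have hOeq : O = Q := hsmall O hO (fun a ha => ha.1) fun e => by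
    rw [e, mem_bot] at haO
    rw [show a = 1 from Subtype.ext haO, orderOf_one] at ha
    omega
  exact fun a ha => (show a ∈ O by rw [hOeq]; exact ha).2

theorem D1_elementary : (∀ a ∈ H.D1, ∀ b ∈ H.D1, a * b = b * a) ∧ ∀ a ∈ H.D1, a ^ 3 = 1 := by
  have hcen := H.D2_le_center
  have hUab := H.elementary_of_card (H.inv_fixedT H.inv_top) H.card_fixedT_top
  obtain ⟨hDc, hD3⟩ := H.elementary_of_card H.inv_D2 H.card_D2.1
  have hdec : ∀ a ∈ H.D1, ∃ u ∈ H.fixedT ⊤, ∃ d ∈ H.D2, u * d = a := fun a ha => by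
    obtain ⟨z, hz, -, hfix⟩ := H.fixed_rep (H.tW_middle ha)
    refine ⟨z * a, H.mem_fixedT.2 ⟨mem_top _, hfix⟩, z⁻¹, inv_mem hz, ?_⟩
    rw [mem_center_iff.1 (hcen (inv_mem hz)) (z * a), ← mul_assoc, inv_mul_cancel, one_mul]
  have hcd : ∀ d ∈ H.D2, ∀ a : H.P, Commute a d := fun d hd a => mem_center_iff.1 (hcen hd) a
  refine ⟨fun a ha b hb => ?_, fun a ha => ?_⟩
  · obtain ⟨u, hu, d, hd, rfl⟩ := hdec a ha
    obtain ⟨u', hu', d', hd', rfl⟩ := hdec b hb
    exact ((Commute.mul_left (Commute.mul_right (hUab.1 u hu u' hu') (hcd d' hd' u))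
      ((hcd d hd (u' * d')).symm))).eq
  · obtain ⟨u, hu, d, hd, rfl⟩ := hdec a ha
    rw [(hcd d hd u).mul_pow, hUab.2 u hu, hD3 d hd, one_mul]

theorem pow_three_mem_D1 (a : H.P) : a ^ 3 ∈ H.D1 := by
  have hq := H.q_ge
  let A := Abelianization H.P
  let φ : H.P →* A := Abelianization.of
  have hker : φ.ker = H.D1 := Abelianization.ker_of _
  let R : Subgroup H.P := (powMonoidHom 3 : A →* A).range.comap φ
  have hR : H.Inv R := by
    rintro w p ⟨y, hy⟩
    obtain ⟨b, rfl⟩ := QuotientGroup.mk'_surjective (_root_.commutator H.P) y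
    refine ⟨φ (H.wc w b), ?_⟩
    have h1 : φ (b ^ 3) = φ p := by rw [map_pow]; exact hy
    have h2 : b ^ 3 * p⁻¹ ∈ H.D1 := by
      rw [← hker, MonoidHom.mem_ker, map_mul, map_inv, h1, mul_inv_cancel]
    have h3 := H.inv_derived w _ h2
    change H.wc w (b ^ 3 * p⁻¹) ∈ H.D1 at h3
    rw [← hker, MonoidHom.mem_ker, map_mul, map_mul, map_inv, map_inv, mul_inv_eq_one] at h3
    show (φ (H.wc w b)) ^ 3 = φ (H.wc w p)
    rw [← h3, map_pow, map_pow]
  have hle : H.D1 ≤ R := fun p hp => ⟨1, by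
    rw [← hker, MonoidHom.mem_ker] at hp
    show (1 : A) ^ 3 = φ p
    rw [hp, one_pow]⟩
  by_contra ha
  have htop := H.top_of_card hR hle (show a ^ 3 ∈ R from ⟨φ a, by
    show φ a ^ 3 = φ (a ^ 3)
    rw [map_pow]⟩) ha
  have hsur : Function.Surjective (fun y : A => y ^ 3) := fun y => by
    obtain ⟨p, rfl⟩ := QuotientGroup.mk'_surjective (_root_.commutator H.P) y
    exact (show p ∈ R by rw [htop]; exact mem_top p)
  have hinj := Finite.injective_iff_surjective.2 hsur
  haveI : Fact (Nat.Prime 3) := ⟨Nat.prime_three⟩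
  have hc : Nat.card A = q := by
    have h := H.D1.card_eq_card_quotient_mul_card_subgroup
    rw [H.cardP, H.card_D1_sq, pow_succ' q 2] at h
    exact (Nat.eq_of_mul_eq_mul_right (pow_pos (by omega) 2) h).symm
  obtain ⟨f, -, hf, hqf⟩ := H.q_pow
  obtain ⟨y, hy⟩ := exists_prime_orderOf_dvd_card' 3
    (show 3 ∣ Nat.card A by rw [hc, hqf]; exact dvd_pow_self 3 (by omega))
  have h1 : y = 1 := hinj (show y ^ 3 = (1 : A) ^ 3 by rw [one_pow, ← hy, pow_orderOf_eq_one])
  rw [h1, orderOf_one] at hy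
  omega

include H in
theorem no_trivial_intersection
    (hTI : ∀ x g : G, orderOf x = 9 → Commute g (x ^ 3) → g * x * g⁻¹ ∈ zpowers x) : False := by
  have hq := H.q_ge
  haveI : H.D1.Normal := by infer_instance
  haveI : H.D2.Normal := by infer_instance
  obtain ⟨x, hx⟩ := H.exists_nine
  obtain ⟨hab, h3⟩ := H.D1_elementary
  have hx1 : x ∉ H.D1 := fun h => by
    have := orderOf_dvd_of_pow_eq_one (h3 x h)
    rw [hx] at this
    omega
  have hx3 : x ^ 3 ∈ H.D1 := H.pow_three_mem_D1 x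
  have hne : H.D1 ≠ H.D2 := fun e => by
    have h := H.card_D1_sq
    rw [e, H.card_D2.1] at h
    nlinarith
  have hnorm : ∀ p : H.P, Commute p (x ^ 3) → ∃ i : ℕ, p * x * p⁻¹ = x ^ i := fun p hp => by
    obtain ⟨i, hi⟩ := mem_powers_iff_mem_zpowers.2
      (hTI (x : G) (p : G) (by rw [Subgroup.orderOf_coe, hx]) (congrArg Subtype.val hp))
    exact ⟨i, Subtype.ext (by simpa using hi.symm)⟩
  -- some element of `P'` moves `x`
  obtain ⟨u, hu, hux⟩ : ∃ u ∈ H.D1, u * x ≠ x * u := by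
    by_contra hall
    push Not at hall
    let C : Subgroup H.P :=
      { carrier := {a | ∀ b ∈ H.D1, b * a = a * b}
        one_mem' := fun b _ => by simp
        mul_mem' := fun {a b} ha hb c hc => by
          rw [← mul_assoc, ha c hc, mul_assoc, hb c hc, ← mul_assoc]
        inv_mem' := fun {a} ha b hb => ((show Commute b a from ha b hb).inv_right).eq }
    have hC : H.Inv C := fun w a ha b hb => by
      have h := congrArg (H.wc w) (ha _ (H.inv_derived w⁻¹ b hb))
      rwa [map_mul, map_mul, wc_mul, mul_inv_cancel, wc_one] at h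
    have htop := H.top_of_card hC (fun a ha b hb => hab b hb a ha) (show x ∈ C from fun b hb => hall b hb) hx1
    have h0 : H.D2 = ⊥ := commutator_eq_bot_iff_le_centralizer.2 fun b hb => by
      rw [mem_centralizer_iff]
      intro a _
      exact ((show a ∈ C by rw [htop]; exact mem_top a) b hb).symm
    have := H.card_D2.1
    rw [h0, card_bot] at this
    omega
  -- so the cube of `x` is central
  have hcube : x ^ 3 ∈ H.D2 := by
    obtain ⟨i, hi⟩ := hnorm u (hab u hu _ hx3)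
    have hc : ⁅u, x⁆ ∈ H.D2 := commutator_mem_commutator hu (mem_top x)
    have hc' : ⁅u, x⁆ = x ^ i * x⁻¹ := by rw [commutatorElement_def, hi]
    obtain ⟨j, hj, hj'⟩ : ∃ j : ℕ, j < 9 ∧ ⁅u, x⁆ = x ^ j := ⟨(i + 8) % 9, Nat.mod_lt _ (by norm_num), by
      rw [hc', ← hx, pow_mod_orderOf, pow_add,
        show x ^ 8 = x⁻¹ from eq_inv_of_mul_eq_one_left (by rw [← pow_succ, show 8 + 1 = orderOf x from hx.symm, pow_orderOf_eq_one])]⟩
    have h33 : (x ^ j) ^ 3 = 1 := by rw [← hj']; exact h3 _ (H.D2_le hc)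
    have hd : 9 ∣ j * 3 := hx ▸ orderOf_dvd_of_pow_eq_one (by rw [pow_mul, h33])
    have hj0 : j ≠ 0 := fun e => hux (commutatorElement_eq_one_iff_mul_comm.1 (by rw [hj', e, pow_zero]))
    rw [hj'] at hc
    rcases (show j = 3 ∨ j = 6 by omega) with rfl | rfl
    · exact hc
    · have := pow_mem hc 2
      rwa [← pow_mul, show 6 * 2 = 9 + 3 by norm_num, pow_add, ← hx, pow_orderOf_eq_one, one_mul] at this
  have hcen : ∀ p : H.P, Commute p (x ^ 3) := fun p => mem_center_iff.1 (H.D2_le_center hcube) p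
  have hcomm : ∀ p : H.P, ⁅p, x⁆ ∈ H.D2 := fun p => by
    obtain ⟨i, hi⟩ := hnorm p (hcen p)
    have hc' : ⁅p, x⁆ = x ^ (i + 8) := by
      rw [commutatorElement_def, hi, pow_add,
        show x ^ 8 = x⁻¹ from eq_inv_of_mul_eq_one_left (by rw [← pow_succ, show 8 + 1 = orderOf x from hx.symm, pow_orderOf_eq_one])]
    have hd := H.commutator_mem_D1 p x
    rw [hc'] at hd ⊢
    have h3d : 3 ∣ i + 8 := by
      by_contra hn
      have hdd : x ^ ((i + 8) % 3) ∈ H.D1 := by
        have := mul_mem (inv_mem (pow_mem hx3 ((i + 8) / 3))) hd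
        rwa [← pow_mul, inv_mul_eq_iff_eq_mul.2] at this
        rw [← pow_add, Nat.div_add_mod]
      rcases (show (i + 8) % 3 = 1 ∨ (i + 8) % 3 = 2 by omega) with h | h
      · rw [h, pow_one] at hdd; exact hx1 hdd
      · rw [h] at hdd
        have := mul_mem hx3 (inv_mem hdd)
        rw [pow_succ', mul_inv_cancel_right] at this
        exact hx1 this
    obtain ⟨k, hk⟩ := h3d
    rw [hk, pow_mul]
    exact pow_mem hcube k
  let Q : Subgroup H.P := (center (H.P ⧸ H.D2)).comap (QuotientGroup.mk' H.D2)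
  have hQmem : ∀ a, a ∈ Q ↔ ∀ p : H.P, ⁅p, a⁆ ∈ H.D2 := fun a => by
    refine ⟨fun h p => (QuotientGroup.eq_one_iff _).1 ?_, fun h => mem_center_iff.2 fun y => ?_⟩
    · show QuotientGroup.mk' H.D2 ⁅p, a⁆ = 1
      rw [map_commutatorElement]
      exact commutatorElement_eq_one_iff_mul_comm.2 (mem_center_iff.1 h _)
    · obtain ⟨p, rfl⟩ := QuotientGroup.mk'_surjective H.D2 y
      refine commutatorElement_eq_one_iff_mul_comm.1 ?_
      rw [← map_commutatorElement]
      exact (QuotientGroup.eq_one_iff _).2 (h p)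
  have hQ : H.Inv Q := fun w a ha => (hQmem _).2 fun p => by
    have h := H.inv_D2 w _ ((hQmem a).1 ha (H.wc w⁻¹ p))
    rwa [map_commutatorElement, wc_mul, mul_inv_cancel, wc_one] at h
  have hD1Q : H.D1 ≤ Q := fun a ha => (hQmem a).2 fun p => by
    have h := inv_mem (commutator_mem_commutator ha (mem_top p) : ⁅a, p⁆ ∈ H.D2)
    rwa [commutatorElement_inv] at h
  have htop := H.top_of_card hQ hD1Q ((hQmem x).2 hcomm) hx1
  refine hne (le_antisymm ?_ H.D2_le)
  show _root_.commutator H.P ≤ H.D2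
  rw [_root_.commutator_def]
  exact commutator_le.2 fun a _ b _ => (hQmem b).1 (by rw [htop]; exact mem_top b) a

end Setting

variable {G : Type u} [Group G] [Finite G] {F : Type v} [Field F] [Fintype F]

/-- No group of Ree order has trivial intersections on its cyclic subgroups of order nine. -/
theorem ree_no_trivial_intersection [IsSimpleGroup G] (hab : ∀ P : Sylow 2 G, ∀ a b : P, a * b = b * a) {m : ℕ}
    (hm : 1 ≤ m) (hF : Fintype.card F = 3 ^ (2 * m + 1)) (t : G) (ht : orderOf t = 2)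
    (hC : Nonempty (Subgroup.centralizer ({t} : Set G) ≃*
      Multiplicative (ZMod 2) × Matrix.ProjectiveSpecialLinearGroup (Fin 2) F))
    (hG : Nat.card G = (3 ^ (2 * m + 1)) ^ 3 * ((3 ^ (2 * m + 1)) ^ 3 + 1) * (3 ^ (2 * m + 1) - 1))
    (hTI : ∀ x g : G, orderOf x = 9 → Commute g (x ^ 3) → g * x * g⁻¹ ∈ zpowers x) : False := by
  haveI := Fintype.ofFinite G
  obtain ⟨S⟩ := ree_exists_setting hab hm hF t ht hC hG
  exact S.no_trivial_intersection hTI

end Cfsg.Agent.ReeSylowThree
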